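import Cfsg.Agent.Lib.PrimeInertial.Setting
import Cfsg.Agent.Lib.SecondMain.Principal
import Cfsg.Agent.Lib.Char.Orth
import Cfsg.Agent.Lib.Char.Linear
import Cfsg.Agent.Lib.Blocks.FreeInertial.Units
import Cfsg.Agent.Lib.Blocks.Defect

/-!
# The principal 2-block at the sections of `Q`

* `apply_shift`, `sum_sec_eq_zero`, `col_orth`, `col_one`, `sum_singular_apply`;
* `act`: the powers of the inertial automorphism of `Q`;
* `mult`, `coef`: multiplicities of linear characters of `Q`, and `m 1 - m μ`.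
-/

set_option autoImplicit false

open scoped Classical ComplexConjugate

namespace Cfsg.Agent.PrimeInertial.Setting

open Subgroup Cfsg Cfsg.Agent

universe u

variable {X : Type u} [Group X] [Finite X] {Q : Sylow 2 X} {n : X} {q : ℕ}

theorem orderOf_two_pow (_S : Setting Q n q) {u : X} (hu : u ∈ (Q : Subgroup X)) :
    ∃ k, orderOf u = 2 ^ k := by
  obtain ⟨k, hk⟩ := IsPGroup.iff_orderOf.1 Q.isPGroup' ⟨u, hu⟩
  exact ⟨k, by rwa [Subgroup.orderOf_mk] at hk⟩

theorem pp_mul (S : Setting Q n q) {u s : X} (hu : u ∈ (Q : Subgroup X)) (hu1 : u ≠ 1)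
    (hs : s ∈ Cfsg.centralizerPPrimeCore 2 u) :
    haveI : Fact (Nat.Prime 2) := ⟨Nat.prime_two⟩
    FrobSection.pp 2 (u * s) = u := by
  haveI : Fact (Nat.Prime 2) := ⟨Nat.prime_two⟩
  obtain ⟨hc, hodd⟩ := (S.mem_core hu hu1).1 hs
  exact FrobSection.pp_eq ⟨s, rfl, hc.symm, S.orderOf_two_pow hu, hodd⟩

variable {M : Ideal AlgInt}

/-- Principal characters are constant on the sections. -/
theorem apply_shift (S : Setting Q n q) (hM : IsPModular 2 M) {u : X} (hu : u ∈ (Q : Subgroup X))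
    (hu1 : u ≠ 1) {s : X} (hs : s ∈ Cfsg.centralizerPPrimeCore 2 u) {χ : IrrCharacter X}
    (hχ : χ ∈ principalBlock M X) : (χ : X → ℂ) (u * s) = (χ : X → ℂ) u := by
  haveI : Fact (Nat.Prime 2) := ⟨Nat.prime_two⟩
  obtain ⟨hc, hodd⟩ := (S.mem_core hu hu1).1 hs
  exact SecondMain.apply_shift_principal hM (S.orderOf_two_pow hu)
    (H := centralizer ({u} : Set X)) (fun g => ⟨fun hg => (mem_centralizer_singleton_iff.1 hg).symm,
      fun hg => mem_centralizer_singleton_iff.2 hg.eq.symm⟩)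
    (S.complement hu hu1) hχ (s := ⟨s, mem_centralizer_singleton_iff.2 hc⟩)
    (by rwa [Subgroup.orderOf_mk])

variable [Fintype X] [Fintype (IrrCharacter X)]

theorem card_core_filter (_S : Setting Q n q) (u : X) :
    (Finset.univ.filter fun s : X => s ∈ Cfsg.centralizerPPrimeCore 2 u).card =
      Nat.card (Cfsg.centralizerPPrimeCore 2 u) := by
  rw [Nat.card_eq_fintype_card, Fintype.card_subtype]

/-- The squares of the principal values at `u` sum to `|Q|`. -/
theorem sum_normSq (S : Setting Q n q) (hM : IsPModular 2 M) {u : X} (hu : u ∈ (Q : Subgroup X))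
    (hu1 : u ≠ 1) :
    ∑ χ ∈ Finset.univ.filter (fun χ : IrrCharacter X => χ ∈ principalBlock M X),
      (χ : X → ℂ) u * conj ((χ : X → ℂ) u) = (Nat.card (Q : Subgroup X) : ℂ) := by
  haveI : Fact (Nat.Prime 2) := ⟨Nat.prime_two⟩
  have h := SecondMain.sum_sq_principal_of_complement hM (S.orderOf_two_pow hu)
    (H := centralizer ({u} : Set X)) (fun g => ⟨fun hg => (mem_centralizer_singleton_iff.1 hg).symm,
      fun hg => mem_centralizer_singleton_iff.2 hg.eq.symm⟩)
    (S.complement hu hu1)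
  have e : (Finset.univ.filter fun s : centralizer ({u} : Set X) => ¬ 2 ∣ orderOf s).card =
      Nat.card (Cfsg.centralizerPPrimeCore 2 u) := by
    rw [← S.card_core_filter u]
    refine Finset.card_bij (fun s _ => (s : X)) (fun s hs => ?_)
      (fun a _ b _ h => Subtype.ext h) fun x hx => ?_
    · refine Finset.mem_filter.2 ⟨Finset.mem_univ _, (S.mem_core hu hu1).2
        ⟨mem_centralizer_singleton_iff.1 s.2, ?_⟩⟩
      rw [Subgroup.orderOf_coe]
      exact (Finset.mem_filter.1 hs).2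
    · obtain ⟨hc, hodd⟩ := (S.mem_core hu hu1).1 (Finset.mem_filter.1 hx).2
      exact ⟨⟨x, mem_centralizer_singleton_iff.2 hc⟩,
        Finset.mem_filter.2 ⟨Finset.mem_univ _, by rwa [Subgroup.orderOf_mk]⟩, rfl⟩
  rw [e, S.card_centralizer hu hu1, Nat.cast_mul, finsum_mem_eq_toFinset_sum] at h
  have h0 : (Nat.card (Cfsg.centralizerPPrimeCore 2 u) : ℂ) ≠ 0 :=
    Nat.cast_ne_zero.2 Nat.card_pos.ne'
  rw [← mul_left_cancel₀ h0 h]
  exact Finset.sum_congr (by ext; simp) fun _ _ => rfl

/-- The sum of a column over a section. -/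
noncomputable def secSum (_S : Setting Q n q) (χ : IrrCharacter X) (u : X) : ℂ :=
  ∑ s ∈ Finset.univ.filter (fun s : X => s ∈ Cfsg.centralizerPPrimeCore 2 u), (χ : X → ℂ) (u * s)

theorem secSum_principal (S : Setting Q n q) (hM : IsPModular 2 M) {u : X}
    (hu : u ∈ (Q : Subgroup X)) (hu1 : u ≠ 1) {χ : IrrCharacter X} (hχ : χ ∈ principalBlock M X) :
    S.secSum χ u = (Nat.card (Cfsg.centralizerPPrimeCore 2 u) : ℂ) * (χ : X → ℂ) u := by
  rw [secSum, Finset.sum_congr rfl fun s hs => S.apply_shift hM hu hu1 (Finset.mem_filter.1 hs).2 hχ,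
    Finset.sum_const, S.card_core_filter, nsmul_eq_mul]

theorem sum_secSum_sq (S : Setting Q n q) {u : X} (hu : u ∈ (Q : Subgroup X)) (hu1 : u ≠ 1) :
    ∑ χ : IrrCharacter X, S.secSum χ u * conj (S.secSum χ u) =
      (Nat.card (Cfsg.centralizerPPrimeCore 2 u) : ℂ) * Nat.card (centralizer ({u} : Set X)) := by
  simp only [secSum, map_sum, Finset.sum_mul_sum]
  rw [Finset.sum_comm]
  rw [Finset.sum_congr rfl fun s _ => Finset.sum_comm]
  set O := Finset.univ.filter (fun s : X => s ∈ Cfsg.centralizerPPrimeCore 2 u) with hO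
  have hinner : ∀ s ∈ O, ∑ s' ∈ O, ∑ χ : IrrCharacter X,
      (χ : X → ℂ) (u * s) * conj ((χ : X → ℂ) (u * s')) =
      (Nat.card (centralizer ({u} : Set X)) : ℂ) := by
    intro s hs
    simp only [Char.column_orth]
    rw [← Finset.sum_filter, Finset.sum_const, nsmul_eq_mul, ← Nat.cast_mul]
    norm_cast
    obtain ⟨hsc, hsodd⟩ := (S.mem_core hu hu1).1 (Finset.mem_filter.1 hs).2
    set T := Finset.univ.filter (fun c : X => c ∈ centralizer ({u} : Set X)) with hT
    rw [Nat.card_eq_fintype_card, Nat.card_eq_fintype_card, Fintype.card_subtype (α := X)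
      (fun c => c ∈ centralizer ({u} : Set X)), ← hT]
    rw [Finset.card_eq_sum_card_fiberwise (s := T) (f := fun c => c * s * c⁻¹)
      (t := O.filter fun s' => IsConj (u * s) (u * s'))]
    · refine (Finset.sum_const_nat fun s' hs' => ?_).symm
      obtain ⟨hs'O, hconj⟩ := Finset.mem_filter.1 hs'
      obtain ⟨hs'c, hs'odd⟩ := (S.mem_core hu hu1).1 (Finset.mem_filter.1 hs'O).2
      obtain ⟨c, hc⟩ := isConj_iff.1 hconj
      haveI : Fact (Nat.Prime 2) := ⟨Nat.prime_two⟩
      have hsep : ∀ y : X, y * (u * s) * y⁻¹ = u * s' → y * u * y⁻¹ = u ∧ y * s * y⁻¹ = s' := by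
        intro y hy
        have h1 := FrobSection.pp_conj (p := 2) y (u * s)
        rw [hy, S.pp_mul hu hu1 (Finset.mem_filter.1 hs'O).2,
          S.pp_mul hu hu1 (Finset.mem_filter.1 hs).2] at h1
        refine ⟨h1.symm, mul_left_cancel (a := y * u * y⁻¹) ?_⟩
        calc y * u * y⁻¹ * (y * s * y⁻¹) = y * (u * s) * y⁻¹ := by group
          _ = _ := by rw [hy, ← h1]
      obtain ⟨hcu, hcs⟩ := hsep c hc
      rw [hT, Finset.filter_filter, ← Fintype.card_subtype]
      refine Fintype.card_congr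
        { toFun := fun y => ⟨c⁻¹ * y, ?_⟩
          invFun := fun d => ⟨c * d, ?_⟩
          left_inv := fun y => Subtype.ext (mul_inv_cancel_left _ _)
          right_inv := fun d => Subtype.ext (inv_mul_cancel_left _ _) }
      · refine mem_centralizer_singleton_iff.2 (mul_inv_eq_iff_eq_mul.1 ?_)
        have hyu : (y : X) * u * (y : X)⁻¹ = u :=
          mul_inv_eq_iff_eq_mul.2 (mem_centralizer_singleton_iff.1 y.2.1)
        calc c⁻¹ * (y : X) * (u * s) * (c⁻¹ * (y : X))⁻¹
            = c⁻¹ * (((y : X) * u * (y : X)⁻¹) * ((y : X) * s * (y : X)⁻¹)) * c := by group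
          _ = c⁻¹ * (u * s') * c := by rw [hyu, y.2.2]
          _ = u * s := by rw [← hc]; group
      · have hd := mul_inv_eq_iff_eq_mul.2 (mem_centralizer_singleton_iff.1 d.2)
        obtain ⟨h1, h2⟩ := hsep (c * d) (by
          calc c * (d : X) * (u * s) * (c * (d : X))⁻¹
              = c * ((d : X) * (u * s) * (d : X)⁻¹) * c⁻¹ := by group
            _ = u * s' := by rw [hd, hc])
        exact ⟨mem_centralizer_singleton_iff.2 (mul_inv_eq_iff_eq_mul.1 h1), h2⟩
    · intro c hc
      simp only [hT, Finset.mem_coe, Finset.mem_filter, Finset.mem_univ, true_and] at hc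
      have hcu := mem_centralizer_singleton_iff.1 hc
      refine Finset.mem_coe.2 (Finset.mem_filter.2 ⟨Finset.mem_filter.2 ⟨Finset.mem_univ _,
        (S.mem_core hu hu1).2 ⟨?_, by rwa [SecondMain.orderOf_conj]⟩⟩, isConj_iff.2 ⟨c, ?_⟩⟩)
      · have h := hsc.map (MulAut.conj c).toMonoidHom
        simpa [mul_inv_eq_iff_eq_mul.2 hcu] using h
      · calc c * (u * s) * c⁻¹ = (c * u * c⁻¹) * (c * s * c⁻¹) := by group
          _ = _ := by rw [mul_inv_eq_iff_eq_mul.2 hcu]
  rw [Finset.sum_congr rfl hinner, Finset.sum_const, hO, S.card_core_filter, nsmul_eq_mul]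

/-- Characters outside the principal block vanish on the sections in the mean. -/
theorem secSum_eq_zero (S : Setting Q n q) (hM : IsPModular 2 M) {u : X}
    (hu : u ∈ (Q : Subgroup X)) (hu1 : u ≠ 1) {χ : IrrCharacter X} (hχ : χ ∉ principalBlock M X) :
    S.secSum χ u = 0 := by
  have hall := S.sum_secSum_sq hu hu1
  rw [← Finset.sum_filter_add_sum_filter_not _ (fun ψ : IrrCharacter X => ψ ∈ principalBlock M X),
    Finset.sum_congr rfl fun ψ hψ => by rw [S.secSum_principal hM hu hu1 (Finset.mem_filter.1 hψ).2]]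
    at hall
  have e : ∑ ψ ∈ Finset.univ.filter (fun ψ : IrrCharacter X => ψ ∈ principalBlock M X),
      ((Nat.card (Cfsg.centralizerPPrimeCore 2 u) : ℂ) * (ψ : X → ℂ) u) *
        conj ((Nat.card (Cfsg.centralizerPPrimeCore 2 u) : ℂ) * (ψ : X → ℂ) u) =
      (Nat.card (Cfsg.centralizerPPrimeCore 2 u) : ℂ) * Nat.card (centralizer ({u} : Set X)) := by
    rw [S.card_centralizer hu hu1, Nat.cast_mul, ← S.sum_normSq hM hu hu1, Finset.mul_sum,
      Finset.mul_sum]
    refine Finset.sum_congr rfl fun ψ _ => ?_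
    rw [map_mul, Complex.conj_natCast]; ring
  rw [e, add_eq_left] at hall
  have hre : ∑ ψ ∈ Finset.univ.filter (fun ψ : IrrCharacter X => ¬ ψ ∈ principalBlock M X),
      Complex.normSq (S.secSum ψ u) = 0 := by
    apply Complex.ofReal_injective
    rw [Complex.ofReal_sum, Complex.ofReal_zero, ← hall]
    exact Finset.sum_congr rfl fun ψ _ => (Complex.mul_conj _).symm
  exact Complex.normSq_eq_zero.1 ((Finset.sum_eq_zero_iff_of_nonneg fun ψ _ =>
    Complex.normSq_nonneg _).1 hre χ (Finset.mem_filter.2 ⟨Finset.mem_univ _, hχ⟩))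

theorem sum_secSum_col (S : Setting Q n q) (hM : IsPModular 2 M) {u : X}
    (hu : u ∈ (Q : Subgroup X)) (hu1 : u ≠ 1) (F : IrrCharacter X → ℂ) :
    ∑ χ : IrrCharacter X, S.secSum χ u * F χ =
      (Nat.card (Cfsg.centralizerPPrimeCore 2 u) : ℂ) *
        ∑ χ ∈ Finset.univ.filter (fun χ : IrrCharacter X => χ ∈ principalBlock M X),
          (χ : X → ℂ) u * F χ := by
  rw [Finset.mul_sum, Finset.sum_filter]
  refine Finset.sum_congr rfl fun χ _ => ?_
  split_ifs with h
  · rw [S.secSum_principal hM hu hu1 h, mul_assoc]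
  · rw [S.secSum_eq_zero hM hu hu1 h, zero_mul]

/-- Orthogonality of the principal columns at the sections. -/
theorem col_orth (S : Setting Q n q) (hM : IsPModular 2 M) {u v : X}
    (hu : u ∈ (Q : Subgroup X)) (hu1 : u ≠ 1) (hv : v ∈ (Q : Subgroup X)) (hv1 : v ≠ 1) :
    ∑ χ ∈ Finset.univ.filter (fun χ : IrrCharacter X => χ ∈ principalBlock M X),
      (χ : X → ℂ) u * conj ((χ : X → ℂ) v) =
        if IsConj u v then (Nat.card (Q : Subgroup X) : ℂ) else 0 := by
  split_ifs with huv
  · obtain ⟨c, rfl⟩ := isConj_iff.1 huv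
    simp only [Char.IsIrrCharacter.isClassFunction (Subtype.prop _) u c]
    exact S.sum_normSq hM hu hu1
  have h : ∑ χ : IrrCharacter X, S.secSum χ u * conj (S.secSum χ v) = 0 := by
    simp only [secSum, map_sum, Finset.sum_mul_sum]
    rw [Finset.sum_comm, Finset.sum_congr rfl fun s _ => Finset.sum_comm]
    refine Finset.sum_eq_zero fun s hs => Finset.sum_eq_zero fun s' hs' => ?_
    rw [Char.column_orth, if_neg]
    intro h
    haveI : Fact (Nat.Prime 2) := ⟨Nat.prime_two⟩
    obtain ⟨y, hy⟩ := isConj_iff.1 h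
    have h1 := FrobSection.pp_conj (p := 2) y (u * s)
    rw [hy, S.pp_mul hv hv1 (Finset.mem_filter.1 hs').2,
      S.pp_mul hu hu1 (Finset.mem_filter.1 hs).2] at h1
    exact huv (isConj_iff.2 ⟨y, h1.symm⟩)
  rw [S.sum_secSum_col hM hu hu1] at h
  have h2 : ∀ χ ∈ Finset.univ.filter (fun χ : IrrCharacter X => χ ∈ principalBlock M X),
      (χ : X → ℂ) u * conj (S.secSum χ v) = (Nat.card (Cfsg.centralizerPPrimeCore 2 v) : ℂ) *
        ((χ : X → ℂ) u * conj ((χ : X → ℂ) v)) := fun χ hχ => by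
    rw [S.secSum_principal hM hv hv1 (Finset.mem_filter.1 hχ).2, map_mul, Complex.conj_natCast]
    ring
  rw [Finset.sum_congr rfl h2, ← Finset.mul_sum] at h
  simpa [Nat.card_pos.ne'] using h

/-- The principal columns are orthogonal to the degrees. -/
theorem col_one (S : Setting Q n q) (hM : IsPModular 2 M) {u : X}
    (hu : u ∈ (Q : Subgroup X)) (hu1 : u ≠ 1) :
    ∑ χ ∈ Finset.univ.filter (fun χ : IrrCharacter X => χ ∈ principalBlock M X),
      (χ : X → ℂ) u * conj ((χ : X → ℂ) 1) = 0 := by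
  have h : ∑ χ : IrrCharacter X, S.secSum χ u * conj ((χ : X → ℂ) 1) = 0 := by
    simp only [secSum, Finset.sum_mul]
    rw [Finset.sum_comm]
    refine Finset.sum_eq_zero fun s hs => ?_
    rw [Char.column_orth, if_neg]
    intro h
    haveI : Fact (Nat.Prime 2) := ⟨Nat.prime_two⟩
    have := S.pp_mul hu hu1 (Finset.mem_filter.1 hs).2
    rw [isConj_one_left.1 h, FrobSection.pp_one] at this
    exact hu1 this.symm
  rw [S.sum_secSum_col hM hu hu1] at h
  simpa [Nat.card_pos.ne'] using h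

/-- The sum of a principal character over the singular elements. -/
theorem sum_singular_apply (S : Setting Q n q) (hM : IsPModular 2 M) (χ : IrrCharacter X) :
    ∑ g ∈ Finset.univ.filter (fun g : X => 2 ∣ orderOf g), (χ : X → ℂ) g =
      if χ ∈ principalBlock M X then (Nat.card X : ℂ) / ((q : ℂ) * Nat.card (Q : Subgroup X)) *
        ∑ u ∈ Finset.univ.filter (fun u : (Q : Subgroup X) => u ≠ 1), (χ : X → ℂ) u
      else 0 := by
  rw [S.sum_singular (χ : X → ℂ) (Char.IsIrrCharacter.isClassFunction χ.2)]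
  have h1 : ∀ u ∈ Finset.univ.filter (fun u : (Q : Subgroup X) => u ≠ 1),
      ∑ s ∈ Finset.univ.filter (fun s : X => s ∈ Cfsg.centralizerPPrimeCore 2 (u : X)),
        (χ : X → ℂ) ((u : X) * s) = S.secSum χ (u : X) := fun u _ => rfl
  rw [Finset.sum_congr rfl fun u hu => by rw [h1 u hu]]
  split_ifs with h
  · congr 1
    refine Finset.sum_congr rfl fun u hu => ?_
    rw [S.secSum_principal hM u.2 (fun e => (Finset.mem_filter.1 hu).2 (Subtype.ext e)) h,
      inv_mul_cancel_left₀ (Nat.cast_ne_zero.2 Nat.card_pos.ne')]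
  · rw [Finset.sum_eq_zero fun u hu => ?_, mul_zero]
    rw [S.secSum_eq_zero hM u.2 (fun e => (Finset.mem_filter.1 hu).2 (Subtype.ext e)) h, mul_zero]

end Cfsg.Agent.PrimeInertial.Setting
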