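import Cfsg.Agent.Lib.PrimeInertial.Columns
import Cfsg.Agent.Lib.Char.Induced

/-!
# Multiplicities of linear characters of `Q` in the principal characters

`coef χ μ = m 1 - m μ`, where `m μ` is the multiplicity of `μ` in `χ` on `Q`.

* `apply_eq_neg_sum`: `χ u = - ∑ coef χ μ * theta μ u` over representatives `R` of the orbits;
* `gram`, `coef_degree`, `coef_one`, `degree_eq`;
* `theta_sum`, `theta_mul_sum`.
-/

set_option autoImplicit false

open scoped Classical ComplexConjugate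

namespace Cfsg.Agent.PrimeInertial.Setting

open Subgroup Cfsg Cfsg.Agent

universe u

variable {X : Type u} [Group X] [Finite X] {Q : Sylow 2 X} {n : X} {q : ℕ}

/-- The commutative group structure of `Q`. -/
@[reducible] noncomputable def commQ (S : Setting Q n q) : CommGroup (Q : Subgroup X) :=
  { (inferInstance : Group (Q : Subgroup X)) with
    mul_comm := fun a b => Subtype.ext (S.comm a a.2 b b.2) }

/-- The action of `n ^ i` on `Q`. -/
def act (S : Setting Q n q) (i : ℕ) : (Q : Subgroup X) →* (Q : Subgroup X) where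
  toFun x := ⟨n ^ i * x * (n ^ i)⁻¹, S.conj_mem i x.2⟩
  map_one' := Subtype.ext (by simp)
  map_mul' x y := Subtype.ext (by show _ = _ * _; push_cast; group)

@[simp] theorem coe_act (S : Setting Q n q) (i : ℕ) (x : (Q : Subgroup X)) :
    (S.act i x : X) = n ^ i * x * (n ^ i)⁻¹ := rfl

theorem act_act (S : Setting Q n q) (i j : ℕ) (x : (Q : Subgroup X)) :
    S.act i (S.act j x) = S.act (i + j) x :=
  Subtype.ext (conj_pow_conj n i j x)

theorem act_mod (S : Setting Q n q) (i : ℕ) : S.act (i % q) = S.act i :=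
  MonoidHom.ext fun x => Subtype.ext (S.conj_mod i x.2).symm

theorem act_zero (S : Setting Q n q) (x : (Q : Subgroup X)) : S.act 0 x = x :=
  Subtype.ext (by simp)

theorem act_injective (S : Setting Q n q) (i : ℕ) : Function.Injective (S.act i) := fun x y h =>
  Subtype.ext (mul_left_cancel (mul_right_cancel (congrArg Subtype.val h)))

theorem act_bijective (S : Setting Q n q) (i : ℕ) : Function.Bijective (S.act i) :=
  ⟨S.act_injective i, Finite.injective_iff_surjective.1 (S.act_injective i)⟩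

theorem act_ne_one (S : Setting Q n q) (i : ℕ) {x : (Q : Subgroup X)} (hx : x ≠ 1) :
    S.act i x ≠ 1 := fun h => hx (S.act_injective i (by rw [h, map_one]))

theorem hom_eq_one_iff {A : Type*} [Group A] (μ : A →* ℂˣ) : μ = 1 ↔ ∀ x, μ x = 1 :=
  ⟨fun h x => by rw [h]; rfl, fun h => MonoidHom.ext h⟩

/-- A linear character fixed by a nontrivial power of the action is trivial. -/
theorem comp_act_inj (S : Setting Q n q) {μ : (Q : Subgroup X) →* ℂˣ} (hμ : μ ≠ 1) {i j : ℕ}
    (hi : i < q) (hj : j < q) (h : μ.comp (S.act i) = μ.comp (S.act j)) : i = j := by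
  wlog hij : i ≤ j generalizing i j with H
  · exact (H hj hi h.symm (by omega)).symm
  by_contra hne
  set k := j - i with hk
  have hfix : ∀ x, μ (S.act k x) = μ x := fun x => by
    obtain ⟨y, rfl⟩ := (S.act_bijective i).2 x
    rw [S.act_act, show k + i = j by omega]
    exact (DFunLike.congr_fun h y).symm
  let d : (Q : Subgroup X) →* (Q : Subgroup X) :=
    { toFun := fun x => S.act k x * x⁻¹
      map_one' := by simp
      map_mul' := fun x y => by
        letI := S.commQ
        rw [map_mul, mul_inv_rev, mul_comm y⁻¹]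
        exact mul_mul_mul_comm _ _ _ _ }
  have hinj : Function.Injective d := by
    refine (injective_iff_map_eq_one d).2 fun x hx => ?_
    by_contra hx1
    have h1 : S.act k x = x := mul_inv_eq_one.1 hx
    have := Nat.eq_zero_of_dvd_of_lt (S.free x.2 (fun e => hx1 (Subtype.ext e))
      (congrArg Subtype.val h1)) (by omega)
    omega
  refine hμ (MonoidHom.ext fun x => ?_)
  obtain ⟨y, rfl⟩ := (Finite.injective_iff_surjective.1 hinj) x
  show μ (S.act k y * y⁻¹) = 1
  rw [map_mul, hfix, map_inv, mul_inv_cancel]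

/-- Representatives of the orbits of the nontrivial linear characters. -/
structure Reps (S : Setting Q n q) (R : Finset ((Q : Subgroup X) →* ℂˣ)) : Prop where
  ne_one : ∀ μ ∈ R, μ ≠ 1
  cover : ∀ ν : (Q : Subgroup X) →* ℂˣ, ν ≠ 1 → ∃ μ ∈ R, ∃ i < q, ν = μ.comp (S.act i)
  unique : ∀ μ ∈ R, ∀ μ' ∈ R, ∀ i : ℕ, μ' = μ.comp (S.act i) → μ' = μ

theorem comp_act_comp (S : Setting Q n q) (μ : (Q : Subgroup X) →* ℂˣ) (i j : ℕ) :
    (μ.comp (S.act i)).comp (S.act j) = μ.comp (S.act (i + j)) :=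
  MonoidHom.ext fun x => by simp only [MonoidHom.comp_apply, S.act_act]

theorem comp_act_back (S : Setting Q n q) (μ : (Q : Subgroup X) →* ℂˣ) (i : ℕ) :
    (μ.comp (S.act i)).comp (S.act (q - i % q)) = μ := by
  have := Nat.mod_lt i S.pos
  have e : i + (q - i % q) = q * (i / q + 1) := by
    have := Nat.div_add_mod i q
    rw [mul_add, mul_one]; omega
  rw [S.comp_act_comp, ← S.act_mod, e, Nat.mul_mod_right]
  exact MonoidHom.ext fun x => by simp [S.act_zero]

theorem exists_reps (S : Setting Q n q) : ∃ R, S.Reps R := by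
  letI := S.commQ
  haveI : NeZero (Monoid.exponent (Q : Subgroup X) : ℂ) :=
    ⟨Nat.cast_ne_zero.mpr Monoid.exponent_ne_zero_of_finite⟩
  have hfin : Finite ((Q : Subgroup X) →* ℂˣ) := Nat.finite_of_card_ne_zero (by
    rw [FreeInertial.card_dual]; exact Nat.card_pos.ne')
  have := Fintype.ofFinite ((Q : Subgroup X) →* ℂˣ)
  let r : Setoid ((Q : Subgroup X) →* ℂˣ) :=
    { r := fun μ ν => ∃ i : ℕ, ν = μ.comp (S.act i)
      iseqv := ⟨fun μ => ⟨0, MonoidHom.ext fun x => by simp [S.act_zero]⟩,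
        fun {μ ν} h => by
          obtain ⟨i, rfl⟩ := h
          exact ⟨q - i % q, (S.comp_act_back μ i).symm⟩,
        fun {μ ν ξ} h h' => by
          obtain ⟨i, rfl⟩ := h
          obtain ⟨j, rfl⟩ := h'
          exact ⟨i + j, S.comp_act_comp μ i j⟩⟩ }
  have := Fintype.ofFinite (Quotient r)
  refine ⟨((Finset.univ : Finset (Quotient r)).image Quotient.out).filter (fun μ => μ ≠ 1),
    ⟨fun μ hμ => (Finset.mem_filter.1 hμ).2, fun ν hν => ?_, fun μ hμ μ' hμ' i hi => ?_⟩⟩
  · obtain ⟨i, hi⟩ := Quotient.mk_out (s := r) ν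
    refine ⟨(Quotient.mk r ν).out, Finset.mem_filter.2 ⟨Finset.mem_image_of_mem _
      (Finset.mem_univ _), fun h => hν ?_⟩, i % q, Nat.mod_lt _ S.pos, by rw [S.act_mod]; exact hi⟩
    rw [hi, h, MonoidHom.one_comp]
  · obtain ⟨a, -, rfl⟩ := Finset.mem_image.1 (Finset.mem_filter.1 hμ).1
    obtain ⟨b, -, rfl⟩ := Finset.mem_image.1 (Finset.mem_filter.1 hμ').1
    exact congrArg Quotient.out
      ((Quotient.out_eq a).symm.trans ((Quotient.sound (s := r) (a := a.out) (b := b.out) ⟨i, hi⟩).trans (Quotient.out_eq b))).symm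

variable [Fintype ((Q : Subgroup X) →* ℂˣ)]

/-- The sum over the nontrivial characters, by orbits. -/
theorem sum_dual_eq [DecidableEq ((Q : Subgroup X) →* ℂˣ)] (S : Setting Q n q) {R : Finset ((Q : Subgroup X) →* ℂˣ)} (hR : S.Reps R)
    {A : Type*} [AddCommMonoid A] (F : ((Q : Subgroup X) →* ℂˣ) → A) :
    ∑ ν ∈ Finset.univ.erase 1, F ν = ∑ μ ∈ R, ∑ i ∈ Finset.range q, F (μ.comp (S.act i)) := by
  rw [← Finset.sum_product']
  refine (Finset.sum_bij (fun p _ => p.1.comp (S.act p.2)) (fun p hp => ?_) (fun p hp p' hp' h => ?_)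
    (fun ν hν => ?_) fun p _ => rfl).symm
  · obtain ⟨hμ, hi⟩ := Finset.mem_product.1 hp
    refine Finset.mem_erase.2 ⟨fun h => hR.ne_one _ hμ (MonoidHom.ext fun x => ?_), Finset.mem_univ _⟩
    obtain ⟨y, rfl⟩ := (S.act_bijective p.2).2 x
    exact DFunLike.congr_fun h y
  · obtain ⟨hμ, hi⟩ := Finset.mem_product.1 hp
    obtain ⟨hμ', hi'⟩ := Finset.mem_product.1 hp'
    have h1 : p'.1 = (p.1.comp (S.act p.2)).comp (S.act (q - p'.2 % q)) := by
      rw [h, S.comp_act_back]
    rw [S.comp_act_comp] at h1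
    have h2 := hR.unique _ hμ _ hμ' _ h1
    rw [h2] at h
    exact Prod.ext h2.symm (S.comp_act_inj (hR.ne_one _ hμ) (Finset.mem_range.1 hi)
      (Finset.mem_range.1 hi') h)
  · obtain ⟨μ, hμ, i, hi, rfl⟩ := hR.cover ν (Finset.mem_erase.1 hν).1
    exact ⟨(μ, i), Finset.mem_product.2 ⟨hμ, Finset.mem_range.2 hi⟩, rfl⟩

/-- The order of `Q` from the orbits. -/
theorem card_eq_reps (S : Setting Q n q) {R : Finset ((Q : Subgroup X) →* ℂˣ)} (hR : S.Reps R) :
    Nat.card (Q : Subgroup X) = q * R.card + 1 := by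
  letI := S.commQ
  have h := S.sum_dual_eq hR (fun _ => 1)
  simp only [Finset.sum_const, smul_eq_mul, mul_one, Finset.card_range,
    Finset.card_erase_of_mem (Finset.mem_univ _), Finset.card_univ] at h
  rw [← Nat.card_eq_fintype_card, FreeInertial.card_dual] at h
  have := Nat.card_pos (α := (Q : Subgroup X))
  rw [mul_comm R.card] at h
  omega

/-- The orbit sum of a linear character. -/
noncomputable def theta (S : Setting Q n q) (μ : (Q : Subgroup X) →* ℂˣ)
    (x : (Q : Subgroup X)) : ℂ :=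
  ∑ i ∈ Finset.range q, (μ (S.act i x) : ℂ)

theorem theta_sum (S : Setting Q n q) {R : Finset ((Q : Subgroup X) →* ℂˣ)} (hR : S.Reps R)
    {x : (Q : Subgroup X)} (hx : x ≠ 1) : ∑ μ ∈ R, S.theta μ x = -1 := by
  letI := S.commQ
  have h := S.sum_dual_eq hR (fun ν => ((ν x : ℂˣ) : ℂ))
  rw [Finset.sum_erase_eq_sub (Finset.mem_univ _), FreeInertial.sum_dual, if_neg hx] at h
  simpa [theta] using h.symm

theorem sum_range_shift (S : Setting Q n q) {A : Type*} [AddCommMonoid A] (F : ℕ → A)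
    (hF : ∀ k, F (k % q) = F k) (i : ℕ) :
    ∑ l ∈ Finset.range q, F (i + l) = ∑ l ∈ Finset.range q, F l := by
  have hq := S.pos
  have := Nat.mod_lt i hq
  refine Finset.sum_nbij' (fun l => (i + l) % q) (fun k => (k + (q - i % q)) % q) ?_ ?_ ?_ ?_ ?_
  · intro l _; simpa using Nat.mod_lt _ hq
  · intro l _; simpa using Nat.mod_lt _ hq
  · intro l hl
    have hl := Finset.mem_range.1 hl
    have e : (i + l) % q + (q - i % q) = (i + l) % q + q - i % q := by omega
    show ((i + l) % q + (q - i % q)) % q = l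
    conv_rhs => rw [← Nat.mod_eq_of_lt hl]
    rw [Nat.mod_add_mod]
    have e2 : i + l + (q - i % q) = l + q * (i / q + 1) := by
      have := Nat.div_add_mod i q
      rw [mul_add, mul_one]; omega
    rw [e2, Nat.add_mul_mod_self_left]
  · intro k hk
    have hk := Finset.mem_range.1 hk
    show (i + (k + (q - i % q)) % q) % q = k
    conv_rhs => rw [← Nat.mod_eq_of_lt hk]
    rw [Nat.add_mod_mod]
    have e2 : i + (k + (q - i % q)) = k + q * (i / q + 1) := by
      have := Nat.div_add_mod i q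
      rw [mul_add, mul_one]; omega
    rw [e2, Nat.add_mul_mod_self_left]
  · intro l _; exact (hF _).symm

/-- The sum of products of two orbit sums. -/
theorem theta_mul_sum (S : Setting Q n q) {R : Finset ((Q : Subgroup X) →* ℂˣ)} (hR : S.Reps R)
    {x y : (Q : Subgroup X)} (h : ∀ i, x * S.act i y ≠ 1) :
    ∑ μ ∈ R, S.theta μ x * S.theta μ y = -(q : ℂ) := by
  letI := S.commQ
  have e : ∀ μ : (Q : Subgroup X) →* ℂˣ, S.theta μ x * S.theta μ y =
      ∑ l ∈ Finset.range q, ∑ i ∈ Finset.range q, ((μ.comp (S.act i)) (x * S.act l y) : ℂ) := by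
    intro μ
    rw [Finset.sum_comm, theta, theta, Finset.sum_mul]
    refine Finset.sum_congr rfl fun i _ => ?_
    rw [Finset.mul_sum, ← S.sum_range_shift (fun k => (μ (S.act i x) : ℂ) * (μ (S.act k y) : ℂ))
      (fun k => by simp only [S.act_mod]) i]
    refine Finset.sum_congr rfl fun l _ => ?_
    simp only [MonoidHom.comp_apply, map_mul, Units.val_mul, S.act_act]
  simp only [e]
  rw [Finset.sum_comm]
  rw [Finset.sum_congr rfl fun l _ =>
    (S.sum_dual_eq hR (fun ν => ((ν (x * S.act l y) : ℂˣ) : ℂ))).symm]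
  rw [Finset.sum_congr rfl fun l _ => show _ = (-1 : ℂ) by
    rw [Finset.sum_erase_eq_sub (Finset.mem_univ _), FreeInertial.sum_dual, if_neg (h l)]; simp]
  simp

variable [Fintype X] [Fintype (IrrCharacter X)]

theorem exists_mult (_S : Setting Q n q) (χ : IrrCharacter X) (μ : (Q : Subgroup X) →* ℂˣ) :
    ∃ m : ℕ, (Nat.card (Q : Subgroup X) : ℂ)⁻¹ *
      ∑ x : (Q : Subgroup X), (χ : X → ℂ) x * conj ((μ x : ℂˣ) : ℂ) = m := by
  obtain ⟨m, hm⟩ := Char.IsCharacter.classInner_nat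
    (Char.IsCharacter.restrict (Char.IsIrrCharacter.isCharacter χ.2) (Q : Subgroup X))
    (Char.IsIrrCharacter.isCharacter (Char.isIrrCharacter_of_hom ((Units.coeHom ℂ).comp μ)))
  exact ⟨m, hm⟩

/-- The multiplicity of a linear character of `Q`. -/
noncomputable def mult (S : Setting Q n q) (χ : IrrCharacter X)
    (μ : (Q : Subgroup X) →* ℂˣ) : ℕ :=
  (S.exists_mult χ μ).choose

theorem mult_spec (S : Setting Q n q) (χ : IrrCharacter X) (μ : (Q : Subgroup X) →* ℂˣ) :
    (S.mult χ μ : ℂ) = (Nat.card (Q : Subgroup X) : ℂ)⁻¹ *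
      ∑ x : (Q : Subgroup X), (χ : X → ℂ) x * conj ((μ x : ℂˣ) : ℂ) :=
  (S.exists_mult χ μ).choose_spec.symm

/-- The coefficient `m 1 - m μ`. -/
noncomputable def coef (S : Setting Q n q) (χ : IrrCharacter X)
    (μ : (Q : Subgroup X) →* ℂˣ) : ℤ :=
  (S.mult χ 1 : ℤ) - S.mult χ μ

theorem coef_spec (S : Setting Q n q) (χ : IrrCharacter X) (μ : (Q : Subgroup X) →* ℂˣ) :
    (S.coef χ μ : ℂ) = (Nat.card (Q : Subgroup X) : ℂ)⁻¹ *
      ∑ x ∈ Finset.univ.filter (fun x : (Q : Subgroup X) => x ≠ 1),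
        (χ : X → ℂ) x * (1 - conj ((μ x : ℂˣ) : ℂ)) := by
  rw [Finset.sum_filter_of_ne (p := fun x : (Q : Subgroup X) => x ≠ 1)
    (fun x _ h hx => h (by subst hx; simp))]
  simp only [coef, Int.cast_sub, Int.cast_natCast, S.mult_spec, mul_sub, mul_one,
    MonoidHom.one_apply, Units.val_one, map_one, Finset.sum_sub_distrib]

theorem mult_comp (S : Setting Q n q) (χ : IrrCharacter X) (μ : (Q : Subgroup X) →* ℂˣ) (i : ℕ) :
    S.mult χ (μ.comp (S.act i)) = S.mult χ μ := by
  apply Nat.cast_injective (R := ℂ)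
  rw [S.mult_spec, S.mult_spec]
  congr 1
  refine Fintype.sum_bijective _ (S.act_bijective i) _ _ fun x => ?_
  rw [coe_act, Char.IsIrrCharacter.isClassFunction χ.2 (x : X) (n ^ i)]
  rfl

theorem coef_comp (S : Setting Q n q) (χ : IrrCharacter X) (μ : (Q : Subgroup X) →* ℂˣ) (i : ℕ) :
    S.coef χ (μ.comp (S.act i)) = S.coef χ μ := by
  rw [coef, S.mult_comp, coef]

/-- A character on the sections through its coefficients. -/
theorem apply_eq_neg_sum (S : Setting Q n q) {R : Finset ((Q : Subgroup X) →* ℂˣ)} (hR : S.Reps R)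
    (χ : IrrCharacter X) {x : (Q : Subgroup X)} (hx : x ≠ 1) :
    (χ : X → ℂ) x = -∑ μ ∈ R, (S.coef χ μ : ℂ) * S.theta μ x := by
  letI := S.commQ
  have h0 : ∑ ν ∈ Finset.univ.erase (1 : (Q : Subgroup X) →* ℂˣ), (S.coef χ ν : ℂ) * (ν x : ℂ) =
      -(χ : X → ℂ) x := by
    rw [Finset.sum_erase _ (by simp [coef])]
    simp only [coef, Int.cast_sub, Int.cast_natCast, sub_mul, Finset.sum_sub_distrib,
      ← Finset.mul_sum, FreeInertial.sum_dual, if_neg hx, mul_zero, zero_sub, neg_inj]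
    simp only [S.mult_spec, mul_assoc, Finset.sum_mul, ← Finset.mul_sum]
    rw [Finset.sum_comm]
    simp only [← Finset.mul_sum, FreeInertial.conj_apply, ← Units.val_mul, ← map_mul]
    simp only [FreeInertial.sum_dual, inv_mul_eq_one]
    simp [Nat.card_pos.ne']
    field_simp
  rw [← neg_eq_iff_eq_neg, ← h0]
  rw [S.sum_dual_eq hR]
  refine Finset.sum_congr rfl fun μ _ => ?_
  simp only [S.coef_comp, ← Finset.mul_sum]
  rfl

/-- The trivial character has all coefficients one. -/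
theorem coef_one (S : Setting Q n q) {χ : IrrCharacter X} (hχ : ∀ g, (χ : X → ℂ) g = 1)
    {μ : (Q : Subgroup X) →* ℂˣ} (hμ : μ ≠ 1) : S.coef χ μ = 1 := by
  apply Int.cast_injective (α := ℂ)
  rw [S.coef_spec, Finset.sum_filter_of_ne (p := fun x : (Q : Subgroup X) => x ≠ 1)
    (fun x _ h hx => h (by subst hx; simp))]
  letI := S.commQ
  have h0 : ∑ x : (Q : Subgroup X), conj ((μ x : ℂˣ) : ℂ) = 0 := by
    rw [← map_sum, FreeInertial.sum_group, if_neg hμ, map_zero]
  simp only [hχ, one_mul, Finset.sum_sub_distrib, h0, Finset.sum_const, Finset.card_univ,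
    sub_zero, nsmul_eq_mul, mul_one]
  rw [← Nat.card_eq_fintype_card]
  simp [Nat.card_pos.ne']

/-- The degree through the coefficients. -/
theorem degree_eq (S : Setting Q n q) {R : Finset ((Q : Subgroup X) →* ℂˣ)} (hR : S.Reps R)
    (χ : IrrCharacter X) :
    (charDegree (χ : X → ℂ) : ℤ) =
      (Nat.card (Q : Subgroup X) : ℤ) * S.mult χ 1 - q * ∑ μ ∈ R, S.coef χ μ := by
  letI := S.commQ
  have h1 : ∑ ν : (Q : Subgroup X) →* ℂˣ, (S.mult χ ν : ℂ) = (χ : X → ℂ) 1 := by
    simp only [S.mult_spec, ← Finset.mul_sum]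
    rw [Finset.sum_comm]
    simp only [← Finset.mul_sum, ← map_sum, FreeInertial.sum_dual]
    rw [Finset.sum_eq_single (1 : (Q : Subgroup X)) (fun x _ hx => by rw [if_neg hx, map_zero, mul_zero])
      (fun h => absurd (Finset.mem_univ _) h)]
    simp [Nat.card_pos.ne', mul_comm]
  apply Int.cast_injective (α := ℂ)
  push_cast
  rw [Blocks.charDegree_cast, ← h1, ← Finset.add_sum_erase _ _ (Finset.mem_univ
    (1 : (Q : Subgroup X) →* ℂˣ)), S.sum_dual_eq hR]
  simp only [S.mult_comp, Finset.sum_const, Finset.card_range, nsmul_eq_mul, coef, Int.cast_sub,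
    Int.cast_natCast, Finset.sum_sub_distrib, Finset.mul_sum, S.card_eq_reps hR]
  rw [Finset.sum_congr rfl fun μ _ => (mul_comm (q : ℂ) (S.mult χ μ : ℂ))]
  simp only [← Finset.sum_mul]
  push_cast
  ring

/-- The Gram matrix of the coefficients. -/
theorem gram (S : Setting Q n q) {M : Ideal AlgInt} (hM : IsPModular 2 M)
    {R : Finset ((Q : Subgroup X) →* ℂˣ)} (hR : S.Reps R) {μ ν : (Q : Subgroup X) →* ℂˣ}
    (hμ : μ ∈ R) (hν : ν ∈ R) :
    ∑ χ ∈ Finset.univ.filter (fun χ : IrrCharacter X => χ ∈ principalBlock M X),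
      S.coef χ μ * S.coef χ ν = (q : ℤ) + if μ = ν then 1 else 0 := by
  letI := S.commQ
  apply Int.cast_injective (α := ℂ)
  set U := Finset.univ.filter (fun x : (Q : Subgroup X) => x ≠ 1)
  have hQ0 : (Nat.card (Q : Subgroup X) : ℂ) ≠ 0 := Nat.cast_ne_zero.2 Nat.card_pos.ne'
  have hU : ∀ x ∈ U, (x : X) ≠ 1 := fun x hx h =>
    (Finset.mem_filter.1 hx).2 (Subtype.ext h)
  have hc : ∀ χ : IrrCharacter X, (S.coef χ μ : ℂ) * (S.coef χ ν : ℂ) =
      (Nat.card (Q : Subgroup X) : ℂ)⁻¹ * (Nat.card (Q : Subgroup X) : ℂ)⁻¹ *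
        ∑ x ∈ U, ∑ y ∈ U, (1 - conj ((μ x : ℂˣ) : ℂ)) * (1 - (ν y : ℂ)) *
          ((χ : X → ℂ) x * conj ((χ : X → ℂ) y)) := by
    intro χ
    rw [← map_intCast (starRingEnd ℂ) (S.coef χ ν), S.coef_spec, S.coef_spec]
    simp only [map_mul, map_inv₀, Complex.conj_natCast, map_sum, map_sub, map_one,
      Complex.conj_conj, Finset.mul_sum, Finset.sum_mul]
    rw [Finset.sum_comm]
    exact Finset.sum_congr rfl fun x _ => Finset.sum_congr rfl fun y _ => by ring
  push_cast
  simp only [hc, ← Finset.mul_sum]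
  rw [Finset.sum_comm, Finset.sum_congr rfl fun x _ => Finset.sum_comm]
  simp only [← Finset.mul_sum]
  have hin : ∀ x ∈ U, ∑ y ∈ U, (1 - conj ((μ x : ℂˣ) : ℂ)) * (1 - (ν y : ℂ)) *
      ∑ χ ∈ Finset.univ.filter (fun χ : IrrCharacter X => χ ∈ principalBlock M X),
        (χ : X → ℂ) x * conj ((χ : X → ℂ) y) =
      (Nat.card (Q : Subgroup X) : ℂ) * ∑ i ∈ Finset.range q,
        (1 - conj ((μ x : ℂˣ) : ℂ)) * (1 - (ν (S.act i x) : ℂ)) := by
    intro x hx
    rw [Finset.sum_congr rfl fun y hy => by rw [S.col_orth hM x.2 (hU x hx) y.2 (hU y hy)]]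
    simp only [mul_ite, mul_zero, ← Finset.sum_filter, Finset.mul_sum]
    refine (Finset.sum_bij (fun i _ => S.act i x) (fun i _ => ?_) (fun i hi j hj h => ?_)
      (fun y hy => ?_) fun i _ => by ring).symm
    · refine Finset.mem_filter.2 ⟨Finset.mem_filter.2 ⟨Finset.mem_univ _,
        S.act_ne_one i (Finset.mem_filter.1 hx).2⟩, isConj_iff.2 ⟨_, rfl⟩⟩
    · exact S.conj_inj x.2 (hU x hx) (Finset.mem_range.1 hi) (Finset.mem_range.1 hj)
        (congrArg Subtype.val h)
    · obtain ⟨hyU, hxy⟩ := Finset.mem_filter.1 hy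
      obtain ⟨i, hi, hiy⟩ := S.fusion x.2 y.2 hxy
      exact ⟨i, Finset.mem_range.2 hi, Subtype.ext hiy⟩
  rw [Finset.sum_congr rfl hin, ← Finset.mul_sum,
    Finset.sum_filter_of_ne (p := fun x : (Q : Subgroup X) => x ≠ 1)
    (fun x _ h hx => h (by subst hx; simp)), Finset.sum_comm,
    ← mul_assoc, mul_assoc (_⁻¹ : ℂ), inv_mul_cancel₀ hQ0, mul_one, Finset.mul_sum]
  have hi : ∀ i ∈ Finset.range q, (Nat.card (Q : Subgroup X) : ℂ)⁻¹ *
      ∑ x : (Q : Subgroup X), (1 - conj ((μ x : ℂˣ) : ℂ)) * (1 - (ν (S.act i x) : ℂ)) =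
      1 + if μ = ν ∧ i = 0 then 1 else 0 := by
    intro i hi
    set ξ := ν.comp (S.act i) with hξ
    have hξ1 : ξ ≠ 1 := fun h => hR.ne_one _ hν (MonoidHom.ext fun x => by
      obtain ⟨y, rfl⟩ := (S.act_bijective i).2 x
      exact DFunLike.congr_fun h y)
    have h1 : ∑ x : (Q : Subgroup X), conj ((μ x : ℂˣ) : ℂ) = 0 := by
      rw [← map_sum, FreeInertial.sum_group, if_neg (hR.ne_one _ hμ), map_zero]
    have h2 : ∑ x : (Q : Subgroup X), (ξ x : ℂ) = 0 := by
      rw [FreeInertial.sum_group, if_neg hξ1]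
    let η : (Q : Subgroup X) →* ℂˣ :=
      { toFun := fun x => μ x⁻¹ * ξ x
        map_one' := by simp
        map_mul' := fun x y => by
          rw [mul_inv, map_mul, map_mul]; exact mul_mul_mul_comm _ _ _ _ }
    have h3 : ∑ x : (Q : Subgroup X), conj ((μ x : ℂˣ) : ℂ) * (ξ x : ℂ) =
        if μ = ξ then (Nat.card (Q : Subgroup X) : ℂ) else 0 := by
      rw [Finset.sum_congr rfl fun x _ => show _ = ((η x : ℂˣ) : ℂ) by
        rw [FreeInertial.conj_apply]; simp [η], FreeInertial.sum_group]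
      refine if_congr ?_ rfl rfl
      rw [hom_eq_one_iff, DFunLike.ext_iff]
      exact forall_congr' fun x => by
        show μ x⁻¹ * ξ x = 1 ↔ _
        rw [map_inv, inv_mul_eq_one]
    have hexp : ∀ x, (1 - conj ((μ x : ℂˣ) : ℂ)) * (1 - (ν (S.act i x) : ℂ)) =
        1 - conj ((μ x : ℂˣ) : ℂ) - (ξ x : ℂ) + conj ((μ x : ℂˣ) : ℂ) * (ξ x : ℂ) := fun x => by
      simp only [hξ, MonoidHom.comp_apply]
      ring
    simp only [hexp, Finset.sum_add_distrib, Finset.sum_sub_distrib, h1, h2, h3, Finset.sum_const,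
      Finset.card_univ, nsmul_eq_mul, mul_one, sub_zero]
    rw [← Nat.card_eq_fintype_card]
    have hiff : μ = ξ ↔ μ = ν ∧ i = 0 := by
      constructor
      · intro h
        have h1 := hR.unique _ hν _ hμ i h
        subst h1
        refine ⟨rfl, (S.comp_act_inj (hR.ne_one _ hν) S.pos (Finset.mem_range.1 hi) ?_).symm⟩
        conv_lhs => rw [show μ.comp (S.act 0) = μ from MonoidHom.ext fun x => by simp [S.act_zero]]
        exact h
      · rintro ⟨rfl, rfl⟩
        exact MonoidHom.ext fun x => by simp [hξ, S.act_zero]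
    simp only [hiff]
    split_ifs <;> field_simp <;> ring
  rw [Finset.sum_congr rfl hi, Finset.sum_add_distrib, Finset.sum_const, Finset.card_range,
    nsmul_eq_mul, mul_one]
  congr 1
  by_cases h : μ = ν
  · rw [if_pos h, Finset.sum_eq_single 0 (fun i _ hi0 => by simp [hi0])
      (fun h0 => absurd (Finset.mem_range.2 S.pos) h0)]
    simp [h]
  · simp [h]

/-- The coefficients are orthogonal to the degrees. -/
theorem coef_degree (S : Setting Q n q) {M : Ideal AlgInt} (hM : IsPModular 2 M)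
    (μ : (Q : Subgroup X) →* ℂˣ) :
    ∑ χ ∈ Finset.univ.filter (fun χ : IrrCharacter X => χ ∈ principalBlock M X),
      (charDegree (χ : X → ℂ) : ℤ) * S.coef χ μ = 0 := by
  apply Int.cast_injective (α := ℂ)
  push_cast
  simp only [S.coef_spec, Finset.mul_sum]
  rw [Finset.sum_comm]
  refine Finset.sum_eq_zero fun x hx => ?_
  have h := S.col_one hM x.2 (fun e => (Finset.mem_filter.1 hx).2 (Subtype.ext e))
  rw [← mul_zero ((Nat.card (Q : Subgroup X) : ℂ)⁻¹ * (1 - conj ((μ x : ℂˣ) : ℂ))), ← h,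
    Finset.mul_sum]
  refine Finset.sum_congr rfl fun χ _ => ?_
  rw [← Blocks.charDegree_cast χ, Complex.conj_natCast]
  ring

end Cfsg.Agent.PrimeInertial.Setting
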