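import Cfsg.Agent.Lib.Codegree.Basic
import Cfsg.Agent.Lib.Coprime.Basic
import Mathlib.RepresentationTheory.Character
import Mathlib.LinearAlgebra.Eigenspace.Triangularizable

/-!
# Fixed vectors of subgroups

* `exists_fixed`: the sums of an irreducible character over subgroups;
* `degree_le_index`: a fixed vector of `B` gives a bound by the index of `B ⟨n⟩`.
-/

set_option autoImplicit false

open scoped Classical

namespace Cfsg.Agent.PrimeInertial

open Subgroup Cfsg Cfsg.Agent

variable {X : Type*} [Group X] [Finite X]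

section
variable {V : Type*} [AddCommGroup V] [Module ℂ V] [FiniteDimensional ℂ V]

theorem sum_character_eq (ρ : Representation ℂ X V) (K : Subgroup X) [Fintype K] :
    ∑ x : K, ρ.character x =
      (Nat.card K : ℂ) * Module.finrank ℂ (Representation.invariants (ρ.comp K.subtype)) := by
  haveI : Invertible (Fintype.card K : ℂ) := invertibleOfNonzero (by simp)
  have h : ((Nat.card K : ℂ))⁻¹ * ∑ x : K, ρ.character x =
      Module.finrank ℂ (Representation.invariants (ρ.comp K.subtype)) := by
    rw [← (Representation.isProj_averageMap (ρ.comp K.subtype)).trace]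
    simp [Representation.averageMap, GroupAlgebra.average, Representation.character, map_sum,
      Nat.card_eq_fintype_card]
  rw [← h, mul_inv_cancel_left₀ (Nat.cast_ne_zero.2 Nat.card_pos.ne')]

theorem invariants_anti (ρ : Representation ℂ X V) {A K : Subgroup X} (h : A ≤ K) :
    Representation.invariants (ρ.comp K.subtype) ≤ Representation.invariants (ρ.comp A.subtype) :=
  fun _ hv a => hv ⟨a, h a.2⟩

/-- An eigenvector of the coset representatives bounds the dimension. -/
theorem finrank_le_index (ρ : Representation ℂ X V) [ρ.IsIrreducible] (H : Subgroup X) {v : V}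
    (hv : v ≠ 0) (hH : ∀ h ∈ H, ∃ c : ℂ, ρ h v = c • v) : Module.finrank ℂ V ≤ H.index := by
  haveI := Fintype.ofFinite (X ⧸ H)
  let f : X ⧸ H → V := fun c => ρ c.out v
  set S := Submodule.span ℂ (Set.range f) with hS
  have hmem : ∀ g : X, ρ g v ∈ S := by
    intro g
    obtain ⟨h, hh⟩ := QuotientGroup.mk_out_eq_mul H g
    obtain ⟨c, hc⟩ := hH _ (inv_mem h.2)
    have : ρ g v = c • f (g : X ⧸ H) := by
      show ρ g v = c • ρ (Quotient.out (g : X ⧸ H)) v
      rw [← map_smul, ← hc, ← Module.End.mul_apply, ← map_mul, hh, mul_inv_cancel_right]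
    rw [this]
    exact Submodule.smul_mem _ c (Submodule.subset_span ⟨_, rfl⟩)
  have hinv : ∀ g : X, ∀ w ∈ S, ρ g w ∈ S := by
    intro g w hw
    have : S ≤ S.comap (ρ g) := by
      conv_lhs => rw [hS]
      refine Submodule.span_le.2 ?_
      rintro _ ⟨c, rfl⟩
      show ρ g (ρ c.out v) ∈ S
      rw [← Module.End.mul_apply, ← map_mul]
      exact hmem _
    exact this hw
  rcases CharApp.eq_bot_or_top_of_invariant ρ S hinv with h | h
  · exact absurd ((Submodule.mem_bot ℂ).1 (h ▸ (by simpa using hmem 1) : v ∈ (⊥ : Submodule ℂ V))) hv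
  · rw [← finrank_top ℂ V, ← h, Subgroup.index_eq_card, Nat.card_eq_fintype_card]
    exact finrank_range_le_card f

end

/-- The fixed-point data of an irreducible character. -/
theorem exists_fixed (χ : IrrCharacter X) {B W : Subgroup X} (hWB : W ≤ B) {Q : Subgroup X}
    (hQB : Q ≤ B) {n : X} (hn : n ∈ normalizer (B : Set X)) [Fintype B] [Fintype W] [Fintype Q] :
    ∃ a a' k : ℕ, ∑ x : B, (χ : X → ℂ) x = (Nat.card B : ℂ) * a ∧
      ∑ x : W, (χ : X → ℂ) x = (Nat.card W : ℂ) * a' ∧
      ∑ x : Q, (χ : X → ℂ) x = (Nat.card Q : ℂ) * k ∧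
      a ≤ a' ∧ a ≤ k ∧ (a' = charDegree (χ : X → ℂ) → W ≤ Codegree.kerSub χ) ∧
      (a ≠ 0 → charDegree (χ : X → ℂ) ≤ (B ⊔ zpowers n).index) := by
  obtain ⟨d, ρ, hρ, hχ⟩ := χ.2
  have hdeg : charDegree (χ : X → ℂ) = Module.finrank ℂ (Fin d → ℂ) := by
    apply Nat.cast_injective (R := ℂ)
    rw [← TwoClassChar.deg_eq χ.2, ← hχ, Representation.char_one]
  refine ⟨_, _, _, by simp only [← hχ]; exact sum_character_eq ρ B,
    by simp only [← hχ]; exact sum_character_eq ρ W, by simp only [← hχ]; exact sum_character_eq ρ Q,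
    Submodule.finrank_mono (invariants_anti ρ hWB), Submodule.finrank_mono (invariants_anti ρ hQB),
    fun h w hw => ?_, fun h => ?_⟩
  · rw [hdeg] at h
    have htop := Submodule.eq_top_of_finrank_eq h
    have h1 : ρ w = 1 := LinearMap.ext fun v => by
      have hv : v ∈ Representation.invariants (ρ.comp W.subtype) := htop ▸ Submodule.mem_top
      exact hv ⟨w, hw⟩
    rw [Codegree.mem_kerSub, ← hχ]
    simp [Representation.character, h1]
  · rw [hdeg]
    set U := Representation.invariants (ρ.comp B.subtype) with hU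
    have hstab : ∀ v ∈ U, ρ n v ∈ U := by
      intro v hv b
      show ρ b (ρ n v) = ρ n v
      have hb : n⁻¹ * b * n ∈ B := (mem_normalizer_iff''.1 hn b).1 b.2
      conv_rhs => rw [← (show ρ (n⁻¹ * b * n) v = v from hv ⟨_, hb⟩)]
      rw [← Module.End.mul_apply, ← map_mul, ← Module.End.mul_apply, ← map_mul]
      group
    haveI : Nontrivial U := Module.nontrivial_of_finrank_pos (R := ℂ) (Nat.pos_of_ne_zero h)
    obtain ⟨μ, hμ⟩ := Module.End.exists_eigenvalue ((ρ n).restrict hstab)
    obtain ⟨v, hv⟩ := hμ.exists_hasEigenvector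
    have hv0 : (v : Fin d → ℂ) ≠ 0 := fun e => hv.2 (Subtype.ext e)
    have hnv : ρ n (v : Fin d → ℂ) = μ • (v : Fin d → ℂ) :=
      congrArg Subtype.val hv.apply_eq_smul
    refine finrank_le_index ρ _ hv0 fun h hh => ?_
    have hN : zpowers n ≤ normalizer (B : Set X) := zpowers_le.2 hn
    obtain ⟨b, hb, z, hz, rfl⟩ := (Coprime.mem_sup_iff hN).1 hh
    obtain ⟨k, rfl⟩ := (isOfFinOrder_of_finite n).mem_powers_iff_mem_zpowers.2 hz
    refine ⟨μ ^ k, ?_⟩
    have hk : ∀ k : ℕ, ρ (n ^ k) (v : Fin d → ℂ) = μ ^ k • (v : Fin d → ℂ) := by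
      intro k
      induction k with
      | zero => simp
      | succ k ih =>
        rw [pow_succ, map_mul, Module.End.mul_apply, hnv, map_smul, ih, smul_smul, pow_succ,
          mul_comm]
    show ρ (b * n ^ k) _ = _
    rw [map_mul, Module.End.mul_apply, hk, map_smul,
      show ρ b (v : Fin d → ℂ) = v from v.2 ⟨b, hb⟩]

end Cfsg.Agent.PrimeInertial
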