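import Cfsg.Agent.Lib.PrimeInertial.Local
import Cfsg.Agent.Lib.PrimeInertial.Fixed

/-!
# The principal block for elementary `Q` of order `q + 1 ≥ 8`

`term_bound`: the termwise inequality; `Elem.succ_le_card`: at least `q + 1` principal characters.
-/

set_option autoImplicit false
set_option maxHeartbeats 800000

open scoped Classical ComplexConjugate

namespace Cfsg.Agent.PrimeInertial

open Subgroup Cfsg Cfsg.Agent

universe u

/-- The termwise inequality with its equality cases. -/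
theorem term_bound {q m d : ℝ} {b : ℤ} (hq : 0 < q) (hm : 0 < m) (hd : 0 < d)
    (hpos : 0 < b → d ≤ m) (hneg : b < 0 → q * -(b : ℝ) ≤ d) :
    (q - m) * (b : ℝ) ^ 2 ≤ q * m * ((b : ℝ) ^ 3 / d) - b * d ∧
      ((q - m) * (b : ℝ) ^ 2 = q * m * ((b : ℝ) ^ 3 / d) - b * d →
        (0 < b → b = 1 ∧ d = m) ∧ (b < 0 → d = q * -(b : ℝ))) := by
  rcases lt_trichotomy b 0 with hb | hb | hb
  · have hbR : (b : ℝ) < 0 := Int.cast_lt_zero.2 hb
    have hd2 := hneg hb
    have h1 : -(m * (b : ℝ) ^ 2) ≤ q * m * ((b : ℝ) ^ 3 / d) := by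
      rw [← sub_nonneg, show q * m * ((b : ℝ) ^ 3 / d) - -(m * (b : ℝ) ^ 2) =
        m * (b : ℝ) ^ 2 * (d - q * -(b : ℝ)) / d by field_simp; ring]
      exact div_nonneg (mul_nonneg (by positivity) (by linarith)) hd.le
    have h2 : q * (b : ℝ) ^ 2 ≤ -((b : ℝ) * d) := by
      nlinarith [mul_le_mul_of_nonneg_left hd2 (neg_nonneg.2 hbR.le)]
    refine ⟨by linarith, fun h => ⟨fun h' => absurd h' (by omega), fun _ => ?_⟩⟩
    have h3 : -((b : ℝ) * d) = q * (b : ℝ) ^ 2 := by linarith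
    apply mul_left_cancel₀ hbR.ne
    linarith
  · subst hb
    simp
  · have hb1 : (1 : ℝ) ≤ b := by exact_mod_cast hb
    have hd2 := hpos hb
    have h1 : q * (b : ℝ) ^ 3 ≤ q * m * ((b : ℝ) ^ 3 / d) := by
      rw [mul_assoc, ← mul_div_assoc, mul_le_mul_iff_right₀ hq, le_div_iff₀ hd]
      nlinarith [pow_pos (lt_of_lt_of_le one_pos hb1) 3]
    have h2 : q * (b : ℝ) ^ 2 ≤ q * (b : ℝ) ^ 3 := by
      refine mul_le_mul_of_nonneg_left ?_ hq.le
      exact pow_le_pow_right₀ hb1 (by norm_num)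
    have h3 : (b : ℝ) * d ≤ (b : ℝ) * m := mul_le_mul_of_nonneg_left hd2 (by linarith)
    have h4 : (b : ℝ) * m ≤ m * (b : ℝ) ^ 2 := by
      nlinarith [mul_le_mul_of_nonneg_left hb1 (mul_nonneg hm.le (zero_le_one.trans hb1))]
    refine ⟨by linarith, fun h => ⟨fun _ => ?_, fun h' => absurd h' (by omega)⟩⟩
    have e1 : (b : ℝ) * m = m * (b : ℝ) ^ 2 := by linarith
    have e2 : (b : ℝ) = 1 := by
      apply mul_left_cancel₀ (mul_pos (lt_of_lt_of_le one_pos hb1) hm).ne'
      linear_combination (-1 : ℝ) * e1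
    refine ⟨by exact_mod_cast e2, ?_⟩
    have e3 : (b : ℝ) * d = (b : ℝ) * m := by linarith
    exact mul_left_cancel₀ (by linarith) e3

variable {X : Type u} [Group X] [Finite X] [Fintype X] [Fintype (IrrCharacter X)]
  {Q : Sylow 2 X} {n : X} {q : ℕ} [Fintype ((Q : Subgroup X) →* ℂˣ)]
  {M : Ideal AlgInt}

theorem Elem.reps_eq_singleton (E : Elem Q n q) : ∃ μ, E.Reps {μ} := by
  obtain ⟨R, hR⟩ := E.exists_reps
  have h := E.card
  rw [E.card_eq_reps hR] at h
  have h1 : R.card = 1 := by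
    have := E.pos
    nlinarith
  obtain ⟨μ, rfl⟩ := Finset.card_eq_one.1 h1
  exact ⟨μ, hR⟩

variable {μ : (Q : Subgroup X) →* ℂˣ}

/-- The value at the involutions of `Q`. -/
theorem Elem.value (E : Elem Q n q) (hR : E.Reps {μ}) (χ : IrrCharacter X)
    {x : (Q : Subgroup X)} (hx : x ≠ 1) :
    (χ : X → ℂ) x = (E.coef χ μ : ℂ) := by
  have h := E.theta_sum hR hx
  rw [Finset.sum_singleton] at h
  rw [E.apply_eq_neg_sum hR χ hx, Finset.sum_singleton, h]
  ring

/-- A principal character is constant on the singular elements. -/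
theorem Elem.value_singular (E : Elem Q n q) (hM : IsPModular 2 M) (hR : E.Reps {μ})
    {χ : IrrCharacter X} (hχ : χ ∈ B0 M) {g : X} (hg : 2 ∣ orderOf g) :
    (χ : X → ℂ) g = (E.coef χ μ : ℂ) := by
  haveI : Fact (Nat.Prime 2) := ⟨Nat.prime_two⟩
  obtain ⟨y, hy⟩ := FrobSection.exists_rep Q g
  obtain ⟨c, hc⟩ := isConj_iff.1 hy
  have hy1 : y ≠ 1 := fun h => (E.pp_involution hg).2 (isConj_one_left.1 (by
    simpa [h] using hy))
  obtain ⟨z, he, hcz, -, hz⟩ := FrobSection.isPPart_pp (p := 2) g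
  have hs : c * z * c⁻¹ ∈ Cfsg.centralizerPPrimeCore 2 (y : X) :=
    (E.mem_core y.2 (fun h => hy1 (Subtype.ext h))).2
      ⟨by rw [← hc]; exact (Commute.map hcz.symm (MulAut.conj c).toMonoidHom),
        by rw [Involution.orderOf_conj]; exact hz⟩
  have hcg : c * g * c⁻¹ = (y : X) * (c * z * c⁻¹) := by
    rw [← hc, show c * FrobSection.pp 2 g * c⁻¹ * (c * z * c⁻¹) =
      c * (FrobSection.pp 2 g * z) * c⁻¹ by group, he]
  rw [← Char.IsIrrCharacter.isClassFunction χ.2 g c, hcg,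
    E.apply_shift hM y.2 (fun h => hy1 (Subtype.ext h)) hs (mem_B0.1 hχ), E.value hR χ hy1]

/-- The sum of the squares of the coefficients. -/
theorem Elem.sum_sq_coef (E : Elem Q n q) (hM : IsPModular 2 M) (hR : E.Reps {μ}) :
    ∑ χ ∈ B0 M, E.coef χ μ ^ 2 = (q : ℤ) + 1 := by
  have h := E.gram hM hR (Finset.mem_singleton_self μ) (Finset.mem_singleton_self μ)
  rw [if_pos rfl] at h
  simp only [_root_.sq]
  exact h

/-- The cubic identity. -/
theorem Elem.sum_cube (E : Elem Q n q) (hM : IsPModular 2 M) (hR : E.Reps {μ}) :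
    (∑ χ ∈ B0 M, (E.coef χ μ : ℝ) ^ 3 / (charDegree (χ : X → ℂ) : ℝ)) *
      ((q : ℝ) * (H Q n).index) = ((q : ℝ) + 1) * ((q : ℝ) - 1) := by
  obtain ⟨a, ha, ha1⟩ := E.ex_involution
  set A : (Q : Subgroup X) := ⟨a, ha⟩
  have hA1 : A ≠ 1 := fun h => ha1 (congrArg Subtype.val h)
  set F := Finset.univ.filter fun x : X => IsConj a x
  have hF : Nat.card {x : X // IsConj a x} = F.card := by
    rw [Nat.card_eq_fintype_card, Fintype.card_subtype]
  set T₁ := (Finset.univ.filter fun t : X => IsConj a t ∧ 2 ∣ orderOf (a * t)).card with hT₁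
  have hpairs : ∑ g ∈ Finset.univ.filter (fun g : X => 2 ∣ orderOf g),
      Nat.card {p : X × X // IsConj a p.1 ∧ IsConj a p.2 ∧ p.1 * p.2 = g} = F.card * T₁ := by
    simp only [Nat.card_eq_fintype_card, Fintype.card_subtype]
    trans ((F ×ˢ F).filter fun p => 2 ∣ orderOf (p.1 * p.2)).card
    · rw [Finset.card_eq_sum_card_fiberwise (f := fun p => p.1 * p.2)
        (t := Finset.univ.filter (fun g : X => 2 ∣ orderOf g))
        (fun p hp => by simpa using (Finset.mem_filter.1 hp).2)]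
      refine Finset.sum_congr rfl fun g hg => congrArg Finset.card ?_
      ext p
      simp only [F, Finset.mem_filter, Finset.mem_univ, true_and, Finset.mem_product]
      constructor
      · rintro ⟨h1, h2, h3⟩
        exact ⟨⟨⟨h1, h2⟩, h3 ▸ (Finset.mem_filter.1 hg).2⟩, h3⟩
      · rintro ⟨⟨⟨h1, h2⟩, -⟩, h3⟩
        exact ⟨h1, h2, h3⟩
    rw [Finset.card_filter, Finset.sum_product,
      Finset.sum_congr rfl (g := fun _ => T₁) fun s hs => ?_, Finset.sum_const, smul_eq_mul]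
    obtain ⟨c, hc⟩ := isConj_iff.1 (Finset.mem_filter.1 hs).2
    rw [← Finset.card_filter, hT₁]
    refine Finset.card_nbij' (fun t => c⁻¹ * t * c) (fun t => c * t * c⁻¹) ?_ ?_
      (fun t _ => by group) (fun t _ => by group)
    · intro t ht
      simp only [F, Finset.mem_coe, Finset.mem_filter, Finset.mem_univ, true_and] at ht ⊢
      refine ⟨ht.1.trans (isConj_iff.2 ⟨c⁻¹, by rw [inv_inv]⟩), ?_⟩
      rw [show a * (c⁻¹ * t * c) = c⁻¹ * (c * a * c⁻¹ * t) * c⁻¹⁻¹ by group, hc,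
        Involution.orderOf_conj]
      exact ht.2
    · intro t ht
      simp only [F, Finset.mem_coe, Finset.mem_filter, Finset.mem_univ, true_and] at ht ⊢
      refine ⟨ht.1.trans (isConj_iff.2 ⟨c, rfl⟩), ?_⟩
      rw [← hc, show c * a * c⁻¹ * (c * t * c⁻¹) = c * (a * t) * c⁻¹ by group,
        Involution.orderOf_conj]
      exact ht.2
  have hC : (F.card : ℂ) * T₁ = (F.card : ℂ) * F.card / (Nat.card (Q : Subgroup X) : ℂ) *
      ∑ χ ∈ B0 M, (E.coef χ μ : ℂ) ^ 3 / (χ : X → ℂ) 1 := by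
    have hX : (Nat.card X : ℂ) ≠ 0 := Nat.cast_ne_zero.2 Nat.card_pos.ne'
    rw [← Nat.cast_mul, ← hpairs, Nat.cast_sum]
    simp only [Char.class_mult_formula, hF]
    rw [← Finset.mul_sum, Finset.sum_comm]
    simp only [← Finset.sum_div, ← Finset.mul_sum, ← map_sum, sum_singular_coef hM hR]
    rw [Finset.sum_congr rfl (g := fun χ => if χ ∈ B0 M then (Nat.card X : ℂ) /
      (Nat.card (Q : Subgroup X) : ℂ) * ((E.coef χ μ : ℂ) ^ 3 / (χ : X → ℂ) 1) else 0) fun χ _ => ?_]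
    · rw [← Finset.sum_filter, show Finset.univ.filter (fun χ : IrrCharacter X => χ ∈ B0 M) = B0 M
        by ext; simp, ← Finset.mul_sum]
      field_simp
    · rw [show (χ : X → ℂ) a = (E.coef χ μ : ℂ) from E.value hR χ hA1]
      split_ifs with h
      · simp only [Finset.sum_singleton, map_div₀, map_mul, Complex.conj_natCast, map_intCast]
        field_simp
      · simp
  set L := ∑ χ ∈ B0 M, (E.coef χ μ : ℝ) ^ 3 / (charDegree (χ : X → ℂ) : ℝ)
  have hR' : (F.card : ℝ) * T₁ = (F.card : ℝ) * F.card / (Nat.card (Q : Subgroup X) : ℝ) * L := by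
    apply Complex.ofReal_injective
    simp only [L, Complex.ofReal_mul, Complex.ofReal_div, Complex.ofReal_sum, Complex.ofReal_pow,
      Complex.ofReal_natCast, Complex.ofReal_intCast, Blocks.charDegree_cast]
    exact hC
  have hFpos : (0 : ℝ) < F.card :=
    Nat.cast_pos.2 (Finset.card_pos.2 ⟨a, Finset.mem_filter.2 ⟨Finset.mem_univ _, IsConj.refl a⟩⟩)
  set o := Nat.card (Cfsg.centralizerPPrimeCore 2 a) with ho
  have hopos : (0 : ℝ) < (o : ℝ) := Nat.cast_pos.2 Nat.card_pos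
  have hI : F.card * o = (H Q n).index * q * Nat.card (W Q) := by
    refine Nat.eq_of_mul_eq_mul_right (m := Nat.card (Q : Subgroup X)) Nat.card_pos ?_
    have h := Char.card_conjugates_mul_card_centralizer (G := X) a
    rw [E.card_centralizer ha ha1, ← Subgroup.card_mul_index (H Q n), E.card_H, E.card_B,
      show Nat.card {x : X | IsConj a x} = F.card from hF, ← ho] at h
    linarith
  have hT : (T₁ : ℝ) * (o : ℝ) = ((q : ℝ) - 1) * Nat.card (W Q) := by
    have := E.card_pairs ha ha1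
    rw [← hT₁, ← ho] at this
    rw [← Nat.cast_one, ← Nat.cast_sub E.one_lt.le]
    exact_mod_cast this
  have hIR : (F.card : ℝ) * o = (H Q n).index * q * Nat.card (W Q) := by exact_mod_cast hI
  have hQR : (Nat.card (Q : Subgroup X) : ℝ) = (q : ℝ) + 1 := by rw [E.card]; push_cast; ring
  rw [hQR] at hR'
  have h1 : (T₁ : ℝ) * ((q : ℝ) + 1) = (F.card : ℝ) * L := by
    field_simp at hR'
    nlinarith
  have hW : (Nat.card (W Q) : ℝ) ≠ 0 := Nat.cast_ne_zero.2 Nat.card_pos.ne'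
  apply mul_left_cancel₀ hW
  calc (Nat.card (W Q) : ℝ) * (L * ((q : ℝ) * (H Q n).index)) = ((F.card : ℝ) * o) * L := by
        rw [hIR]; ring
    _ = ((T₁ : ℝ) * o) * ((q : ℝ) + 1) := by rw [mul_right_comm _ (o : ℝ) L, ← h1]; ring
    _ = _ := by rw [hT]; ring

/-- The degree of a principal character against its coefficient. -/
theorem Elem.fixed_data (E : Elem Q n q) (hM : IsPModular 2 M) (hR : E.Reps {μ})
    {χ : IrrCharacter X} (hχ : χ ∈ B0 M) :
    (0 < E.coef χ μ → charDegree (χ : X → ℂ) ≤ (H Q n).index) ∧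
    (q : ℤ) * -(E.coef χ μ) ≤ charDegree (χ : X → ℂ) ∧
    ((charDegree (χ : X → ℂ) : ℤ) = (q : ℤ) * -(E.coef χ μ) → W Q ≤ Codegree.kerSub χ) ∧
    ((q : ℤ) + 1) ∣ (charDegree (χ : X → ℂ) : ℤ) + q * E.coef χ μ := by
  set b := E.coef χ μ with hb
  set d := charDegree (χ : X → ℂ) with hd
  have hnB : n ∈ normalizer (B Q : Set X) :=
    Coprime.mem_normalizer_of_forall fun x hx => by simpa using E.n_normalizes 1 x hx
  obtain ⟨A, A', k, hB, hW, hQ, hAA', hAk, hker, hidx⟩ :=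
    exists_fixed χ E.W_le_B E.Q_le_B hnB
  have hsplitQ : ∑ x : (Q : Subgroup X), (χ : X → ℂ) x = (d : ℂ) + (q : ℂ) * b := by
    rw [← Finset.add_sum_erase _ _ (Finset.mem_univ (1 : (Q : Subgroup X))),
      Finset.sum_congr rfl fun x hx => E.value hR χ (Finset.mem_erase.1 hx).1,
      Finset.sum_const, Finset.card_erase_of_mem (Finset.mem_univ _), Finset.card_univ,
      ← Nat.card_eq_fintype_card, E.card, Nat.add_sub_cancel, nsmul_eq_mul, hd,
      Blocks.charDegree_cast]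
    rfl
  have hk : (d : ℤ) + q * b = ((q : ℤ) + 1) * k := by
    rw [hQ, E.card] at hsplitQ
    have : (((d : ℤ) + q * b : ℤ) : ℂ) = ((((q : ℤ) + 1) * k : ℤ) : ℂ) := by
      push_cast at hsplitQ ⊢; rw [← hsplitQ]
    exact_mod_cast this
  have hsplit : ∑ x : B Q, (χ : X → ℂ) x = ∑ x : W Q, (χ : X → ℂ) x +
      ((Nat.card (B Q) : ℂ) - Nat.card (W Q)) * b := by
    rw [← Finset.sum_filter_add_sum_filter_not Finset.univ (fun x : B Q => (x : X) ∈ W Q)]
    congr 1
    · refine Finset.sum_bij (fun x hx => ⟨x, (Finset.mem_filter.1 hx).2⟩) (fun _ _ => Finset.mem_univ _)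
        (fun x _ y _ h => ?_) (fun y _ => ?_) (fun _ _ => rfl)
      · exact Subtype.ext (congrArg (fun z : W Q => (z : X)) h)
      · exact ⟨⟨y, E.W_le_B y.2⟩, Finset.mem_filter.2 ⟨Finset.mem_univ _, y.2⟩, rfl⟩
    · have hv : ∀ x ∈ Finset.univ.filter (fun x : B Q => ¬ (x : X) ∈ W Q),
          (χ : X → ℂ) x = (b : ℂ) := fun x hx => E.value_singular hM hR hχ (by_contra fun h =>
        (Finset.mem_filter.1 hx).2 (E.mem_W_of_odd x.2 h))
      rw [Finset.sum_congr rfl hv, Finset.sum_const, nsmul_eq_mul]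
      congr 1
      have hcard : (Finset.univ.filter fun x : B Q => (x : X) ∈ W Q).card = Nat.card (W Q) := by
        rw [← Fintype.card_subtype, ← Nat.card_eq_fintype_card,
          Nat.card_congr (Subgroup.subgroupOfEquivOfLe E.W_le_B).toEquiv.symm]
        rfl
      have h := Finset.card_filter_add_card_filter_not (s := (Finset.univ : Finset (B Q)))
        (fun x : B Q => (x : X) ∈ W Q)
      rw [hcard, Finset.card_univ, ← Nat.card_eq_fintype_card] at h
      rw [← h]; push_cast; ring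
  have hA : ((q : ℤ) + 1) * A = A' + q * b := by
    rw [hB, hW, E.card_B, E.card] at hsplit
    have hw : (Nat.card (W Q) : ℂ) ≠ 0 := Nat.cast_ne_zero.2 Nat.card_pos.ne'
    have : ((((q : ℤ) + 1) * A : ℤ) : ℂ) = ((A' + q * b : ℤ) : ℂ) := by
      apply mul_left_cancel₀ hw
      push_cast at hsplit ⊢
      linear_combination hsplit
    exact_mod_cast this
  have hq : (0 : ℤ) < q := Int.natCast_pos.2 E.pos
  have hk0 : (0 : ℤ) ≤ ((q : ℤ) + 1) * k := by positivity
  refine ⟨fun hbpos => hidx fun hA0 => ?_, by linarith, fun heq => hker ?_, ⟨k, hk⟩⟩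
  · rw [hA0, Nat.cast_zero, mul_zero] at hA
    nlinarith [Int.natCast_nonneg A']
  · have : k = 0 := by
      have : ((q : ℤ) + 1) * k = 0 := by linarith
      have := (mul_eq_zero.1 this).resolve_left (by omega)
      exact_mod_cast this
    have hA0 : A = 0 := by omega
    rw [hA0, Nat.cast_zero, mul_zero] at hA
    have : (A' : ℤ) = d := by linarith
    exact_mod_cast this

/-- The equality cases. -/
theorem Elem.shape (E : Elem Q n q) (hM : IsPModular 2 M) (hR : E.Reps {μ}) :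
    W Q = ⊥ ∧ Nat.card (Q : Subgroup X) + 1 ≤ (H Q n).index ∧
    ∑ χ ∈ (B0 M).filter (fun χ => E.coef χ μ ≠ 0), (charDegree (χ : X → ℂ) : ℤ) ^ 2 =
      (q : ℤ) - (H Q n).index + (H Q n).index * q * q + 1 := by
  haveI : Fact (Nat.Prime 2) := ⟨Nat.prime_two⟩
  set m := (H Q n).index with hm
  have hm0 : m ≠ 0 := Subgroup.index_ne_zero_of_finite
  set one := BrauerPairs.oneIrr X
  have h1B : one ∈ B0 M := mem_B0.2 (BrauerPairs.oneIrr_mem_principal hM)
  have hc1 : E.coef one μ = 1 := E.coef_one (fun _ => rfl) (hR.ne_one _ (Finset.mem_singleton_self μ))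
  have hd1 : charDegree ((one : IrrCharacter X) : X → ℂ) = 1 := by
    apply Nat.cast_injective (R := ℂ); rw [Blocks.charDegree_cast, Nat.cast_one]; rfl
  set s := (B0 M).erase one
  have hN : ∑ χ ∈ s, (E.coef χ μ : ℝ) ^ 2 = q := by
    have h := E.sum_sq_coef hM hR
    rw [← Finset.add_sum_erase _ _ h1B, hc1] at h
    have h' : ((∑ χ ∈ s, E.coef χ μ ^ 2 : ℤ) : ℝ) = ((q : ℤ) : ℝ) := by
      rw [show ∑ χ ∈ s, E.coef χ μ ^ 2 = (q : ℤ) by linarith]
    push_cast at h'; exact h'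
  have hD : ∑ χ ∈ s, (E.coef χ μ : ℝ) * (charDegree (χ : X → ℂ) : ℝ) = -1 := by
    have h := E.coef_degree hM μ
    change ∑ χ ∈ B0 M, _ = _ at h
    rw [← Finset.add_sum_erase _ _ h1B, hc1, hd1] at h
    push_cast at h
    have h' : ((∑ χ ∈ s, (charDegree (χ : X → ℂ) : ℤ) * E.coef χ μ : ℤ) : ℝ) = ((-1 : ℤ) : ℝ) := by
      rw [show ∑ χ ∈ s, (charDegree (χ : X → ℂ) : ℤ) * E.coef χ μ = -1 by linarith]
    push_cast at h'
    rw [← h']; exact Finset.sum_congr rfl fun χ _ => mul_comm _ _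
  have hL := E.sum_cube hM hR
  rw [← Finset.add_sum_erase _ _ h1B, hc1, hd1, ← hm] at hL
  have hqR : (0 : ℝ) < q := Nat.cast_pos.2 E.pos
  have hmR : (0 : ℝ) < (m : ℝ) := Nat.cast_pos.2 (Nat.pos_of_ne_zero hm0)
  have hterm : ∀ χ ∈ s, ((q : ℝ) - m) * (E.coef χ μ : ℝ) ^ 2 ≤
      (q : ℝ) * m * ((E.coef χ μ : ℝ) ^ 3 / (charDegree (χ : X → ℂ) : ℝ)) -
        (E.coef χ μ : ℝ) * (charDegree (χ : X → ℂ) : ℝ) ∧ _ := fun χ hχ =>
    term_bound hqR hmR (Nat.cast_pos.2 (Blocks.charDegree_pos _))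
      (fun h => Nat.cast_le.2 ((E.fixed_data hM hR (Finset.mem_erase.1 hχ).2).1 h))
      (fun _ => by exact_mod_cast (E.fixed_data hM hR (Finset.mem_erase.1 hχ).2).2.1)
  have heq : ∑ χ ∈ s, ((q : ℝ) - m) * (E.coef χ μ : ℝ) ^ 2 =
      ∑ χ ∈ s, ((q : ℝ) * m * ((E.coef χ μ : ℝ) ^ 3 / (charDegree (χ : X → ℂ) : ℝ)) -
        (E.coef χ μ : ℝ) * (charDegree (χ : X → ℂ) : ℝ)) := by
    rw [Finset.sum_sub_distrib, ← Finset.mul_sum, ← Finset.mul_sum, hN, hD]
    push_cast at hL
    rw [show (1 : ℝ) ^ 3 / 1 = 1 by norm_num] at hL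
    linear_combination (-1 : ℝ) * hL
  have hcase : ∀ χ ∈ s, (0 < E.coef χ μ → E.coef χ μ = 1 ∧ charDegree (χ : X → ℂ) = m) ∧
      (E.coef χ μ < 0 → (charDegree (χ : X → ℂ) : ℤ) = (q : ℤ) * -(E.coef χ μ)) := by
    intro χ hχ
    have h := (hterm χ hχ).2
      ((Finset.sum_eq_sum_iff_of_le fun i hi => (hterm i hi).1).1 heq χ hχ)
    exact ⟨fun hb => ⟨(h.1 hb).1, by exact_mod_cast (h.1 hb).2⟩,
      fun hb => by exact_mod_cast h.2 hb⟩
  -- a negative character has `W` in its kernel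
  obtain ⟨χ, hχ, hχneg⟩ : ∃ χ ∈ s, E.coef χ μ < 0 := by
    by_contra hcon
    push Not at hcon
    have : 0 ≤ ∑ χ ∈ s, (E.coef χ μ : ℝ) * (charDegree (χ : X → ℂ) : ℝ) :=
      Finset.sum_nonneg fun χ hχ => mul_nonneg (Int.cast_nonneg (hcon χ hχ)) (Nat.cast_nonneg _)
    linarith
  have hWker := (E.fixed_data hM hR (Finset.mem_erase.1 hχ).2).2.2.1 ((hcase χ hχ).2 hχneg)
  have hodd : ¬ 2 ∣ Nat.card (Codegree.kerSub χ) := by
    intro h
    obtain ⟨⟨t, ht⟩, htt⟩ := exists_prime_orderOf_dvd_card' (G := Codegree.kerSub χ) 2 h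
    rw [Subgroup.orderOf_mk] at htt
    obtain ⟨y, hy⟩ := FrobSection.exists_rep Q t
    rw [FrobSection.pp_eq_self ⟨1, by rw [htt]; rfl⟩] at hy
    obtain ⟨c, hc⟩ := isConj_iff.1 hy
    have hy1 : y ≠ 1 := by
      rintro rfl
      rw [isConj_one_left.1 (by simpa using hy : IsConj t (1 : X)), orderOf_one] at htt
      omega
    have hyk : (y : X) ∈ Codegree.kerSub χ := hc ▸ (Codegree.kerSub_normal χ).conj_mem t ht c
    rw [Codegree.mem_kerSub, E.value hR χ hy1, ← Blocks.charDegree_cast] at hyk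
    have : E.coef χ μ = (charDegree (χ : X → ℂ) : ℤ) := by exact_mod_cast hyk
    omega
  have hker : Codegree.kerSub χ = ⊥ := eq_bot_iff.2 (E.core ▸ Cores.le_pPrimeCore inferInstance
    ((Nat.prime_two.coprime_iff_not_dvd).2 hodd).symm)
  have hW : W Q = ⊥ := eq_bot_iff.2 (hker ▸ hWker)
  -- a positive character
  obtain ⟨ψ, hψ, hψpos⟩ : ∃ ψ ∈ s, 0 < E.coef ψ μ := by
    by_contra hcon
    push Not at hcon
    have hsum : ∑ χ ∈ s, (E.coef χ μ : ℝ) * (charDegree (χ : X → ℂ) : ℝ) =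
        ∑ χ ∈ s, -(q : ℝ) * (E.coef χ μ : ℝ) ^ 2 := by
      refine Finset.sum_congr rfl fun χ hχ => ?_
      rcases (hcon χ hχ).lt_or_eq with h | h
      · have e : ((charDegree (χ : X → ℂ) : ℤ) : ℝ) = (((q : ℤ) * -(E.coef χ μ) : ℤ) : ℝ) := by
          rw [(hcase χ hχ).2 h]
        push_cast at e; rw [e]; ring
      · rw [h]; simp
    rw [hD, ← Finset.mul_sum, hN] at hsum
    have h2 : (2 : ℝ) ≤ q := by exact_mod_cast E.one_lt
    nlinarith
  refine ⟨hW, ?_, ?_⟩
  · obtain ⟨hψ1, hψd⟩ := (hcase ψ hψ).1 hψpos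
    obtain ⟨k, hk⟩ := (E.fixed_data hM hR (Finset.mem_erase.1 hψ).2).2.2.2
    rw [hψ1, hψd, mul_one] at hk
    have hm1 : m ≠ 1 := fun h => E.H_ne_top (Subgroup.index_eq_one.1 h)
    have hk2 : 1 < k := by
      by_contra hle
      have hm2 : (2 : ℤ) ≤ m := by omega
      nlinarith
    have : ((q : ℤ) + 1) + 1 ≤ m := by nlinarith
    rw [E.card]; exact_mod_cast this
  · have h1f : one ∈ (B0 M).filter (fun χ => E.coef χ μ ≠ 0) :=
      Finset.mem_filter.2 ⟨h1B, by rw [hc1]; exact one_ne_zero⟩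
    rw [← Finset.add_sum_erase _ _ h1f, hd1, ← Finset.filter_erase, Finset.sum_filter]
    apply Int.cast_injective (α := ℝ)
    push_cast
    rw [Finset.sum_congr rfl (g := fun χ => ((m : ℝ) - q) *
      ((E.coef χ μ : ℝ) * (charDegree (χ : X → ℂ) : ℝ)) + (q : ℝ) * m * (E.coef χ μ : ℝ) ^ 2)
      fun χ hχ => ?_, Finset.sum_add_distrib, ← Finset.mul_sum, ← Finset.mul_sum, hN, hD]
    · ring
    · rcases lt_trichotomy (E.coef χ μ) 0 with h | h | h
      · rw [if_pos h.ne]
        have e : ((charDegree (χ : X → ℂ) : ℤ) : ℝ) = (((q : ℤ) * -(E.coef χ μ) : ℤ) : ℝ) := by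
          rw [(hcase χ hχ).2 h]
        push_cast at e ⊢; rw [e]; ring
      · rw [h]; simp
      · rw [if_pos h.ne', ((hcase χ hχ).1 h).1, ((hcase χ hχ).1 h).2]
        push_cast; ring

/-- With `W = 1`: the centraliser of an involution has order `|Q|`. -/
theorem Elem.card_cent (E : Elem Q n q) (hW : W Q = ⊥) {u : X} (hu : u ∈ (Q : Subgroup X))
    (hu1 : u ≠ 1) : Nat.card (centralizer ({u} : Set X)) = Nat.card (Q : Subgroup X) := by
  rw [E.card_centralizer hu hu1, show Cfsg.centralizerPPrimeCore 2 u = ⊥ from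
    eq_bot_iff.2 (hW ▸ E.core_le hu hu1), Subgroup.card_bot, one_mul]

/-- The class count. -/
theorem Elem.class_bound (E : Elem Q n q) (hW : W Q = ⊥) :
    (H Q n).index * q + 2 * (q + 1) ≤ q + Nat.card (IrrCharacter X) * (q + 1) := by
  haveI : Fact (Nat.Prime 2) := ⟨Nat.prime_two⟩
  obtain ⟨a, ha, ha1⟩ := E.ex_involution
  set F := Finset.univ.filter fun x : X => IsConj a x
  set m := (H Q n).index
  have hHcard : Nat.card X = m * q * (q + 1) := by
    rw [← Subgroup.card_mul_index (H Q n), E.card_H, E.card_B, hW, Subgroup.card_bot, one_mul,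
      E.card]
    ring
  have hcentF : ∀ g ∈ F, Nat.card (centralizer ({g} : Set X)) = q + 1 ∧ g * g = 1 ∧ g ≠ 1 := by
    intro g hg
    obtain ⟨c, rfl⟩ := isConj_iff.1 (Finset.mem_filter.1 hg).2
    refine ⟨?_, by rw [show c * a * c⁻¹ * (c * a * c⁻¹) = c * (a * a) * c⁻¹ by group, E.sq a ha]; group,
      fun h => ha1 (conj_eq_one_iff.1 h)⟩
    have h1 := Char.card_conjugates_mul_card_centralizer (G := X) (c * a * c⁻¹)
    have h2 := Char.card_conjugates_mul_card_centralizer (G := X) a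
    rw [E.card_cent hW ha ha1, E.card] at h2
    rw [show {x : X | IsConj (c * a * c⁻¹) x} = {x : X | IsConj a x} by
      ext x
      exact ⟨fun h => (isConj_iff.2 ⟨c, rfl⟩).trans h,
        fun h => (isConj_iff.2 ⟨c, rfl⟩ : IsConj a (c * a * c⁻¹)).symm.trans h⟩] at h1
    haveI : Nonempty {x : X | IsConj a x} := ⟨⟨a, IsConj.refl a⟩⟩
    exact Nat.eq_of_mul_eq_mul_left (Nat.card_pos (α := {x : X | IsConj a x})) (h1.trans h2.symm)
  have hF : F.card = m * q := by
    have h2 := Char.card_conjugates_mul_card_centralizer (G := X) a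
    rw [E.card_cent hW ha ha1, E.card, hHcard] at h2
    refine Eq.trans ?_ (Nat.eq_of_mul_eq_mul_right (Nat.succ_pos q) h2)
    rw [← Fintype.card_subtype, ← Nat.card_eq_fintype_card]
    rfl
  set c : X → ℕ := fun g => Nat.card (centralizer ({g} : Set X))
  set fib : X → ℕ := fun g => (F.filter fun s => s⁻¹ * g ∈ F).card
  have htot : ∑ g, fib g = F.card * F.card := by
    simp only [fib, Finset.card_filter]
    rw [Finset.sum_comm, Finset.card_eq_sum_ones, Finset.sum_mul]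
    refine Finset.sum_congr rfl fun s _ => ?_
    rw [one_mul, ← Finset.card_filter]
    refine Eq.trans ?_ (Finset.card_eq_sum_ones F)
    exact Finset.card_nbij' (fun g => s⁻¹ * g) (fun t => s * t) (fun g hg => (Finset.mem_filter.1 hg).2)
      (fun t ht => Finset.mem_filter.2 ⟨Finset.mem_univ _, by simpa using ht⟩)
      (fun g _ => mul_inv_cancel_left s g) (fun t _ => inv_mul_cancel_left s t)
  have hgen : ∀ g, fib g ≤ c g := by
    intro g
    rcases (F.filter fun s => s⁻¹ * g ∈ F).eq_empty_or_nonempty with h | ⟨s₀, hs₀⟩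
    · simp [fib, h]
    have hinv : ∀ s ∈ F.filter (fun s => s⁻¹ * g ∈ F), s * g * s⁻¹ = g⁻¹ := by
      intro s hs
      obtain ⟨hs, ht⟩ := Finset.mem_filter.1 hs
      have e1 : s⁻¹ = s := inv_eq_of_mul_eq_one_right (hcentF s hs).2.1
      have e2 : (s⁻¹ * g)⁻¹ = s⁻¹ * g := inv_eq_of_mul_eq_one_right (hcentF _ ht).2.1
      calc s * g * s⁻¹ = s * (s * (s⁻¹ * g)) * s⁻¹ := by group
        _ = (s⁻¹ * g) * s⁻¹ := by rw [← mul_assoc s s, (hcentF s hs).2.1, one_mul]
        _ = (s⁻¹ * g)⁻¹ * s⁻¹ := by rw [e2]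
        _ = g⁻¹ := by group
    refine le_trans ?_ (le_of_eq (show ((Finset.univ.filter fun x => x ∈ centralizer ({g} : Set X))
      |>.card) = c g by rw [← Fintype.card_subtype, ← Nat.card_eq_fintype_card]))
    refine Finset.card_le_card_of_injOn (fun s => s₀⁻¹ * s) (fun s hs => ?_)
      fun s _ s' _ h => mul_left_cancel h
    refine Finset.mem_filter.2 ⟨Finset.mem_univ _, mem_centralizer_singleton_iff.2 ?_⟩
    have h1 := hinv s hs
    have h2 := hinv s₀ hs₀
    calc s₀⁻¹ * s * g = s₀⁻¹ * (s * g * s⁻¹) * s := by group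
      _ = s₀⁻¹ * (s₀ * g * s₀⁻¹) * s := by rw [h1, h2]
      _ = g * (s₀⁻¹ * s) := by group
  have hFg : ∀ g ∈ F, fib g ≤ q - 1 := by
    intro g hg
    have hsub : (F.filter fun s => s⁻¹ * g ∈ F) ⊆
        ((Finset.univ.filter fun x => x ∈ centralizer ({g} : Set X)).erase 1).erase g := by
      intro s hs
      obtain ⟨hs, ht⟩ := Finset.mem_filter.1 hs
      refine Finset.mem_erase.2 ⟨fun h => ?_, Finset.mem_erase.2 ⟨(hcentF s hs).2.2,
        Finset.mem_filter.2 ⟨Finset.mem_univ _, mem_centralizer_singleton_iff.2 ?_⟩⟩⟩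
      · rw [h, inv_mul_cancel] at ht
        exact (hcentF 1 ht).2.2 rfl
      · have e2 := (hcentF _ ht).2.1
        have e1 : s⁻¹ = s := inv_eq_of_mul_eq_one_right (hcentF s hs).2.1
        calc s * g = (s⁻¹ * g) := by rw [e1]
          _ = (s⁻¹ * g)⁻¹ := (inv_eq_of_mul_eq_one_right e2).symm
          _ = g⁻¹ * s := by group
          _ = g * s := by rw [inv_eq_of_mul_eq_one_right (hcentF g hg).2.1]
    refine le_trans (Finset.card_le_card hsub) (le_of_eq ?_)
    rw [Finset.card_erase_of_mem, Finset.card_erase_of_mem, ← Fintype.card_subtype,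
      ← Nat.card_eq_fintype_card, (hcentF g hg).1]
    · omega
    · simp
    · exact Finset.mem_erase.2 ⟨(hcentF g hg).2.2, by simp [mem_centralizer_singleton_iff]⟩
  have h1F : (1 : X) ∉ F := fun h => (hcentF 1 h).2.2 rfl
  set rest := (Finset.univ.erase (1 : X)).filter fun g => g ∉ F
  have hsplit : ∀ f : X → ℕ, ∑ g, f g = f 1 + (∑ g ∈ F, f g + ∑ g ∈ rest, f g) := by
    intro f
    rw [← Finset.add_sum_erase _ _ (Finset.mem_univ (1 : X)),
      ← Finset.sum_filter_add_sum_filter_not (Finset.univ.erase (1 : X)) (· ∈ F)]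
    congr 2
    refine Finset.sum_congr ?_ fun _ _ => rfl
    ext g
    simp only [Finset.mem_filter, Finset.mem_erase, Finset.mem_univ, and_true]
    exact ⟨fun h => h.2, fun h => ⟨fun e => h1F (e ▸ h), h⟩⟩
  have h1 : fib 1 ≤ m * q := hF ▸ Finset.card_filter_le _ _
  have hc1 : c 1 = m * q * (q + 1) := by
    rw [← hHcard]
    refine Nat.card_congr (Equiv.subtypeUnivEquiv fun x => ?_)
    simp [mem_centralizer_singleton_iff]
  have hcall : ∑ g, c g = Nat.card (IrrCharacter X) * (m * q * (q + 1)) := by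
    rw [Char.card_irr_eq_card_conjClasses, ← hHcard, ← card_comm_eq_card_conjClasses_mul_card]
    rw [Nat.card_congr
      { toFun := fun p : {p : X × X // Commute p.1 p.2} =>
          (⟨p.1.1, p.1.2, mem_centralizer_singleton_iff.2 p.2.eq.symm⟩ :
            Σ g : X, centralizer ({g} : Set X))
        invFun := fun p => ⟨(p.1, (p.2 : X)), (mem_centralizer_singleton_iff.1 p.2.2).symm⟩
        left_inv := fun _ => rfl
        right_inv := fun _ => rfl }, Nat.card_sigma]
  have hcF : ∑ g ∈ F, c g = m * q * (q + 1) := by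
    rw [Finset.sum_congr rfl fun g hg => (hcentF g hg).1, Finset.sum_const, smul_eq_mul, hF]
  have hfF : ∑ g ∈ F, fib g ≤ m * q * (q - 1) := by
    rw [← hF]; exact (Finset.sum_le_card_nsmul _ _ _ hFg).trans_eq (smul_eq_mul _ _)
  have hrest : ∑ g ∈ rest, fib g ≤ ∑ g ∈ rest, c g := Finset.sum_le_sum fun g _ => hgen g
  rw [hsplit fib, hF] at htot
  rw [hsplit c, hc1, hcF] at hcall
  have hpos : 0 < m * q :=
    Nat.mul_pos (Nat.pos_of_ne_zero Subgroup.index_ne_zero_of_finite) E.pos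
  refine Nat.le_of_mul_le_mul_left ?_ hpos
  obtain ⟨r, hr⟩ : ∃ r, q = r + 1 := ⟨q - 1, by have := E.pos; omega⟩
  rw [hr, Nat.add_sub_cancel] at hfF
  rw [hr] at h1 htot hcall ⊢
  nlinarith

/-- At least `q + 1` principal characters. -/
theorem Elem.succ_le_card (E : Elem Q n q) (hM : IsPModular 2 M) : q + 1 ≤ (B0 (X := X) M).card := by
  obtain ⟨μ, hR⟩ := E.reps_eq_singleton
  obtain ⟨hW, hm, hnz⟩ := E.shape hM hR
  obtain ⟨a, ha, ha1⟩ := E.ex_involution
  set m := (H Q n).index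
  have hHcard : Nat.card X = m * q * (q + 1) := by
    rw [← Subgroup.card_mul_index (H Q n), E.card_H, E.card_B, hW, Subgroup.card_bot, one_mul,
      E.card]
    ring
  have hout : ∀ χ : IrrCharacter X, χ ∉ B0 M → E.coef χ μ = 0 := by
    intro χ hχ
    have h := E.secSum_eq_zero hM ha ha1 fun h => hχ (mem_B0.2 h)
    rw [Setting.secSum, show Finset.univ.filter (fun s : X => s ∈ Cfsg.centralizerPPrimeCore 2 a) = {1}
      by
        ext s
        simp [show Cfsg.centralizerPPrimeCore 2 a = ⊥ from eq_bot_iff.2 (hW ▸ E.core_le ha ha1)],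
      Finset.sum_singleton, mul_one] at h
    rw [show (χ : X → ℂ) a = _ from E.value hR χ (x := ⟨a, ha⟩)
      fun e => ha1 (congrArg Subtype.val e)] at h
    exact_mod_cast h
  set Z := Finset.univ.filter fun χ : IrrCharacter X => E.coef χ μ = 0
  have hNZ : Finset.univ.filter (fun χ : IrrCharacter X => ¬ E.coef χ μ = 0) =
      (B0 M).filter fun χ => E.coef χ μ ≠ 0 := by
    ext χ
    simp only [Finset.mem_filter, Finset.mem_univ, true_and, ne_eq]
    exact ⟨fun h => ⟨by_contra fun h' => h (hout χ h'), h⟩, fun h => h.2⟩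
  have hZsum : ∑ χ ∈ Z, (charDegree (χ : X → ℂ) : ℤ) ^ 2 = ((q : ℤ) + 1) * ((m : ℤ) - 1) := by
    have hall : ∑ χ : IrrCharacter X, (charDegree (χ : X → ℂ) : ℤ) ^ 2 = m * q * (q + 1) := by
      apply Int.cast_injective (α := ℂ)
      push_cast
      simp only [Blocks.charDegree_cast, Char.sum_sq_degrees, hHcard]
      push_cast; ring
    rw [← Finset.sum_filter_add_sum_filter_not _ (fun χ : IrrCharacter X => E.coef χ μ = 0), hNZ,
      hnz] at hall
    linarith
  have hZd : ∀ χ ∈ Z, ((q : ℤ) + 1) ^ 2 ≤ (charDegree (χ : X → ℂ) : ℤ) ^ 2 := by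
    intro χ hχ
    refine pow_le_pow_left₀ (by positivity) ?_ 2
    have hQ : ∑ x : (Q : Subgroup X), (χ : X → ℂ) x = (charDegree (χ : X → ℂ) : ℂ) := by
      rw [Finset.sum_eq_single (1 : (Q : Subgroup X)) (fun x _ hx => by
        rw [E.value hR χ hx, (Finset.mem_filter.1 hχ).2, Int.cast_zero])
        (fun h => absurd (Finset.mem_univ _) h), Blocks.charDegree_cast]
      rfl
    have hk : (charDegree (χ : X → ℂ) : ℂ) = ((Nat.card (Q : Subgroup X) * E.mult χ 1 : ℕ) : ℂ) := by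
      rw [← hQ, Nat.cast_mul, E.mult_spec]
      simp [Nat.card_pos.ne']
    have hk' := Nat.cast_injective hk
    have hpos := Blocks.charDegree_pos χ
    rw [hk', E.card]
    rw [hk'] at hpos
    exact_mod_cast Nat.le_mul_of_pos_right _ (Nat.pos_of_mul_pos_left hpos)
  have hZc : ((q : ℤ) + 1) * Z.card ≤ (m : ℤ) - 1 := by
    have h := Finset.card_nsmul_le_sum Z _ _ hZd
    rw [hZsum, nsmul_eq_mul] at h
    refine le_of_mul_le_mul_left ?_ (show (0 : ℤ) < (q : ℤ) + 1 by positivity)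
    linarith
  have hk : Nat.card (IrrCharacter X) ≤ Z.card + (B0 (X := X) M).card := by
    rw [Nat.card_eq_fintype_card, ← Finset.card_univ,
      ← Finset.card_filter_add_card_filter_not (s := (Finset.univ : Finset (IrrCharacter X)))
        (fun χ : IrrCharacter X => E.coef χ μ = 0), hNZ]
    exact Nat.add_le_add_left (Finset.card_filter_le _ _) _
  have hb := E.class_bound hW
  change m * q + _ ≤ _ at hb
  rw [E.card] at hm
  have hbZ : (m : ℤ) * q + 2 * ((q : ℤ) + 1) ≤ q + ((Z.card : ℤ) + (B0 (X := X) M).card) * (q + 1) := by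
    have h2 := hb.trans (Nat.add_le_add_left (Nat.mul_le_mul_right (q + 1) hk) q)
    exact_mod_cast h2
  have hmZ : (q : ℤ) + 1 + 1 ≤ m := by exact_mod_cast hm
  have h3 : (3 : ℤ) ≤ q := by
    have := E.two_lt
    exact_mod_cast this
  have hfinal : ((q : ℤ) + 1) * (q + 1) ≤ ((q : ℤ) + 1) * (B0 (X := X) M).card := by
    nlinarith [mul_le_mul_of_nonneg_right hmZ (show (0 : ℤ) ≤ (q : ℤ) - 1 by linarith)]
  exact_mod_cast le_of_mul_le_mul_left hfinal (by positivity)

end Cfsg.Agent.PrimeInertial
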