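import Cfsg.Agent.Lib.PrimeInertial.OneClass
import Cfsg.Agent.Lib.Codegree.Basic

/-!
# `Q` is elementary abelian of order `q + 1`

`card_omega`: with one class of involutions there are exactly `q` of them in `Q`;
`sq_eq_one`: then, if only the trivial character is trivial on `Q` and normal subgroups meeting `Q`
contain it, `Q` has exponent two; `card_eq`: and order `q + 1`.
-/

set_option autoImplicit false
set_option maxHeartbeats 800000

open scoped Classical ComplexConjugate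

namespace Cfsg.Agent.PrimeInertial

open Subgroup Cfsg Cfsg.Agent

universe u

variable {X : Type u} [Group X] [Finite X] {Q : Sylow 2 X} {n : X} {q : ℕ}

/-- The squaring map of `Q`. -/
def Setting.sqHom (S : Setting Q n q) : (Q : Subgroup X) →* (Q : Subgroup X) where
  toFun x := x * x
  map_one' := one_mul 1
  map_mul' x y := Subtype.ext (by
    show (x : X) * y * (x * y) = x * x * (y * y)
    exact Commute.mul_mul_mul_comm (S.commute y.2 x.2) _ _)

/-- The involutions of `Q`, with one class: `q` of them. -/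
theorem Setting.card_omega (S : Setting Q n q)
    (hone : ∀ a b : (Q : Subgroup X), orderOf (a : X) = 2 → orderOf (b : X) = 2 →
      IsConj (a : X) (b : X)) :
    Nat.card S.sqHom.ker = q + 1 := by
  haveI : Fact (Nat.Prime 2) := ⟨Nat.prime_two⟩
  have hdvd : 2 ∣ Nat.card (Q : Subgroup X) := by
    obtain ⟨k, hk⟩ := IsPGroup.iff_card.1 Q.isPGroup'
    have hk0 : k ≠ 0 := fun h0 => S.ne_bot (Subgroup.card_eq_one.1 (by rw [hk, h0, pow_zero]))
    exact hk ▸ dvd_pow_self 2 hk0
  obtain ⟨t, ht⟩ := exists_prime_orderOf_dvd_card' (G := (Q : Subgroup X)) 2 hdvd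
  have htX : orderOf (t : X) = 2 := by rw [Subgroup.orderOf_coe, ht]
  have ht1 : (t : X) ≠ 1 := fun h => by rw [h, orderOf_one] at htX; omega
  refine Eq.trans ?_ (congrArg (· + 1) (S.card_orbit t.2 ht1))
  beta_reduce
  rw [← Finite.card_option]
  have key : ∀ x : (Q : Subgroup X), x ≠ 1 → (x ∈ S.sqHom.ker ↔ IsConj (t : X) (x : X)) := by
    intro x hx
    rw [MonoidHom.mem_ker]
    constructor
    · intro h
      refine hone t x htX (orderOf_eq_prime ?_ fun e => hx (Subtype.ext e))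
      rw [sq]
      exact congrArg Subtype.val h
    · intro h
      obtain ⟨c, hc⟩ := isConj_iff.1 h
      refine Subtype.ext ?_
      show (x : X) * x = 1
      have h2 : (t : X) * t = 1 := by
        have h2 := pow_orderOf_eq_one (t : X)
        rwa [htX, sq] at h2
      rw [← hc, show c * (t : X) * c⁻¹ * (c * (t : X) * c⁻¹) = c * ((t : X) * t) * c⁻¹ by group, h2]
      group
  refine Nat.card_congr
    { toFun := fun x => if h : (x : (Q : Subgroup X)) = 1 then none else some ⟨x, (key _ h).1 x.2⟩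
      invFun := fun o => match o with
        | none => 1
        | some y => ⟨y.1, (key _ fun e => ht1 (isConj_one_left.1
            ((show ((y : (Q : Subgroup X)) : X) = 1 from congrArg Subtype.val e) ▸ y.2))).2 y.2⟩
      left_inv := fun x => by
        by_cases h : (x : (Q : Subgroup X)) = 1
        · simp only [h, dif_pos]; exact Subtype.ext h.symm
        · simp only [h, dif_neg, not_false_iff]
      right_inv := fun o => by
        rcases o with _ | y
        · simp
        · have h1 : (y : (Q : Subgroup X)) ≠ 1 := fun e => ht1 (isConj_one_left.1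
            ((show ((y : (Q : Subgroup X)) : X) = 1 from congrArg Subtype.val e) ▸ y.2))
          simp only [h1, dif_neg, not_false_iff] }

variable [Fintype X] [Fintype (IrrCharacter X)] [Fintype ((Q : Subgroup X) →* ℂˣ)]

/-- `Q` has exponent two. -/
theorem Setting.sq_eq_one (S : Setting Q n q) {M : Ideal AlgInt} (hM : IsPModular 2 M)
    (hperf : ∀ χ : IrrCharacter X, (∀ x ∈ (Q : Subgroup X), (χ : X → ℂ) x = (χ : X → ℂ) 1) →
      χ = BrauerPairs.oneIrr X)
    (hker : ∀ K : Subgroup X, K.Normal → K ⊓ (Q : Subgroup X) ≠ ⊥ → (Q : Subgroup X) ≤ K)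
    (hone : ∀ a b : (Q : Subgroup X), orderOf (a : X) = 2 → orderOf (b : X) = 2 →
      IsConj (a : X) (b : X))
    (x : X) (hx : x ∈ (Q : Subgroup X)) : x * x = 1 := by
  haveI : Fact (Nat.Prime 2) := ⟨Nat.prime_two⟩
  letI := S.commQ
  by_contra hxx
  have hΩ := S.card_omega hone
  obtain ⟨R, hR⟩ := S.exists_reps
  have hcard := S.card_eq_reps hR
  set y : (Q : Subgroup X) := S.sqHom ⟨x, hx⟩ with hy
  have hy1 : y ≠ 1 := fun h => hxx (congrArg Subtype.val h)
  have hy1' : (y : X) ≠ 1 := fun h => hy1 (Subtype.ext h)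
  -- the image of squaring has at least `q + 1` elements
  have hrange : q + 1 ≤ Nat.card S.sqHom.range := by
    refine le_trans (le_of_eq (congrArg (· + 1) (S.card_orbit y.2 hy1').symm)) ?_
    rw [← Finite.card_option]
    let e : Option {z : (Q : Subgroup X) // IsConj (y : X) (z : X)} → S.sqHom.range := fun o =>
      match o with
      | none => 1
      | some z => ⟨z.1, by
          obtain ⟨i, -, hiz⟩ := S.fusion y.2 z.1.2 z.2
          refine ⟨S.act i ⟨x, hx⟩, Subtype.ext ?_⟩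
          rw [← hiz]
          show _ * _ = n ^ i * (x * x) * (n ^ i)⁻¹
          rw [Setting.coe_act]
          group⟩
    refine Nat.card_le_card_of_injective e ?_
    rintro (_ | ⟨a, ha⟩) (_ | ⟨b, hb⟩) h
    · rfl
    · exfalso
      have h' : (1 : (Q : Subgroup X)) = b := congrArg Subtype.val h
      exact hy1' (isConj_one_left.1 ((show (b : X) = 1 by rw [← h']; rfl) ▸ hb))
    · exfalso
      have h' : a = (1 : (Q : Subgroup X)) := congrArg Subtype.val h
      exact hy1' (isConj_one_left.1 ((show (a : X) = 1 by rw [h']; rfl) ▸ ha))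
    · have h' : a = b := congrArg Subtype.val h
      simp only [h']
  have hprod : Nat.card (Q : Subgroup X) = Nat.card S.sqHom.ker * Nat.card S.sqHom.range := by
    rw [← Subgroup.index_ker, Subgroup.card_mul_index]
  rw [hΩ, hcard] at hprod
  have hq := S.two_lt
  have hf : q + 2 ≤ R.card := by
    by_contra hlt
    have h1 : q * R.card ≤ q * (q + 1) := Nat.mul_le_mul_left q (by omega)
    have h2 : (q + 1) * (q + 1) ≤ (q + 1) * Nat.card S.sqHom.range := Nat.mul_le_mul_left _ hrange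
    nlinarith
  obtain ⟨D⟩ := exists_rowData hM hR (by omega)
  -- a linear character trivial on the involutions
  obtain ⟨μ, hμ⟩ : ∃ μ : (Q : Subgroup X) →* ℂˣ, μ y ≠ 1 := by
    by_contra hcon
    push Not at hcon
    have h := FreeInertial.sum_dual (A := (Q : Subgroup X)) y
    rw [if_neg hy1] at h
    simp only [hcon, Units.val_one, Finset.sum_const, Finset.card_univ, nsmul_eq_mul, mul_one,
      Nat.cast_eq_zero] at h
    exact Fintype.card_ne_zero h
  obtain ⟨μ₀, hμ₀, i, -, hi⟩ := hR.cover (μ.comp S.sqHom)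
    (fun h => hμ (by rw [hy]; exact DFunLike.congr_fun h ⟨x, hx⟩))
  have hμΩ : ∀ z : (Q : Subgroup X), S.sqHom z = 1 → μ₀ z = 1 := by
    intro z hz
    obtain ⟨w, rfl⟩ := (S.act_bijective i).2 z
    have h1 := DFunLike.congr_fun hi w
    simp only [MonoidHom.comp_apply] at h1
    have hw : S.sqHom w = 1 := S.act_injective i (by
      rw [map_one, ← hz]; exact map_mul _ _ _)
    rw [← h1, hw, map_one]
  have hdvd : 2 ∣ Nat.card (Q : Subgroup X) := by
    obtain ⟨k, hk⟩ := IsPGroup.iff_card.1 Q.isPGroup'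
    have hk0 : k ≠ 0 := fun h0 => S.ne_bot (Subgroup.card_eq_one.1 (by rw [hk, h0, pow_zero]))
    exact hk ▸ dvd_pow_self 2 hk0
  obtain ⟨t, ht⟩ := exists_prime_orderOf_dvd_card' (G := (Q : Subgroup X)) 2 hdvd
  have htX : orderOf (t : X) = 2 := by rw [Subgroup.orderOf_coe, ht]
  have ht1 : t ≠ 1 := fun h => by rw [h, orderOf_one] at ht; omega
  have htt : S.sqHom t = 1 := by
    have h2 := pow_orderOf_eq_one t
    rwa [ht, sq] at h2
  have hθt : S.theta μ₀ t = q := by
    rw [Setting.theta, Finset.sum_congr rfl fun i _ => show ((μ₀ (S.act i t) : ℂˣ) : ℂ) = 1 by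
      rw [hμΩ _ (by show S.act i t * S.act i t = 1; rw [← map_mul, show t * t = 1 from htt, map_one])]
      rfl]
    simp
  -- no element of order at least four is a product of two involutions
  have hzero : ∀ u ∈ Finset.univ.filter (fun u : (Q : Subgroup X) => u ≠ 1),
      (1 - ((μ₀ u : ℂˣ) : ℂ)) * ∑ χ : IrrCharacter X,
        (χ : X → ℂ) t * (χ : X → ℂ) t * conj (S.secSum χ u) / (χ : X → ℂ) 1 = 0 := by
    intro u hu
    by_cases huu : S.sqHom u = 1
    · rw [hμΩ u huu]; simp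
    refine mul_eq_zero_of_right _ ?_
    simp only [Setting.secSum, map_sum, Finset.mul_sum, Finset.sum_div]
    rw [Finset.sum_comm]
    refine Finset.sum_eq_zero fun s hs => ?_
    have h := Char.class_mult_formula (t : X) (t : X) ((u : X) * s)
    haveI : IsEmpty {p : X × X // IsConj (t : X) p.1 ∧ IsConj (t : X) p.2 ∧ p.1 * p.2 = (u : X) * s} := by
      refine ⟨fun p => huu (Subtype.ext (S.not_real u.2 (isConj_iff.2 ⟨p.1.1, ?_⟩)))⟩
      obtain ⟨c₁, hc₁⟩ := isConj_iff.1 p.2.1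
      obtain ⟨c₂, hc₂⟩ := isConj_iff.1 p.2.2.1
      have hp1 : orderOf p.1.1 = 2 := by rw [← hc₁, Involution.orderOf_conj, htX]
      have hp2 : orderOf p.1.2 = 2 := by rw [← hc₂, Involution.orderOf_conj, htX]
      have hu1 : (u : X) ≠ 1 := fun e => (Finset.mem_filter.1 hu).2 (Subtype.ext e)
      have h1 := FrobSection.pp_conj (p := 2) p.1.1 ((u : X) * s)
      have hinv := Involution.inverts_mul_left hp1 hp2
      rw [p.2.2.2] at hinv
      rw [hinv, S.pp_mul u.2 hu1 (Finset.mem_filter.1 hs).2] at h1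
      rw [← h1]
      obtain ⟨hc, hodd⟩ := (S.mem_core u.2 hu1).1 (Finset.mem_filter.1 hs).2
      refine FrobSection.pp_eq ⟨s⁻¹, ?_, hc.symm.inv_inv, ?_, by rwa [orderOf_inv]⟩
      · rw [← mul_inv_rev, hc.eq]
      · obtain ⟨k, hk⟩ := S.orderOf_two_pow u.2
        exact ⟨k, by rw [orderOf_inv, hk]⟩
    rw [Nat.card_of_isEmpty, Nat.cast_zero] at h
    haveI : Nonempty {x : X // IsConj (t : X) x} := ⟨⟨_, IsConj.refl _⟩⟩
    have hK : (Nat.card {x : X // IsConj (t : X) x} : ℂ) ≠ 0 := Nat.cast_ne_zero.2 Nat.card_pos.ne'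
    exact (mul_eq_zero.1 h.symm).resolve_left
      (div_ne_zero (mul_ne_zero hK hK) (Nat.cast_ne_zero.2 Nat.card_pos.ne'))
  have hA : ∀ χ : IrrCharacter X, ∑ u ∈ Finset.univ.filter (fun u : (Q : Subgroup X) => u ≠ 1),
      (1 - ((μ₀ u : ℂˣ) : ℂ)) *
        ((Nat.card (Cfsg.centralizerPPrimeCore 2 (u : X)) : ℂ)⁻¹ * conj (S.secSum χ u)) =
      if χ ∈ B0 M then (Nat.card (Q : Subgroup X) : ℂ) * (S.coef χ μ₀ : ℂ) else 0 := by
    intro χ
    split_ifs with hχ
    · rw [← map_intCast (starRingEnd ℂ) (S.coef χ μ₀), S.coef_spec, map_mul, map_inv₀,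
        Complex.conj_natCast, mul_inv_cancel_left₀ (Nat.cast_ne_zero.2 Nat.card_pos.ne'), map_sum]
      refine Finset.sum_congr rfl fun u hu => ?_
      rw [S.secSum_principal hM u.2 (fun e => (Finset.mem_filter.1 hu).2 (Subtype.ext e)) (mem_B0.1 hχ)]
      simp only [map_mul, map_sub, map_one, Complex.conj_natCast, Complex.conj_conj]
      have : (Nat.card (Cfsg.centralizerPPrimeCore 2 (u : X)) : ℂ) ≠ 0 :=
        Nat.cast_ne_zero.2 Nat.card_pos.ne'
      field_simp
    · refine Finset.sum_eq_zero fun u hu => ?_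
      rw [S.secSum_eq_zero hM u.2 (fun e => (Finset.mem_filter.1 hu).2 (Subtype.ext e))
        (fun h => hχ (mem_B0.2 h)), map_zero, mul_zero, mul_zero]
  have heq : ∑ χ ∈ B0 M, (S.coef χ μ₀ : ℂ) * ((χ : X → ℂ) t * (χ : X → ℂ) t) / (χ : X → ℂ) 1 = 0 := by
    have h0 : ∑ χ : IrrCharacter X, (∑ u ∈ Finset.univ.filter (fun u : (Q : Subgroup X) => u ≠ 1),
        (1 - ((μ₀ u : ℂˣ) : ℂ)) *
          ((Nat.card (Cfsg.centralizerPPrimeCore 2 (u : X)) : ℂ)⁻¹ * conj (S.secSum χ u))) *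
        ((χ : X → ℂ) t * (χ : X → ℂ) t / (χ : X → ℂ) 1) = 0 := by
      simp only [Finset.sum_mul]
      rw [Finset.sum_comm]
      refine Finset.sum_eq_zero fun u hu => ?_
      rw [← mul_zero ((Nat.card (Cfsg.centralizerPPrimeCore 2 (u : X)) : ℂ)⁻¹), ← hzero u hu,
        Finset.mul_sum, Finset.mul_sum]
      exact Finset.sum_congr rfl fun χ _ => by ring
    simp only [hA, ite_mul, zero_mul, ← Finset.sum_filter] at h0
    rw [show Finset.univ.filter (fun χ : IrrCharacter X => χ ∈ B0 M) = B0 M by ext; simp] at h0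
    simp only [mul_assoc, ← Finset.mul_sum, mul_div_assoc] at h0 ⊢
    exact (mul_eq_zero.1 h0).resolve_left (Nat.cast_ne_zero.2 Nat.card_pos.ne')
  -- `c = 0`
  have hone' := D.one_mem_const hM hR (by omega)
  have hsq := D.sum_sq hM hR hμ₀
  have h1C : 1 ≤ ∑ χ ∈ D.const, S.coef χ μ₀ ^ 2 := by
    refine le_trans ?_ (Finset.single_le_sum (fun χ _ => sq_nonneg (S.coef χ μ₀)) hone')
    rw [S.coef_one (fun _ => rfl) (hR.ne_one _ hμ₀)]
    norm_num
  have hc : D.c = 0 := by
    by_contra hc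
    have h1 : 1 ≤ D.c ^ 2 := Int.add_one_le_of_lt (sq_pos_of_ne_zero hc)
    have hfq : (q : ℤ) + 2 ≤ R.card := by exact_mod_cast hf
    have hεsq : D.ε ^ 2 = 1 := by rcases D.sign with h | h <;> rw [h] <;> norm_num
    nlinarith [sq_nonneg (D.c - D.ε), mul_le_mul hfq h1 zero_le_one (by positivity)]
  rw [hc] at hsq
  have hCq : ∑ χ ∈ D.const, S.coef χ μ₀ ^ 2 = q := by linarith
  -- evaluate
  have hrow : ∀ μ ∈ R, S.coef (D.row μ) μ₀ = if μ₀ = μ then -D.ε else 0 := fun μ hμ => by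
    rw [D.coef_row μ hμ μ₀ hμ₀, hc]; split_ifs <;> simp
  rw [D.sum_B0, Finset.sum_eq_single (s := R) μ₀ (fun μ hμ hne => by
      rw [hrow μ hμ, if_neg hne.symm]; simp)
    (fun h => absurd hμ₀ h), hrow _ hμ₀, if_pos rfl, D.value_row hR hμ₀ ht1, hθt, hc,
    Finset.sum_congr rfl fun χ hχ => by rw [D.value_const hR hχ hμ₀ ht1]] at heq
  have hdeg := S.degree_eq hR (D.row μ₀)
  rw [D.deg μ₀ hμ₀, D.sum_coef_row hμ₀, hc, mul_zero, zero_sub, mul_neg, sub_neg_eq_add] at hdeg
  have hQb : ((q : ℤ) + 1) * ((q : ℤ) + 1) ≤ (Nat.card (Q : Subgroup X) : ℤ) := by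
    rw [hcard]
    push_cast
    have : (q : ℤ) + 2 ≤ R.card := by exact_mod_cast hf
    nlinarith
  by_cases hkercase : D.ε = 1 ∧ S.mult (D.row μ₀) 1 = 0
  · -- the character of degree `q` has the involutions in its kernel
    obtain ⟨hε, hm⟩ := hkercase
    rw [hε, hm, Nat.cast_zero, mul_zero, zero_add, mul_one] at hdeg
    have hd : ((charDegree (D.row μ₀ : X → ℂ) : ℕ) : ℂ) = (q : ℂ) := by
      have := D.deg μ₀ hμ₀
      rw [hdeg] at this
      exact_mod_cast this
    have hval : ∀ z : (Q : Subgroup X), z ≠ 1 → (D.row μ₀ : X → ℂ) z = S.theta μ₀ z := fun z hz => by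
      rw [D.value_row hR hμ₀ hz, hc, hε]; push_cast; ring
    have hmem : Codegree.kerSub (D.row μ₀) ⊓ (Q : Subgroup X) ≠ ⊥ := by
      intro h
      refine ht1 (Subtype.ext ((Subgroup.eq_bot_iff_forall _).1 h (t : X) ⟨?_, t.2⟩))
      show (D.row μ₀ : X → ℂ) (t : X) = (D.row μ₀ : X → ℂ) 1
      rw [hval t ht1, hθt, ← Blocks.charDegree_cast, hd]
    have hQker := hker _ inferInstance hmem
    have h1 := D.one_mem_const hM hR (by omega)
    have h2 := hperf (D.row μ₀) fun z hz => Codegree.mem_kerSub.1 (hQker hz)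
    refine (Finset.mem_sdiff.1 h1).2 (Finset.mem_image.2 ⟨μ₀, hμ₀, h2⟩)
  -- the real equation
  have hreal : ∑ χ ∈ D.const, (S.coef χ μ₀ : ℝ) ^ 3 / (charDegree (χ : X → ℂ) : ℝ) -
      (D.ε : ℝ) * ((q : ℝ) * q) / (D.D : ℝ) = 0 := by
    apply Complex.ofReal_injective
    push_cast
    rw [← heq, sub_eq_add_neg, ← neg_div]
    congr 1
    · refine Finset.sum_congr rfl fun χ hχ => ?_
      rw [Blocks.charDegree_cast]; ring
    · have hε2 : (D.ε : ℂ) * D.ε = 1 := by rcases D.sign with h | h <;> rw [h] <;> norm_num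
      rw [← Blocks.charDegree_cast, show ((charDegree (D.row μ₀ : X → ℂ) : ℕ) : ℂ) = (D.D : ℂ) by
        exact_mod_cast D.deg μ₀ hμ₀]
      push_cast
      linear_combination ((D.ε : ℂ) * q * q / D.D) * hε2
  set N : ℝ := (Nat.card (Q : Subgroup X) : ℝ) with hN
  have hNb : ((q : ℝ) + 1) * ((q : ℝ) + 1) ≤ N := by rw [hN]; exact_mod_cast hQb
  have hq3 : (3 : ℝ) ≤ q := by exact_mod_cast hq
  have hN1 : (0 : ℝ) < N - 1 := by nlinarith
  have hlow : ∀ χ ∈ D.const, χ ≠ BrauerPairs.oneIrr X →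
      -((S.coef χ μ₀ : ℝ) ^ 2 / (N - 1)) ≤ (S.coef χ μ₀ : ℝ) ^ 3 / (charDegree (χ : X → ℂ) : ℝ) := by
    intro χ hχ hne
    have hd : (0 : ℝ) < (charDegree (χ : X → ℂ) : ℝ) := Nat.cast_pos.2 (Blocks.charDegree_pos _)
    have hd2 : -(S.coef χ μ₀ : ℝ) * (N - 1) ≤ (charDegree (χ : X → ℂ) : ℝ) := by
      rw [hN]; exact_mod_cast (D.const_lt hR hperf hχ hne hμ₀).2
    rw [neg_le, ← neg_div, div_le_div_iff₀ hd hN1]
    nlinarith [mul_le_mul_of_nonneg_left hd2 (sq_nonneg (S.coef χ μ₀ : ℝ))]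
  have hsum_low : 1 - ((q : ℝ) - 1) / (N - 1) ≤
      ∑ χ ∈ D.const, (S.coef χ μ₀ : ℝ) ^ 3 / (charDegree (χ : X → ℂ) : ℝ) := by
    rw [← Finset.add_sum_erase _ _ hone']
    have e1 : (S.coef (BrauerPairs.oneIrr X) μ₀ : ℝ) ^ 3 /
        (charDegree ((BrauerPairs.oneIrr X : IrrCharacter X) : X → ℂ) : ℝ) = 1 := by
      rw [S.coef_one (fun _ => rfl) (hR.ne_one _ hμ₀)]
      have : (charDegree ((BrauerPairs.oneIrr X : IrrCharacter X) : X → ℂ) : ℂ) = 1 :=
        Blocks.charDegree_cast _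
      rw [show (charDegree ((BrauerPairs.oneIrr X : IrrCharacter X) : X → ℂ) : ℕ) = 1 by
        exact_mod_cast this]
      norm_num
    rw [e1]
    have e2 : ∑ χ ∈ D.const.erase (BrauerPairs.oneIrr X), (S.coef χ μ₀ : ℝ) ^ 2 = (q : ℝ) - 1 := by
      rw [Finset.sum_erase_eq_sub hone', S.coef_one (fun _ => rfl) (hR.ne_one _ hμ₀)]
      have : ((∑ χ ∈ D.const, S.coef χ μ₀ ^ 2 : ℤ) : ℝ) = q := by rw [hCq]; push_cast; ring
      push_cast at this ⊢
      linarith
    have h := Finset.sum_le_sum (s := D.const.erase (BrauerPairs.oneIrr X))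
      (fun χ hχ => hlow χ (Finset.mem_erase.1 hχ).2 (Finset.mem_erase.1 hχ).1)
    rw [Finset.sum_neg_distrib, ← Finset.sum_div, e2] at h
    linarith
  have hlt1 : ((q : ℝ) - 1) / (N - 1) < 1 := by rw [div_lt_one hN1]; nlinarith
  have hDpos : (0 : ℝ) < (D.D : ℝ) := by
    have := D.q_le_D hR (by omega) hμ₀
    have : (q : ℝ) ≤ (D.D : ℝ) := by exact_mod_cast this
    linarith
  rcases D.sign with hε | hε <;> rw [hε] at hreal
  · have hm : 1 ≤ S.mult (D.row μ₀) 1 := Nat.one_le_iff_ne_zero.2 fun h => hkercase ⟨hε, h⟩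
    have hDD : N + q ≤ (D.D : ℝ) := by
      rw [hε, mul_one] at hdeg
      have : (D.D : ℝ) = N * (S.mult (D.row μ₀) 1 : ℝ) + q := by rw [hN]; exact_mod_cast hdeg
      rw [this]
      have : (1 : ℝ) ≤ (S.mult (D.row μ₀) 1 : ℝ) := Nat.one_le_cast.2 hm
      nlinarith
    have key : ((q : ℝ) - 1) / (N - 1) + (q : ℝ) * q / (D.D : ℝ) < 1 := by
      have h1 : ((q : ℝ) - 1) / (N - 1) ≤ ((q : ℝ) - 1) / (((q : ℝ) + 1) * (q + 1) - 1) :=
        div_le_div_of_nonneg_left (by linarith) (by nlinarith) (by linarith)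
      have h2 : (q : ℝ) * q / (D.D : ℝ) ≤ (q : ℝ) * q / (((q : ℝ) + 1) * (q + 1) + q) :=
        div_le_div_of_nonneg_left (by positivity) (by nlinarith) (by linarith)
      have hA : (0 : ℝ) < ((q : ℝ) + 1) * (q + 1) - 1 := by nlinarith
      have hB : (0 : ℝ) < ((q : ℝ) + 1) * (q + 1) + q := by nlinarith
      have h3 : ((q : ℝ) - 1) / (((q : ℝ) + 1) * (q + 1) - 1) +
          (q : ℝ) * q / (((q : ℝ) + 1) * (q + 1) + q) < 1 := by
        rw [div_add_div _ _ hA.ne' hB.ne', div_lt_one (mul_pos hA hB)]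
        nlinarith [mul_pos (show (0 : ℝ) < q by linarith) (show (0 : ℝ) < q by linarith)]
      linarith
    push_cast at hreal
    simp only [one_mul] at hreal
    linarith
  · push_cast at hreal
    have : 0 ≤ (q : ℝ) * q / (D.D : ℝ) := by positivity
    simp only [neg_mul, one_mul, neg_div, sub_neg_eq_add] at hreal
    linarith

/-- Then `Q` has order `q + 1`. -/
theorem Setting.card_eq (S : Setting Q n q)
    (hone : ∀ a b : (Q : Subgroup X), orderOf (a : X) = 2 → orderOf (b : X) = 2 →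
      IsConj (a : X) (b : X))
    (hsq : ∀ x ∈ (Q : Subgroup X), x * x = 1) : Nat.card (Q : Subgroup X) = q + 1 := by
  rw [← S.card_omega hone]
  refine (Nat.card_congr ?_).symm
  exact (Equiv.subtypeUnivEquiv fun x => Subtype.ext (hsq x x.2))

end Cfsg.Agent.PrimeInertial
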