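import Cfsg.Agent.Lib.PrimeInertial.Residual
import Cfsg.Agent.Lib.Signalizer.SSFT.Main
import Cfsg.Agent.Lib.Coprime.Basic

/-!
# The subgroup `H = W Q ⟨n⟩` for elementary `Q` of order `q + 1 ≥ 8`

* `W`: generated by the cores `O(C(a))`, odd, with `W ⊓ C(a) = O(C(a))`;
* `B = W Q` contains the centralisers of the involutions of `Q`; `H = B ⟨n⟩` is proper;
* `exists_conj`: the involutions of `H` are the `W`-conjugates of those of `Q`;
* `card_pairs`: the involutions whose product with a given one is 2-singular.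
-/

set_option autoImplicit false

open scoped Classical

namespace Cfsg.Agent.PrimeInertial

open Subgroup Cfsg Cfsg.Agent

variable {X : Type*} [Group X] [Finite X] {Q : Sylow 2 X} {n : X} {q : ℕ}

/-- The elementary situation. -/
structure Elem (Q : Sylow 2 X) (n : X) (q : ℕ) : Prop extends Setting Q n q where
  sq : ∀ x ∈ (Q : Subgroup X), x * x = 1
  card : Nat.card (Q : Subgroup X) = q + 1
  eight : 8 ≤ Nat.card (Q : Subgroup X)
  core : Cfsg.pPrimeCore 2 X = ⊥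
  nonsolvable : ¬ Group.IsSolvable X

/-- The closure of the cores. -/
def W (Q : Sylow 2 X) : Subgroup X :=
  ⨆ a : {a : X // a ∈ (Q : Subgroup X) ∧ a ≠ 1}, Cfsg.centralizerPPrimeCore 2 (a : X)

/-- `W Q`. -/
def B (Q : Sylow 2 X) : Subgroup X := W Q ⊔ (Q : Subgroup X)

/-- `W Q ⟨n⟩`. -/
def H (Q : Sylow 2 X) (n : X) : Subgroup X := B Q ⊔ zpowers n

namespace Elem

variable (E : Elem Q n q)
include E

theorem orderOf_two {a : X} (ha : a ∈ (Q : Subgroup X)) (ha1 : a ≠ 1) : orderOf a = 2 :=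
  haveI : Fact (Nat.Prime 2) := ⟨Nat.prime_two⟩
  orderOf_eq_prime (by rw [_root_.sq]; exact E.sq a ha) ha1

theorem inv_eq {a : X} (ha : a ∈ (Q : Subgroup X)) : a⁻¹ = a :=
  inv_eq_of_mul_eq_one_right (E.sq a ha)

/-- `n` permutes the involutions of `Q` transitively. -/
theorem trans {a b : X} (ha : a ∈ (Q : Subgroup X)) (ha1 : a ≠ 1) (hb : b ∈ (Q : Subgroup X))
    (hb1 : b ≠ 1) : ∃ i < q, n ^ i * a * (n ^ i)⁻¹ = b := by
  refine E.fusion ha hb ?_
  haveI := Fintype.ofFinite (Q : Subgroup X)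
  have hs : (Finset.univ.filter fun x : (Q : Subgroup X) => IsConj a (x : X)) =
      Finset.univ.erase 1 := by
    refine Finset.eq_of_subset_of_card_le (fun x hx => Finset.mem_erase.2 ⟨fun e => ?_,
      Finset.mem_univ _⟩) ?_
    · have := (Finset.mem_filter.1 hx).2
      rw [e, Subgroup.coe_one, isConj_one_left] at this
      exact ha1 this
    · rw [Finset.card_erase_of_mem (Finset.mem_univ _), Finset.card_univ,
        ← Nat.card_eq_fintype_card, E.card, Nat.add_sub_cancel, ← Fintype.card_subtype,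
        ← Nat.card_eq_fintype_card, E.card_orbit ha ha1]
  have h : (⟨b, hb⟩ : (Q : Subgroup X)) ∈
      (Finset.univ.filter fun x : (Q : Subgroup X) => IsConj a (x : X)) := by
    rw [hs]; exact Finset.mem_erase.2 ⟨fun e => hb1 (congrArg Subtype.val e), Finset.mem_univ _⟩
  exact (Finset.mem_filter.1 h).2

theorem ex_involution : ∃ a ∈ (Q : Subgroup X), a ≠ 1 := by
  obtain ⟨a, ha, ha1⟩ := (Subgroup.bot_or_exists_ne_one _).resolve_left E.ne_bot
  exact ⟨a, ha, ha1⟩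

theorem elemAb : Cfsg.IsElementaryAbelian 2 (Q : Subgroup X) :=
  ⟨⟨⟨fun a b => Subtype.ext (E.comm a a.2 b b.2)⟩⟩, fun a ha => by rw [_root_.sq]; exact E.sq a ha⟩

theorem functor : Cfsg.IsSolvableSignalizerFunctor 2 (Q : Subgroup X)
    (fun a => Cfsg.centralizerPPrimeCore 2 a) :=
  haveI : Fact (Nat.Prime 2) := ⟨Nat.prime_two⟩
  ⟨⟨fun a _ _ => Signalizer.core_le_centralizer a, fun a _ _ => Signalizer.not_dvd_card_core a,
    fun a ha _ b hb x hx => (mem_normalizer_iff.1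
      (Signalizer.invariant_core E.elemAb.1 ha hb) x).1 hx,
    fun a ha ha1 b hb hb1 x hx => (E.mem_core hb hb1).2
      ⟨mem_centralizer_singleton_iff.1 hx.2, ((E.mem_core ha ha1).1 hx.1).2⟩⟩,
    fun a _ _ => OddOrderTheorem.solvable (Nat.odd_iff.2
      (Nat.two_dvd_ne_zero.1 (Signalizer.not_dvd_card_core (p := 2) a)))⟩

theorem W_spec : ¬ 2 ∣ Nat.card (W Q) ∧ ∀ a ∈ (Q : Subgroup X), a ≠ 1 →
    W Q ⊓ centralizer {a} = Cfsg.centralizerPPrimeCore 2 a :=
  haveI : Fact (Nat.Prime 2) := ⟨Nat.prime_two⟩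
  (Signalizer.solvable_signalizer_functor E.elemAb (by simpa using E.eight) E.functor).2

theorem W_odd : ¬ 2 ∣ Nat.card (W Q) := E.W_spec.1

theorem orderOf_odd {w : X} (hw : w ∈ W Q) : ¬ 2 ∣ orderOf w :=
  fun h => E.W_odd (h.trans (Subgroup.orderOf_dvd_natCard _ hw))

theorem core_le {a : X} (ha : a ∈ (Q : Subgroup X)) (ha1 : a ≠ 1) :
    Cfsg.centralizerPPrimeCore 2 a ≤ W Q := fun _ hx => by
  rw [← E.W_spec.2 a ha ha1] at hx; exact hx.1

theorem normalizer_le : normalizer ((Q : Subgroup X) : Set X) ≤ normalizer (W Q : Set X) := by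
  intro g hg
  refine Coprime.mem_normalizer_of_forall fun x hx => ?_
  have h : W Q ≤ (W Q).comap (MulAut.conj g).toMonoidHom := by
    refine iSup_le fun a y hy => ?_
    obtain ⟨a, ha, ha1⟩ := a
    have hb := (mem_normalizer_iff.1 hg a).1 ha
    have hb1 : g * a * g⁻¹ ≠ 1 := fun e => ha1 (conj_eq_one_iff.1 e)
    refine E.core_le hb hb1 ((E.mem_core hb hb1).2 ⟨?_, ?_⟩)
    · show Commute (g * y * g⁻¹) (g * a * g⁻¹)
      exact Commute.map ((E.mem_core ha ha1).1 hy).1 (MulAut.conj g).toMonoidHom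
    · show ¬ 2 ∣ orderOf (g * y * g⁻¹)
      rw [Involution.orderOf_conj]; exact ((E.mem_core ha ha1).1 hy).2
  exact h hx

theorem Q_le_normalizer : (Q : Subgroup X) ≤ normalizer (W Q : Set X) :=
  le_normalizer.trans E.normalizer_le

theorem W_inf_Q {x : X} (hw : x ∈ W Q) (hq : x ∈ (Q : Subgroup X)) : x = 1 := by
  by_contra h
  exact E.orderOf_odd hw (by rw [E.orderOf_two hq h])

theorem mem_B {g : X} : g ∈ B Q ↔ ∃ w ∈ W Q, ∃ x ∈ (Q : Subgroup X), w * x = g :=
  Coprime.mem_sup_iff E.Q_le_normalizer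

theorem W_le_B : W Q ≤ B Q := le_sup_left

theorem Q_le_B : (Q : Subgroup X) ≤ B Q := le_sup_right

theorem coprime : (Nat.card (W Q)).Coprime (Nat.card (Q : Subgroup X)) := by
  haveI : Fact (Nat.Prime 2) := ⟨Nat.prime_two⟩
  obtain ⟨k, hk⟩ := IsPGroup.iff_card.1 Q.isPGroup'
  rw [hk]
  exact ((Nat.prime_two.coprime_iff_not_dvd).2 E.W_odd).symm.pow_right k

theorem card_B : Nat.card (B Q) = Nat.card (W Q) * Nat.card (Q : Subgroup X) :=
  Coprime.card_sup_of_coprime E.Q_le_normalizer E.coprime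

/-- The centraliser of an involution of `Q` lies in `B`. -/
theorem cent_le {a : X} (ha : a ∈ (Q : Subgroup X)) (ha1 : a ≠ 1) :
    centralizer ({a} : Set X) ≤ B Q := by
  have hnorm : (Q : Subgroup X) ≤ normalizer (Cfsg.centralizerPPrimeCore 2 a : Set X) :=
    (E.le_centralizer_singleton ha).trans (Signalizer.centralizer_le_normalizer_core a)
  have hle : Cfsg.centralizerPPrimeCore 2 a ⊔ (Q : Subgroup X) ≤ centralizer ({a} : Set X) :=
    sup_le (Signalizer.core_le_centralizer a) (E.le_centralizer_singleton ha)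
  have heq : Cfsg.centralizerPPrimeCore 2 a ⊔ (Q : Subgroup X) = centralizer ({a} : Set X) := by
    refine Subgroup.eq_of_le_of_card_ge hle (le_of_eq ?_)
    rw [E.card_centralizer ha ha1, Coprime.card_sup_of_coprime hnorm
      (E.coprime.coprime_dvd_left (Subgroup.card_dvd_of_le (E.core_le ha ha1)))]
  rw [← heq]
  exact sup_le ((E.core_le ha ha1).trans E.W_le_B) E.Q_le_B

theorem centQ_le : centralizer ((Q : Subgroup X) : Set X) ≤ B Q := by
  obtain ⟨a, ha, ha1⟩ := E.ex_involution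
  exact (centralizer_le (Set.singleton_subset_iff.2 ha)).trans (E.cent_le ha ha1)

theorem n_normalizes (i : ℕ) : ∀ g ∈ B Q, n ^ i * g * (n ^ i)⁻¹ ∈ B Q := by
  intro g hg
  obtain ⟨w, hw, x, hx, rfl⟩ := E.mem_B.1 hg
  rw [show n ^ i * (w * x) * (n ^ i)⁻¹ = (n ^ i * w * (n ^ i)⁻¹) * (n ^ i * x * (n ^ i)⁻¹) by group]
  exact E.mem_B.2 ⟨_, (mem_normalizer_iff.1 (E.normalizer_le (_root_.pow_mem E.mem_norm i)) w).1 hw,
    _, E.conj_mem i hx, rfl⟩

theorem eq_zero_of_pow_mem {i : ℕ} (hi : i < q) (h : n ^ i ∈ B Q) : i = 0 := by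
  obtain ⟨w, hw, x, hx, he⟩ := E.mem_B.1 h
  obtain ⟨a, ha, ha1⟩ := E.ex_involution
  have hwN : w ∈ normalizer ((Q : Subgroup X) : Set X) := by
    rw [show w = n ^ i * x⁻¹ by rw [← he]; group]
    exact mul_mem (_root_.pow_mem E.mem_norm i) (le_normalizer (inv_mem hx))
  have h1 : (a * w * a⁻¹) * w⁻¹ ∈ W Q :=
    mul_mem ((mem_normalizer_iff.1 (E.Q_le_normalizer ha) w).1 hw) (inv_mem hw)
  have h2 : (a * w * a⁻¹) * w⁻¹ ∈ (Q : Subgroup X) := by
    rw [show a * w * a⁻¹ * w⁻¹ = a * (w * a⁻¹ * w⁻¹) by group]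
    exact mul_mem ha ((mem_normalizer_iff.1 hwN _).1 (inv_mem ha))
  have h3 := E.W_inf_Q h1 h2
  have hfix : n ^ i * a * (n ^ i)⁻¹ = a := by
    rw [← he]
    calc w * x * a * (w * x)⁻¹ = w * (x * a * x⁻¹) * w⁻¹ := by group
      _ = w * a * w⁻¹ := by rw [E.comm x hx a ha, mul_inv_cancel_right]
      _ = (a * w * a⁻¹ * w⁻¹)⁻¹ * a := by group
      _ = a := by rw [h3, inv_one, one_mul]
  exact Nat.eq_zero_of_dvd_of_lt (E.free ha ha1 hfix) hi

theorem pow_q_mem : n ^ q ∈ B Q := E.centQ_le E.pow_mem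

theorem B_le_H : B Q ≤ H Q n := le_sup_left

theorem n_mem_H : n ∈ H Q n := mem_sup_right (mem_zpowers n)

theorem mem_H {g : X} : g ∈ H Q n ↔ ∃ i < q, ∃ b ∈ B Q, n ^ i * b = g := by
  constructor
  · intro hg
    have hN : zpowers n ≤ normalizer (B Q : Set X) := zpowers_le.2
      (Coprime.mem_normalizer_of_forall fun x hx => by simpa using E.n_normalizes 1 x hx)
    obtain ⟨b, hb, z, hz, rfl⟩ := (Coprime.mem_sup_iff hN).1 hg
    obtain ⟨k, rfl⟩ := (isOfFinOrder_of_finite n).mem_powers_iff_mem_zpowers.2 hz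
    refine ⟨k % q, Nat.mod_lt _ E.pos, n ^ (q * (k / q)) * ((n ^ k)⁻¹ * b * n ^ k), ?_, ?_⟩
    · refine mul_mem (by rw [pow_mul]; exact _root_.pow_mem E.pow_q_mem _) ?_
      have hk := hN (npow_mem_zpowers n k)
      exact (mem_normalizer_iff''.1 hk b).1 hb
    · rw [← mul_assoc, ← pow_add, Nat.mod_add_div]
      show n ^ k * ((n ^ k)⁻¹ * b * n ^ k) = b * n ^ k
      group
  · rintro ⟨i, -, b, hb, rfl⟩
    exact mul_mem (_root_.pow_mem E.n_mem_H i) (E.B_le_H hb)

theorem card_H : Nat.card (H Q n) = q * Nat.card (B Q) := by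
  let f : Fin q × B Q → H Q n := fun p =>
    ⟨n ^ (p.1 : ℕ) * p.2, E.mem_H.2 ⟨p.1, p.1.2, p.2, p.2.2, rfl⟩⟩
  have hf : Function.Bijective f := by
    refine ⟨?_, fun g => ?_⟩
    · rintro ⟨i, b⟩ ⟨j, c⟩ h
      have h' : n ^ (i : ℕ) * (b : X) = n ^ (j : ℕ) * c := congrArg Subtype.val h
      have aux : ∀ i j : Fin q, (i : ℕ) ≤ j → ∀ b c : B Q,
          n ^ (i : ℕ) * (b : X) = n ^ (j : ℕ) * c → (i : ℕ) = j := by
        intro i j hij b c h
        have h1 : n ^ ((j : ℕ) - i) = (b : X) * (c : X)⁻¹ := by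
          apply mul_left_cancel (a := n ^ (i : ℕ))
          rw [← pow_add, Nat.add_sub_cancel' hij, ← mul_assoc, h, mul_inv_cancel_right]
        have := E.eq_zero_of_pow_mem (show (j : ℕ) - i < q by omega)
          (h1 ▸ mul_mem b.2 (inv_mem c.2))
        omega
      have hij : (i : ℕ) = j := (le_total (i : ℕ) j).elim (fun hle => aux i j hle b c h')
        fun hle => (aux j i hle c b h'.symm).symm
      rw [hij] at h'
      exact Prod.ext (Fin.ext hij) (Subtype.ext (mul_left_cancel h'))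
    · obtain ⟨i, hi, b, hb, hib⟩ := E.mem_H.1 g.2
      exact ⟨(⟨i, hi⟩, ⟨b, hb⟩), Subtype.ext hib⟩
  rw [← Nat.card_congr (Equiv.ofBijective f hf), Nat.card_prod, Nat.card_fin]

/-- `W` has trivial normal closure only if it is trivial. -/
theorem H_ne_top : H Q n ≠ ⊤ := by
  intro h
  haveI : Fact (Nat.Prime 2) := ⟨Nat.prime_two⟩
  have hNle : normalizer (W Q : Set X) = ⊤ := top_le_iff.1 (h ▸ sup_le (sup_le le_normalizer
    E.Q_le_normalizer) (zpowers_le.2 (E.normalizer_le E.mem_norm)))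
  haveI : (W Q).Normal := normalizer_eq_top_iff.1 hNle
  have hW : W Q = ⊥ := eq_bot_iff.2 (E.core ▸ Cores.le_pPrimeCore inferInstance
    ((Nat.prime_two.coprime_iff_not_dvd).2 E.W_odd).symm)
  have hN : normalizer ((Q : Subgroup X) : Set X) = ⊤ := top_le_iff.1 (h ▸ sup_le
    (sup_le (hW ▸ bot_le) le_normalizer) (zpowers_le.2 E.mem_norm))
  haveI : (Q : Subgroup X).Normal := normalizer_eq_top_iff.1 hN
  exact E.nonsolvable (normal_sylow_solvable Q E.comm)

/-- Elements of odd order of `B` lie in `W`. -/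
theorem mem_W_of_odd {g : X} (hg : g ∈ B Q) (ho : ¬ 2 ∣ orderOf g) : g ∈ W Q := by
  obtain ⟨w, hw, x, hx, rfl⟩ := E.mem_B.1 hg
  have h2 : (w * x) ^ 2 ∈ W Q := by
    rw [_root_.sq, show w * x * (w * x) = w * (x * w * x⁻¹) * (x * x) by group, E.sq x hx, mul_one]
    exact mul_mem hw ((mem_normalizer_iff.1 (E.Q_le_normalizer hx) w).1 hw)
  obtain ⟨k, hk⟩ : ∃ k, orderOf (w * x) = 2 * k + 1 := Nat.odd_iff.2 (Nat.two_dvd_ne_zero.1 ho)
  have h3 : ((w * x) ^ 2) ^ (k + 1) = w * x := by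
    rw [← pow_mul, show 2 * (k + 1) = orderOf (w * x) + 1 by omega, pow_succ, pow_orderOf_eq_one,
      one_mul]
  rw [← h3]
  exact _root_.pow_mem h2 _

/-- The involutions of `B` are conjugate under `W` into `Q`. -/
theorem exists_conj {u : X} (hu : u ∈ B Q) (hu2 : u * u = 1) (hu1 : u ≠ 1) :
    ∃ x ∈ (Q : Subgroup X), x ≠ 1 ∧ ∃ v ∈ W Q, v * x * v⁻¹ = u := by
  obtain ⟨w, hw, x, hx, rfl⟩ := E.mem_B.1 hu
  have hx1 : x ≠ 1 := by
    rintro rfl
    rw [mul_one] at hu1 hu2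
    refine E.orderOf_odd hw ?_
    haveI : Fact (Nat.Prime 2) := ⟨Nat.prime_two⟩
    rw [orderOf_eq_prime (by rw [_root_.sq]; exact hu2) hu1]
  have hinv : x * w * x⁻¹ = w⁻¹ := by
    rw [eq_inv_iff_mul_eq_one, E.inv_eq hx]
    calc x * w * x * w = w⁻¹ * (w * x * (w * x)) * w := by group
      _ = 1 := by rw [hu2]; group
  obtain ⟨k, hk⟩ : ∃ k, orderOf w = 2 * k + 1 :=
    Nat.odd_iff.2 (Nat.two_dvd_ne_zero.1 (E.orderOf_odd hw))
  set v := w ^ (k + 1) with hv
  have hvv : v * v = w := by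
    rw [hv, ← pow_add, show k + 1 + (k + 1) = orderOf w + 1 by omega, pow_succ, pow_orderOf_eq_one,
      one_mul]
  have hxv : x * v * x⁻¹ = v⁻¹ := by
    rw [hv, ← inv_pow, ← hinv, conj_pow]
  refine ⟨x, hx, hx1, v, _root_.pow_mem hw _, ?_⟩
  calc v * x * v⁻¹ = v * (x * v⁻¹ * x⁻¹) * x := by group
    _ = v * (x * v * x⁻¹)⁻¹ * x := by group
    _ = v * v * x := by rw [hxv, inv_inv]
    _ = w * x := by rw [hvv]

theorem coset_unique {v v' x x' : X} (hv : v ∈ W Q) (hv' : v' ∈ W Q) (hx : x ∈ (Q : Subgroup X))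
    (hx' : x' ∈ (Q : Subgroup X)) (h : v * x * v⁻¹ = v' * x' * v'⁻¹) : x = x' := by
  have e : ∀ v ∈ W Q, ∀ x ∈ (Q : Subgroup X), ∃ w ∈ W Q, v * x * v⁻¹ = w * x := fun v hv x hx =>
    ⟨v * (x * v⁻¹ * x⁻¹), mul_mem hv ((mem_normalizer_iff.1 (E.Q_le_normalizer hx) _).1 (inv_mem hv)),
      by group⟩
  obtain ⟨w, hw, he⟩ := e v hv x hx
  obtain ⟨w', hw', he'⟩ := e v' hv' x' hx'
  rw [he, he'] at h
  have h1 : w'⁻¹ * w = x' * x⁻¹ := by
    calc w'⁻¹ * w = w'⁻¹ * (w * x) * x⁻¹ := by group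
      _ = _ := by rw [h]; group
  have h2 := E.W_inf_Q (mul_mem (inv_mem hw') hw) (h1 ▸ mul_mem hx' (inv_mem hx))
  rw [h1] at h2
  exact (mul_inv_eq_one.1 h2).symm

/-- The 2-part of a singular element is conjugate to an involution of `Q`. -/
theorem pp_involution {g : X} (hg : 2 ∣ orderOf g) :
    FrobSection.pp 2 g * FrobSection.pp 2 g = 1 ∧ FrobSection.pp 2 g ≠ 1 := by
  haveI : Fact (Nat.Prime 2) := ⟨Nat.prime_two⟩
  refine ⟨?_, fun h => FrobSection.pp_eq_one_iff.1 h hg⟩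
  obtain ⟨y, hy⟩ := FrobSection.exists_rep Q g
  obtain ⟨c, hc⟩ := isConj_iff.1 hy.symm
  rw [← hc, show c * (y : X) * c⁻¹ * (c * y * c⁻¹) = c * ((y : X) * y) * c⁻¹ by group, E.sq y y.2]
  group

/-- An involution having a singular product with an involution of `Q` lies in `B`. -/
theorem mem_B_of_singular {a t : X} (ha : a ∈ (Q : Subgroup X)) (ha1 : a ≠ 1) (ht : orderOf t = 2)
    (hs : 2 ∣ orderOf (a * t)) : t ∈ B Q := by
  haveI : Fact (Nat.Prime 2) := ⟨Nat.prime_two⟩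
  obtain ⟨hu2, hu1⟩ := E.pp_involution hs
  set u := FrobSection.pp 2 (a * t) with hu
  have hui : u⁻¹ = u := inv_eq_of_mul_eq_one_right hu2
  have hppinv : FrobSection.pp 2 (a * t)⁻¹ = u⁻¹ := by
    obtain ⟨y, he, hc, ⟨k, hk⟩, hy⟩ := FrobSection.isPPart_pp (p := 2) (a * t)
    refine FrobSection.pp_eq ⟨y⁻¹, ?_, hc.inv_inv, ⟨k, by rw [orderOf_inv]; exact hk⟩,
      by rwa [orderOf_inv]⟩
    rw [← mul_inv_rev, ← hc.eq]
    exact congrArg _ he
  have hcomm : ∀ s : X, s * (a * t) * s⁻¹ = (a * t)⁻¹ → u * s = s * u := by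
    intro s hs
    have h := FrobSection.pp_conj (p := 2) s (a * t)
    rw [hs, hppinv, hui, ← hu] at h
    exact mul_inv_eq_iff_eq_mul.1 h.symm |>.symm
  have hua := hcomm a (Involution.inverts_mul_left (E.orderOf_two ha ha1) ht)
  have hut := hcomm t (Involution.inverts_mul_right (E.orderOf_two ha ha1) ht)
  obtain ⟨x, hx, hx1, v, hv, hvx⟩ := E.exists_conj
    (E.cent_le ha ha1 (mem_centralizer_singleton_iff.2 hua)) hu2 hu1
  have ht' : v⁻¹ * t * v ∈ B Q := E.cent_le hx hx1 (mem_centralizer_singleton_iff.2 (by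
    calc v⁻¹ * t * v * x = v⁻¹ * (t * (v * x * v⁻¹)) * v := by group
      _ = v⁻¹ * ((v * x * v⁻¹) * t) * v := by rw [hvx, hut]
      _ = x * (v⁻¹ * t * v) := by group))
  have hv' := E.W_le_B hv
  simpa [mul_assoc] using mul_mem (mul_mem hv' ht') (inv_mem hv')

/-- The number of `W`-conjugates. -/
theorem card_orbit_W [Fintype X] {x : X} (hx : x ∈ (Q : Subgroup X)) (hx1 : x ≠ 1) :
    ((Finset.univ.filter fun v => v ∈ W Q).image fun v => v * x * v⁻¹).card *
      Nat.card (Cfsg.centralizerPPrimeCore 2 x) = Nat.card (W Q) := by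
  set A := Finset.univ.filter fun v => v ∈ W Q
  have hA : A.card = Nat.card (W Q) := by
    rw [Nat.card_eq_fintype_card, Fintype.card_subtype]
  rw [← hA, Finset.card_eq_sum_card_image (fun v => v * x * v⁻¹) A, ← smul_eq_mul,
    ← Finset.sum_const]
  refine Finset.sum_congr rfl fun u hu => ?_
  obtain ⟨v, hv, rfl⟩ := Finset.mem_image.1 hu
  have hvW : v ∈ W Q := (Finset.mem_filter.1 hv).2
  rw [Nat.card_eq_fintype_card, Fintype.card_subtype]
  refine Finset.card_bij (fun s _ => v * s) (fun s hs => ?_) (fun s _ s' _ h => mul_left_cancel h)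
    fun z hz => ⟨v⁻¹ * z, ?_, mul_inv_cancel_left _ _⟩
  · have hs := (Finset.mem_filter.1 hs).2
    have hsW := E.core_le hx hx1 hs
    refine Finset.mem_filter.2 ⟨Finset.mem_filter.2 ⟨Finset.mem_univ _, mul_mem hvW hsW⟩, ?_⟩
    calc v * s * x * (v * s)⁻¹ = v * (s * x * s⁻¹) * v⁻¹ := by group
      _ = v * x * v⁻¹ := by rw [((E.mem_core hx hx1).1 hs).1.eq, mul_inv_cancel_right]
  · obtain ⟨hz, hze⟩ := Finset.mem_filter.1 hz
    refine Finset.mem_filter.2 ⟨Finset.mem_univ _, ?_⟩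
    rw [← E.W_spec.2 x hx hx1]
    refine ⟨Subgroup.mul_mem _ (Subgroup.inv_mem _ hvW) (Finset.mem_filter.1 hz).2,
      mem_centralizer_singleton_iff.2 ?_⟩
    calc v⁻¹ * z * x = v⁻¹ * (z * x * z⁻¹) * z := by group
      _ = v⁻¹ * (v * x * v⁻¹) * z := by rw [hze]
      _ = x * (v⁻¹ * z) := by group

/-- The involutions with singular product with a given one. -/
theorem card_pairs [Fintype X] {a : X} (ha : a ∈ (Q : Subgroup X)) (ha1 : a ≠ 1) :
    (Finset.univ.filter fun t : X => IsConj a t ∧ 2 ∣ orderOf (a * t)).card *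
      Nat.card (Cfsg.centralizerPPrimeCore 2 a) = (q - 1) * Nat.card (W Q) := by
  set P := (Finset.univ.filter fun x : X => x ∈ (Q : Subgroup X) ∧ x ≠ 1).erase a
  have hP : P.card = q - 1 := by
    rw [Finset.card_erase_of_mem (by simp [ha, ha1])]
    congr 1
    rw [show (Finset.univ.filter fun x : X => x ∈ (Q : Subgroup X) ∧ x ≠ 1) =
      (Finset.univ.filter fun x : X => x ∈ (Q : Subgroup X)).erase 1 by ext; simp [and_comm],
      Finset.card_erase_of_mem (by simp), ← Fintype.card_subtype, ← Nat.card_eq_fintype_card]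
    have := E.card
    exact Nat.sub_eq_of_eq_add this
  have heq : (Finset.univ.filter fun t : X => IsConj a t ∧ 2 ∣ orderOf (a * t)) =
      P.biUnion fun x => (Finset.univ.filter fun v => v ∈ W Q).image fun v => v * x * v⁻¹ := by
    ext t
    simp only [P, Finset.mem_filter, Finset.mem_univ, true_and, Finset.mem_biUnion, Finset.mem_erase,
      Finset.mem_image]
    constructor
    · rintro ⟨hc, hs⟩
      have ht : orderOf t = 2 := by
        obtain ⟨c, rfl⟩ := isConj_iff.1 hc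
        rw [Involution.orderOf_conj, E.orderOf_two ha ha1]
      have htt : t * t = 1 := by rw [← _root_.sq, ← ht, pow_orderOf_eq_one]
      obtain ⟨x, hx, hx1, v, hv, hvx⟩ := E.exists_conj (E.mem_B_of_singular ha ha1 ht hs) htt
        (fun h => by rw [h, orderOf_one] at ht; omega)
      refine ⟨x, ⟨fun hxa => ?_, hx, hx1⟩, v, hv, hvx⟩
      subst hxa
      refine E.orderOf_odd ?_ hs
      rw [← hvx, show x * (v * x * v⁻¹) = (x * v * x⁻¹) * (x * x) * v⁻¹ by group, E.sq x hx, mul_one]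
      exact mul_mem ((mem_normalizer_iff.1 (E.Q_le_normalizer hx) _).1 hv) (inv_mem hv)
    · rintro ⟨x, ⟨hxa, hx, hx1⟩, v, hv, rfl⟩
      obtain ⟨i, -, hi⟩ := E.trans ha ha1 hx hx1
      refine ⟨(isConj_iff.2 ⟨_, hi⟩).trans (isConj_iff.2 ⟨v, rfl⟩), by_contra fun ho => hxa ?_⟩
      have hv' := E.W_le_B hv
      have hmem := E.mem_W_of_odd (mul_mem (E.Q_le_B ha)
        (mul_mem (mul_mem hv' (E.Q_le_B hx)) (inv_mem hv'))) ho
      have e : v * x * v⁻¹ = (v * (x * v⁻¹ * x⁻¹)) * x := by group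
      have hw : v * (x * v⁻¹ * x⁻¹) ∈ W Q :=
        mul_mem hv ((mem_normalizer_iff.1 (E.Q_le_normalizer hx) _).1 (inv_mem hv))
      rw [e, show ∀ w, a * (w * x) = (a * w * a⁻¹) * (a * x) from fun w => by group] at hmem
      have h2 := (mul_mem_cancel_left ((mem_normalizer_iff.1 (E.Q_le_normalizer ha) _).1 hw)).1 hmem
      have h3 := E.W_inf_Q h2 (mul_mem ha hx)
      rw [← E.inv_eq ha]; exact (inv_eq_of_mul_eq_one_right h3).symm
  rw [heq, Finset.card_biUnion, Finset.sum_mul, ← hP, ← smul_eq_mul, ← Finset.sum_const]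
  · refine Finset.sum_congr rfl fun x hx => ?_
    simp only [P, Finset.mem_erase, Finset.mem_filter, Finset.mem_univ, true_and] at hx
    have hcard : Nat.card (Cfsg.centralizerPPrimeCore 2 a) =
        Nat.card (Cfsg.centralizerPPrimeCore 2 x) := by
      obtain ⟨i, -, hi⟩ := E.trans ha ha1 hx.2.1 hx.2.2
      refine Nat.card_congr
        { toFun := fun s => ⟨n ^ i * s * (n ^ i)⁻¹, (E.mem_core hx.2.1 hx.2.2).2 ⟨?_, ?_⟩⟩
          invFun := fun s => ⟨(n ^ i)⁻¹ * s * n ^ i, (E.mem_core ha ha1).2 ⟨?_, ?_⟩⟩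
          left_inv := fun s => Subtype.ext (by simp [mul_assoc])
          right_inv := fun s => Subtype.ext (by simp [mul_assoc]) }
      · rw [← hi]; exact Commute.map ((E.mem_core ha ha1).1 s.2).1 (MulAut.conj (n ^ i)).toMonoidHom
      · rw [Involution.orderOf_conj]; exact ((E.mem_core ha ha1).1 s.2).2
      · have h : (s : X) * x = x * (s : X) := ((E.mem_core hx.2.1 hx.2.2).1 s.2).1.eq
        show (n ^ i)⁻¹ * (s : X) * n ^ i * a = a * ((n ^ i)⁻¹ * (s : X) * n ^ i)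
        calc (n ^ i)⁻¹ * (s : X) * n ^ i * a
            = (n ^ i)⁻¹ * ((s : X) * (n ^ i * a * (n ^ i)⁻¹)) * n ^ i := by group
          _ = (n ^ i)⁻¹ * (x * (s : X)) * n ^ i := by rw [hi, h]
          _ = (n ^ i)⁻¹ * ((n ^ i * a * (n ^ i)⁻¹) * (s : X)) * n ^ i := by rw [hi]
          _ = _ := by group
      · rw [show (n ^ i)⁻¹ * (s : X) * n ^ i = (n ^ i)⁻¹ * s * ((n ^ i)⁻¹)⁻¹ by rw [inv_inv],
          Involution.orderOf_conj]
        exact ((E.mem_core hx.2.1 hx.2.2).1 s.2).2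
    rw [hcard]; exact E.card_orbit_W hx.2.1 hx.2.2
  · intro x hx y hy hxy
    simp only [P, Finset.mem_coe, Finset.mem_erase, Finset.mem_filter, Finset.mem_univ,
      true_and] at hx hy
    refine Finset.disjoint_left.2 fun t htx hty => hxy ?_
    obtain ⟨v, hv, rfl⟩ := Finset.mem_image.1 htx
    obtain ⟨v', hv', he⟩ := Finset.mem_image.1 hty
    exact E.coset_unique (Finset.mem_filter.1 hv).2 (Finset.mem_filter.1 hv').2 hx.2.1 hy.2.1 he.symm

end Elem

end Cfsg.Agent.PrimeInertial
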