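import Cfsg.Agent.Lib.PrimeInertial.Reduced
import Cfsg.Agent.Lib.PrimeInertial.Deflation
import Cfsg.Agent.Lib.FusionZStar.Center
import Cfsg.Agent.Lib.PQAutomizer.Key
import Cfsg.Agent.Lib.Blocks.Watanabe
import Cfsg.Agent.Lib.BrauerPairs.PNilpotent

/-!
# The principal 2-block with abelian Sylow subgroup and inertial index a prime

`Cover P n q`: `n` generates `N(P)` over `C(P)`, a cover of prime index `q`;
`Cover.invariants`, `Cover.main`: `l = q`, `k = c (q + s)` with `|P| = c (q s + 1)`, `k = |P|` outside solvable groups.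
`exists_norm_lift`, `orb_card`, `lrank_regular`.
-/

set_option autoImplicit false

open scoped Classical

namespace Cfsg.Agent.PrimeInertial

open Subgroup Cfsg Cfsg.Agent

universe u

variable {G : Type u} [Group G] [Finite G]

/-- The normaliser of an image of a Sylow subgroup is the image of the normaliser. -/
theorem exists_norm_lift {H : Type*} [Group H] {π : G →* H} (hπ : Function.Surjective π)
    (P : Sylow 2 G) {y : H} (hy : y ∈ normalizer (((P : Subgroup G).map π) : Set H)) :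
    ∃ g ∈ normalizer ((P : Subgroup G) : Set G), π g = y := by
  haveI : Fact (Nat.Prime 2) := ⟨Nat.prime_two⟩
  obtain ⟨g, rfl⟩ := hπ y
  set L := ((P : Subgroup G).map π).comap π
  have hPL : (P : Subgroup G) ≤ L := fun x hx => Subgroup.mem_map_of_mem _ hx
  have hgPL : ((g • P : Sylow 2 G) : Subgroup G) ≤ L := by
    rintro _ ⟨x, hx, rfl⟩
    show π (g * x * g⁻¹) ∈ (P : Subgroup G).map π
    rw [map_mul, map_mul, map_inv]
    exact (mem_normalizer_iff.1 hy (π x)).1 ⟨x, hx, rfl⟩
  obtain ⟨l, hl⟩ := MulAction.exists_smul_eq L ((g • P).subtype hgPL) (P.subtype hPL)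
  rw [Sylow.smul_subtype] at hl
  have hm : (l : G) * g ∈ normalizer ((P : Subgroup G) : Set G) := by
    refine Sylow.smul_eq_iff_mem_normalizer.1 ?_
    rw [mul_smul]
    exact Sylow.subtype_injective hl
  obtain ⟨x, hx, hxl⟩ := (l.2 : π l ∈ (P : Subgroup G).map π)
  refine ⟨x⁻¹ * ((l : G) * g), mul_mem (le_normalizer (inv_mem hx)) hm, ?_⟩
  simp [hxl]

/-- A point with stabiliser `C(P)` in `N(P)` has `q` conjugates. -/
theorem orb_card {M : Ideal AlgInt} (P : Sylow 2 G) [Fintype (P : Subgroup G)]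
    {e : Set (IrrCharacter (centralizer ((P : Subgroup G) : Set G)))}
    (hstab : BrauerPairs.pairStab M (P : Subgroup G) e = normalizer ((P : Subgroup G) : Set G))
    {n : G} {q : ℕ} (hn : n ∈ normalizer ((P : Subgroup G) : Set G))
    (hgen : ∀ g ∈ normalizer ((P : Subgroup G) : Set G),
      ∃ i < q, (n ^ i)⁻¹ * g ∈ centralizer ((P : Subgroup G) : Set G))
    {v : (P : Subgroup G)} (hreg : ∀ i, n ^ i * (v : G) * (n ^ i)⁻¹ = v → q ∣ i) :
    (Watanabe.orb M (P : Subgroup G) e v).card = q := by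
  let f : Fin q → Watanabe.orb M (P : Subgroup G) e v := fun i =>
    ⟨⟨n ^ (i : ℕ) * v * (n ^ (i : ℕ))⁻¹,
      (mem_normalizer_iff.1 (_root_.pow_mem hn _) v).1 v.2⟩,
      Watanabe.mem_orb.2 ⟨n ^ (i : ℕ), hstab ▸ _root_.pow_mem hn _, rfl⟩⟩
  have hf : Function.Bijective f := by
    refine ⟨fun i j h => ?_, fun w => ?_⟩
    · have h' : n ^ (i : ℕ) * (v : G) * (n ^ (i : ℕ))⁻¹ =
          n ^ (j : ℕ) * v * (n ^ (j : ℕ))⁻¹ :=
        congrArg (fun w : Watanabe.orb M (P : Subgroup G) e v =>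
          ((w : (P : Subgroup G)) : G)) h
      have aux : ∀ i j : ℕ, i ≤ j → j < q →
          n ^ i * (v : G) * (n ^ i)⁻¹ = n ^ j * v * (n ^ j)⁻¹ → i = j := by
        intro i j hij hj h
        have hd := hreg (j - i) (by
          apply mul_left_cancel (a := n ^ i)
          apply mul_right_cancel (b := (n ^ i)⁻¹)
          rw [h]
          rw [show n ^ j = n ^ i * n ^ (j - i) by rw [← pow_add, Nat.add_sub_cancel' hij]]
          group)
        have := Nat.eq_zero_of_dvd_of_lt hd (by omega)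
        omega
      exact Fin.ext ((le_total (i : ℕ) j).elim (fun hle => aux i j hle j.2 h')
        fun hle => (aux j i hle i.2 h'.symm).symm)
    · obtain ⟨t, ht, hwt⟩ := Watanabe.mem_orb.1 w.2
      obtain ⟨i, hi, hic⟩ := hgen t (hstab ▸ ht)
      have h1 := (mem_centralizer_iff.1 hic (v : G) v.2).symm
      refine ⟨⟨i, hi⟩, Subtype.ext (Subtype.ext ?_)⟩
      show n ^ i * (v : G) * (n ^ i)⁻¹ = _
      rw [hwt]
      calc n ^ i * (v : G) * (n ^ i)⁻¹
          = n ^ i * ((n ^ i)⁻¹ * t * v * ((n ^ i)⁻¹ * t)⁻¹) * (n ^ i)⁻¹ := by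
            rw [h1, mul_inv_cancel_right]
        _ = t * v * t⁻¹ := by group
  rw [← Fintype.card_coe, ← Fintype.card_congr (Equiv.ofBijective f hf), Fintype.card_fin]

/-- The local rank at a point with stabiliser `C(P)` in `N(P)` is one. -/
theorem lrank_regular {M : Ideal AlgInt} (hM : IsPModular 2 M) (P : Sylow 2 G)
    (hcomm : ∀ x ∈ (P : Subgroup G), ∀ y ∈ (P : Subgroup G), x * y = y * x)
    {v : (P : Subgroup G)} (hreg : ∀ g ∈ normalizer ((P : Subgroup G) : Set G),
      g * (v : G) * g⁻¹ = v → g ∈ centralizer ((P : Subgroup G) : Set G)) :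
    LocalRank.lrank 2 M (P : Subgroup G)
      (principalBlock M (centralizer ((P : Subgroup G) : Set G))) (zpowers (v : G)) = 1 := by
  haveI : Fact (Nat.Prime 2) := ⟨Nat.prime_two⟩
  haveI := Fintype.ofFinite G
  have hint := BrauerPairs.integralPrincipal hM
  have hmax := BrauerPairs.isMaximalBrauerPair_principal hM hint P
  have hQP : zpowers (v : G) ≤ (P : Subgroup G) := zpowers_le.2 v.2
  have hle := BrauerPairs.subpairLE_principal hM hint P.2 hQP
  have hPC : (P : Subgroup G) ≤ centralizer (zpowers (v : G) : Set G) := fun x hx =>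
    mem_centralizer_iff.2 fun y hy => hcomm y (hQP hy) x hx
  have hcomp : HasNormalPComplement 2 (centralizer (zpowers (v : G) : Set G)) := by
    refine Transfer.hasNormalPComplement_of_normalizer_le_centralizer (P.subtype hPC) fun g hg => ?_
    have hgN : (g : G) ∈ normalizer ((P : Subgroup G) : Set G) := by
      refine Coprime.mem_normalizer_of_forall fun x hx => ?_
      exact (mem_normalizer_iff.1 hg ⟨x, hPC hx⟩).1 hx
    have hgv : (g : G) * v * (g : G)⁻¹ = v :=
      mul_inv_eq_iff_eq_mul.2 (mem_centralizer_iff.1 g.2 (v : G) (mem_zpowers _)).symm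
    exact mem_centralizer_iff.2 fun x hx =>
      Subtype.ext (mem_centralizer_iff.1 (hreg g hgN hgv) (x : G) hx)
  rw [LocalRank.lrank_eq hM hmax.1.1 hle, BrauerPairs.blockRank_principal_of_complement hM hcomp]

/-- The stabiliser of the principal pair. -/
theorem pairStab_eq {M : Ideal AlgInt} (hM : IsPModular 2 M) (P : Sylow 2 G) :
    BrauerPairs.pairStab M (P : Subgroup G)
      (principalBlock M (centralizer ((P : Subgroup G) : Set G))) =
      normalizer ((P : Subgroup G) : Set G) := by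
  haveI : Fact (Nat.Prime 2) := ⟨Nat.prime_two⟩
  haveI := Fintype.ofFinite G
  have hmax := BrauerPairs.isMaximalBrauerPair_principal hM (BrauerPairs.integralPrincipal hM) P
  ext y
  rw [BrauerPairs.mem_pairStab_iff hM hmax.1.1.2]
  exact ⟨fun h => h.1, fun h => ⟨h, BrauerPairs.stabilizes_principal _
    (BrauerPairs.mem_normalizer_centralizer h)⟩⟩

/-- Abelian Sylow 2-subgroup with inertial quotient of odd prime order `q` generated by `n`. -/
structure Cover (P : Sylow 2 G) (n : G) (q : ℕ) : Prop where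
  prime : q.Prime
  odd : q ≠ 2
  comm : ∀ x ∈ (P : Subgroup G), ∀ y ∈ (P : Subgroup G), x * y = y * x
  mem_norm : n ∈ normalizer ((P : Subgroup G) : Set G)
  not_mem : n ∉ centralizer ((P : Subgroup G) : Set G)
  pow_mem : n ^ q ∈ centralizer ((P : Subgroup G) : Set G)
  gen : ∀ g ∈ normalizer ((P : Subgroup G) : Set G),
    ∃ i < q, (n ^ i)⁻¹ * g ∈ centralizer ((P : Subgroup G) : Set G)

theorem exists_cover (P : Sylow 2 G) (hab : IsMulCommutative P) {q : ℕ}
    (he : (centralizer ((P : Subgroup G) : Set G)).relIndex (normalizer ((P : Subgroup G) : Set G)) = q)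
    (hq : q.Prime) : ∃ n, Cover P n q := by
  haveI : Fact (Nat.Prime 2) := ⟨Nat.prime_two⟩
  set C := centralizer ((P : Subgroup G) : Set G)
  set N := normalizer ((P : Subgroup G) : Set G)
  have hcomm : ∀ x ∈ (P : Subgroup G), ∀ y ∈ (P : Subgroup G), x * y = y * x := fun x hx y hy =>
    congrArg Subtype.val (hab.is_comm.comm (⟨x, hx⟩ : P) ⟨y, hy⟩)
  have hPC : (P : Subgroup G) ≤ C := fun x hx => mem_centralizer_iff.2 fun y hy => hcomm y hy x hx
  have hCN : C ≤ N := fun c hc => Subgroup.centralizer_le_normalizer _ hc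
  have hodd : q ≠ 2 := fun h => P.not_dvd_index (by
    rw [← Subgroup.relIndex_mul_index (hPC.trans hCN),
      ← Subgroup.relIndex_mul_relIndex (P : Subgroup G) C N hPC hCN, he, h]
    exact (dvd_mul_left 2 _).mul_right _)
  haveI : (C.subgroupOf N).Normal := by
    refine ⟨fun c hc g => mem_centralizer_iff.2 fun x hx => ?_⟩
    have hx' : (g : G)⁻¹ * x * g ∈ (P : Subgroup G) := (mem_normalizer_iff''.1 g.2 x).1 hx
    have h := mem_centralizer_iff.1 (show (c : G) ∈ C from hc) _ hx'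
    show x * ((g : G) * c * (g : G)⁻¹) = (g : G) * c * (g : G)⁻¹ * x
    calc x * ((g : G) * c * (g : G)⁻¹) = g * ((g : G)⁻¹ * x * g * c) * (g : G)⁻¹ := by group
      _ = g * (c * ((g : G)⁻¹ * x * g)) * (g : G)⁻¹ := by rw [h]
      _ = _ := by group
  haveI : Fact q.Prime := ⟨hq⟩
  have hcard : Nat.card (N ⧸ C.subgroupOf N) = q := by rw [← Subgroup.index_eq_card]; exact he
  obtain ⟨n, hn, hnC⟩ : ∃ n ∈ N, n ∉ C := by
    by_contra h
    push Not at h
    rw [Subgroup.relIndex_eq_one.2 h] at he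
    exact hq.ne_one he.symm
  have hne : (QuotientGroup.mk (⟨n, hn⟩ : N) : N ⧸ C.subgroupOf N) ≠ 1 := fun h => by
    have h' := (QuotientGroup.eq_one_iff (N := C.subgroupOf N) _).1 h
    exact hnC h'
  refine ⟨n, hq, hodd, hcomm, hn, hnC, ?_, fun g hg => ?_⟩
  · have h := pow_card_eq_one' (x := (QuotientGroup.mk (⟨n, hn⟩ : N) : N ⧸ C.subgroupOf N))
    rw [hcard, ← QuotientGroup.mk_pow, QuotientGroup.eq_one_iff] at h
    exact h
  · have hz := mem_zpowers_of_prime_card hcard hne (g' := QuotientGroup.mk (⟨g, hg⟩ : N))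
    obtain ⟨i, hi⟩ := (isOfFinOrder_of_finite _).mem_powers_iff_mem_zpowers.2 hz
    have hqpow : (QuotientGroup.mk (⟨n, hn⟩ : N) : N ⧸ C.subgroupOf N) ^ q = 1 := by
      rw [← hcard]; exact pow_card_eq_one'
    refine ⟨i % q, Nat.mod_lt _ hq.pos, ?_⟩
    have hi' : (QuotientGroup.mk ((⟨n, hn⟩ : N) ^ (i % q)) : N ⧸ C.subgroupOf N) =
        QuotientGroup.mk (⟨g, hg⟩ : N) := by
      rw [QuotientGroup.mk_pow, ← pow_eq_pow_mod i hqpow]
      exact hi
    have h' := QuotientGroup.eq.1 hi'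
    exact h'

namespace Cover

variable {P : Sylow 2 G} {n : G} {q : ℕ}

/-- The fixed points of `n` in `P`. -/
def fixed (_E : Cover P n q) : Subgroup G := (P : Subgroup G) ⊓ centralizer ({n} : Set G)

theorem mem_fixed (E : Cover P n q) {x : G} :
    x ∈ E.fixed ↔ x ∈ (P : Subgroup G) ∧ n * x * n⁻¹ = x := by
  rw [fixed, Subgroup.mem_inf, mem_centralizer_singleton_iff, mul_inv_eq_iff_eq_mul]
  exact and_congr_right fun _ => eq_comm

theorem pow_fix (_E : Cover P n q) {x : G} (h : n * x * n⁻¹ = x) (i : ℕ) :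
    n ^ i * x * (n ^ i)⁻¹ = x := by
  rw [mul_inv_eq_iff_eq_mul] at h ⊢
  exact (Commute.pow_left h i).eq

/-- An element of `N(P)` fixes the fixed points of `n`. -/
theorem norm_fix (E : Cover P n q) {x g : G} (hx : x ∈ E.fixed)
    (hg : g ∈ normalizer ((P : Subgroup G) : Set G)) : g * x * g⁻¹ = x := by
  obtain ⟨hxP, hxn⟩ := E.mem_fixed.1 hx
  obtain ⟨i, -, hic⟩ := E.gen g hg
  have h1 := (mem_centralizer_iff.1 hic x hxP).symm
  calc g * x * g⁻¹ = n ^ i * ((n ^ i)⁻¹ * g * x * ((n ^ i)⁻¹ * g)⁻¹) * (n ^ i)⁻¹ := by group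
    _ = n ^ i * x * (n ^ i)⁻¹ := by rw [h1, mul_inv_cancel_right]
    _ = x := E.pow_fix hxn i

/-- A power prime to `q` fixing a point of `P`. -/
theorem fix_of_pow_fix (E : Cover P n q) {x : G} (hx : x ∈ (P : Subgroup G)) {i : ℕ}
    (hi : ¬ q ∣ i) (h : n ^ i * x * (n ^ i)⁻¹ = x) : x ∈ E.fixed := by
  refine E.mem_fixed.2 ⟨hx, ?_⟩
  rw [mul_inv_eq_iff_eq_mul] at h ⊢
  have h2 : n ^ q ∈ centralizer ({x} : Set G) :=
    mem_centralizer_singleton_iff.2 (mem_centralizer_iff.1 E.pow_mem x hx).symm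
  exact mem_centralizer_singleton_iff.1 (Transfer.mem_of_pow_mem_of_coprime
    ((E.prime.coprime_iff_not_dvd.2 hi).symm) (mem_centralizer_singleton_iff.2 h) h2)

/-- The fixed points are central modulo the odd core. -/
theorem central (E : Cover P n q) {z : G} (hz : z ∈ E.fixed) (g : G) :
    z * g * z⁻¹ * g⁻¹ ∈ pPrimeCore 2 G := by
  haveI : Fact (Nat.Prime 2) := ⟨Nat.prime_two⟩
  have hzP := (E.mem_fixed.1 hz).1
  obtain ⟨k, hk⟩ := IsPGroup.iff_orderOf.1 P.isPGroup' ⟨z, hzP⟩
  rw [Subgroup.orderOf_mk] at hk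
  refine FusionZStar.central_mod_odd k G P z hzP (hk ▸ pow_orderOf_eq_one z) (fun j g hg => ?_) g
  haveI : IsMulCommutative (P : Subgroup G) :=
    ⟨⟨fun a b => Subtype.ext (E.comm a a.2 b b.2)⟩⟩
  obtain ⟨m, hm, hme⟩ := Transfer.normalizer_control_of_comm P (z ^ j)
    (_root_.pow_mem hzP j) g hg
  rw [← hme, E.norm_fix (_root_.pow_mem hz j) hm]

/-- The data of the reduced group. -/
theorem exists_reduced (E : Cover P n q) {M : Ideal AlgInt} (hM : IsPModular 2 M) :
    ∃ (X : Type u) (_ : Group X) (_ : Finite X) (Q : Sylow 2 X) (m : X),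
      Setting Q m q ∧ Cfsg.pPrimeCore 2 X = ⊥ ∧
      blockRank 2 (principalBlock M G) = blockRank 2 (principalBlock M X) ∧
      (¬ Group.IsSolvable G → ¬ Group.IsSolvable X) ∧
      Nat.card P = Nat.card E.fixed * Nat.card (Q : Subgroup X) := by
  haveI : Fact (Nat.Prime 2) := ⟨Nat.prime_two⟩
  set O := pPrimeCore 2 G
  haveI : O.Normal := Cores.pPrimeCore_normal 2 G
  let π₁ := QuotientGroup.mk' O
  set D := E.fixed.map π₁ with hD
  have hDZ : D ≤ Subgroup.center (G ⧸ O) := by
    rintro _ ⟨z, hz, rfl⟩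
    refine Subgroup.mem_center_iff.2 fun y => ?_
    obtain ⟨g, rfl⟩ := QuotientGroup.mk'_surjective O y
    show π₁ g * π₁ z = π₁ z * π₁ g
    rw [← map_mul, ← map_mul]
    refine (QuotientGroup.eq.2 ?_)
    rw [show (g * z)⁻¹ * (z * g) = (g * z)⁻¹ * (z * g * z⁻¹ * g⁻¹) * ((g * z)⁻¹)⁻¹ by group]
    exact (inferInstance : O.Normal).conj_mem _ (E.central hz g) _
  haveI hDn : D.Normal := ⟨fun d hd g => by
    rw [Subgroup.mem_center_iff.1 (hDZ hd) g, mul_inv_cancel_right]; exact hd⟩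
  have hDp : IsPGroup 2 D := (P.isPGroup'.to_le inf_le_left).map π₁
  let π : G →* (G ⧸ O) ⧸ D := (QuotientGroup.mk' D).comp π₁
  have hπ : Function.Surjective π :=
    (QuotientGroup.mk'_surjective D).comp (QuotientGroup.mk'_surjective O)
  let Q : Sylow 2 ((G ⧸ O) ⧸ D) := P.mapSurjective hπ
  have hQ : (Q : Subgroup ((G ⧸ O) ⧸ D)) = (P : Subgroup G).map π := rfl
  have hPO : ∀ x ∈ (P : Subgroup G), x ∈ O → x = 1 := by
    intro x hx hxO
    obtain ⟨k, hk⟩ := IsPGroup.iff_card.1 P.isPGroup'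
    refine Coprime.eq_one_of_mem_of_mem ?_ hx hxO
    rw [hk]
    exact Nat.Coprime.pow_left _ (Nat.prime_two.coprime_iff_not_dvd.2 Cores.not_dvd_card_pPrimeCore)
  have hker : ∀ x ∈ (P : Subgroup G), π x = 1 ↔ x ∈ E.fixed := by
    intro x hx
    refine ⟨fun h => ?_, fun h => (QuotientGroup.eq_one_iff _).2 (Subgroup.mem_map_of_mem _ h)⟩
    obtain ⟨z, hz, hzx⟩ := (QuotientGroup.eq_one_iff _).1 h
    have h1 := hPO _ (mul_mem (inv_mem (E.mem_fixed.1 hz).1) hx) (QuotientGroup.eq.1 hzx)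
    rwa [← inv_mul_eq_one.1 h1]
  have hCmap : ∀ c ∈ centralizer ((P : Subgroup G) : Set G),
      π c ∈ centralizer ((Q : Subgroup ((G ⧸ O) ⧸ D)) : Set ((G ⧸ O) ⧸ D)) := by
    intro c hc
    refine mem_centralizer_iff.2 ?_
    rintro _ ⟨x, hx, rfl⟩
    rw [← map_mul, ← map_mul, mem_centralizer_iff.1 hc x hx]
  have hcommQ : ∀ a ∈ (Q : Subgroup ((G ⧸ O) ⧸ D)), ∀ b ∈ (Q : Subgroup ((G ⧸ O) ⧸ D)),
      a * b = b * a := by
    rintro _ ⟨a, ha, rfl⟩ _ ⟨b, hb, rfl⟩
    rw [← map_mul, ← map_mul, E.comm a ha b hb]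
  have hS : Setting Q (π n) q := by
    refine Setting.of_prime E.prime (fun h => ?_) hcommQ ?_ ?_ (fun y hy => ?_) ?_
    · refine E.not_mem (mem_centralizer_iff.2 fun x hx => ?_)
      have hx1 : π x = 1 := (Subgroup.eq_bot_iff_forall _).1 h (π x) ⟨x, hx, rfl⟩
      exact (mul_inv_eq_iff_eq_mul.1 (E.mem_fixed.1 ((hker x hx).1 hx1)).2).symm
    · refine Coprime.mem_normalizer_of_forall ?_
      rintro _ ⟨x, hx, rfl⟩
      rw [← map_inv, ← map_mul, ← map_mul]
      exact Subgroup.mem_map_of_mem _ ((mem_normalizer_iff.1 E.mem_norm x).1 hx)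
    · rw [← map_pow]; exact hCmap _ E.pow_mem
    · obtain ⟨g, hg, rfl⟩ := exists_norm_lift hπ P (y := y) hy
      obtain ⟨i, hi, hic⟩ := E.gen _ hg
      refine ⟨i, hi, ?_⟩
      rw [← map_pow, ← map_inv, ← map_mul]
      exact hCmap _ hic
    · rintro _ ⟨x, hx, rfl⟩ h
      rw [hker x hx]
      set z := n * x * n⁻¹ * x⁻¹ with hz
      have hnx : n * x * n⁻¹ ∈ (P : Subgroup G) := (mem_normalizer_iff.1 E.mem_norm x).1 hx
      have hzP : z ∈ (P : Subgroup G) := mul_mem hnx (inv_mem hx)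
      have hzf : z ∈ E.fixed := (hker z hzP).1 (by
        rw [hz, map_mul, map_mul, map_mul, map_inv, map_inv, h, mul_inv_cancel])
      have hzn := (E.mem_fixed.1 hzf).2
      have hpow : ∀ i : ℕ, n ^ i * x * (n ^ i)⁻¹ = z ^ i * x := by
        intro i
        induction i with
        | zero => simp
        | succ i ih =>
          have hni : n * z ^ i * n⁻¹ = z ^ i := by rw [← conj_pow, hzn]
          calc n ^ (i + 1) * x * (n ^ (i + 1))⁻¹ = n * (n ^ i * x * (n ^ i)⁻¹) * n⁻¹ := by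
                rw [pow_succ']; group
            _ = (n * z ^ i * n⁻¹) * (n * x * n⁻¹) := by rw [ih]; group
            _ = z ^ (i + 1) * x := by rw [hni, pow_succ, hz]; group
      have hq := hpow q
      rw [mul_inv_eq_iff_eq_mul.2 (mem_centralizer_iff.1 E.pow_mem x hx).symm, eq_comm,
        mul_eq_right] at hq
      have hz1 : z = 1 := by
        obtain ⟨k, hk⟩ := IsPGroup.iff_orderOf.1 P.isPGroup' ⟨z, hzP⟩
        rw [Subgroup.orderOf_mk] at hk
        rw [← orderOf_eq_one_iff]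
        exact Nat.eq_one_of_dvd_coprimes (((Nat.coprime_primes Nat.prime_two E.prime).2
          E.odd.symm).pow_left k) (hk ▸ dvd_rfl) (orderOf_dvd_of_pow_eq_one hq)
      exact E.mem_fixed.2 ⟨hx, mul_inv_eq_one.1 hz1⟩
  refine ⟨(G ⧸ O) ⧸ D, inferInstance, inferInstance, Q, π n, hS,
    PQAutomizer.pPrimeCore_quotient_central (Cores.pPrimeCore_quotient_self 2) hDp hDZ,
    (blockRank_mod_core hM).trans (blockRank_mod_central hM hDp hDZ), fun hns hsol => hns ?_, ?_⟩
  · haveI := hsol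
    haveI hO' : Group.IsSolvable O := OddOrderTheorem.solvable (Nat.odd_iff.2
      (Nat.two_dvd_ne_zero.1 Cores.not_dvd_card_pPrimeCore))
    haveI : Group.IsSolvable D := Group.isSolvable_of_comm fun a b => Subtype.ext
      ((Subgroup.mem_center_iff.1 (hDZ a.2) (b : G ⧸ O)).symm)
    haveI : Group.IsSolvable (G ⧸ O) := Group.isSolvable_of_ker_le_range D.subtype
      (QuotientGroup.mk' D) (by rw [QuotientGroup.ker_mk', range_subtype])
    exact Group.isSolvable_of_ker_le_range O.subtype (QuotientGroup.mk' O)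
      (by rw [QuotientGroup.ker_mk', range_subtype])
  · let φ : (P : Subgroup G) →* (G ⧸ O) ⧸ D := π.comp (P : Subgroup G).subtype
    have hrange : φ.range = (Q : Subgroup ((G ⧸ O) ⧸ D)) := by
      rw [hQ, MonoidHom.range_comp, range_subtype]
    have hk : Nat.card φ.ker = Nat.card E.fixed := by
      refine Nat.card_congr
        { toFun := fun x => ⟨(x : (P : Subgroup G)), (hker _ (x : (P : Subgroup G)).2).1 x.2⟩
          invFun := fun x => ⟨⟨x, (E.mem_fixed.1 x.2).1⟩, (hker _ (E.mem_fixed.1 x.2).1).2 x.2⟩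
          left_inv := fun _ => rfl
          right_inv := fun _ => rfl }
    rw [← hk, ← hrange, ← Subgroup.index_ker, Subgroup.card_mul_index]

/-- The invariants of the principal block. -/
theorem invariants (E : Cover P n q) {M : Ideal AlgInt} (hM : IsPModular 2 M) :
    blockRank 2 (principalBlock M G) = q ∧ ∃ c s : ℕ, 0 < c ∧ 0 < s ∧
      Nat.card P = c * (q * s + 1) ∧ Nat.card (principalBlock M G) = c * (q + s) ∧
      (¬ Group.IsSolvable G → s = 1) := by
  haveI : Fact (Nat.Prime 2) := ⟨Nat.prime_two⟩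
  obtain ⟨X, _, _, Q, m, S, hO, hrank, hns, hcard⟩ := E.exists_reduced hM
  have hl : blockRank 2 (principalBlock M G) = q := hrank.trans (S.reduced hM hO (Or.inl E.prime))
  obtain ⟨R, hR⟩ := S.exists_reps
  haveI : Finite ((Q : Subgroup X) →* ℂˣ) := by letI := S.commQ; infer_instance
  haveI := Fintype.ofFinite ((Q : Subgroup X) →* ℂˣ)
  have hQ := S.card_eq_reps hR
  have hs0 : 0 < R.card := by
    by_contra h
    rw [Nat.eq_zero_of_not_pos h, mul_zero, zero_add] at hQ
    exact S.ne_bot (Subgroup.card_eq_one.1 hQ)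
  refine ⟨hl, Nat.card E.fixed, R.card, Nat.card_pos, hs0, hQ ▸ hcard, ?_, fun hG => ?_⟩
  swap
  · have h := (S.elementary E.prime hM hO (hns hG)).2.2
    rw [hQ, add_left_inj] at h
    exact Nat.eq_of_mul_eq_mul_left S.pos (h.trans (mul_one q).symm)
  haveI := Fintype.ofFinite G
  haveI := Fintype.ofFinite (P : Subgroup G)
  have hmax := BrauerPairs.isMaximalBrauerPair_principal hM (BrauerPairs.integralPrincipal hM) P
  have hstab := pairStab_eq hM P
  set e := principalBlock M (centralizer ((P : Subgroup G) : Set G))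
  have hsum := Watanabe.card_eq_sum hM hmax E.comm
  set F := Finset.univ.filter fun v : (P : Subgroup G) => (v : G) ∈ E.fixed
  have hF : F.card = Nat.card E.fixed := by
    rw [← Fintype.card_subtype, ← Nat.card_eq_fintype_card]
    exact Nat.card_congr
      { toFun := fun x => ⟨((x : (P : Subgroup G)) : G), x.2⟩
        invFun := fun x => ⟨⟨x, (E.mem_fixed.1 x.2).1⟩, x.2⟩
        left_inv := fun _ => rfl
        right_inv := fun _ => rfl }
  have hin : ∀ v ∈ F, Watanabe.wt M (P : Subgroup G) e v *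
      (LocalRank.lrank 2 M (P : Subgroup G) e (zpowers (v : G)) : ℂ) = q := by
    intro v hv
    have hv := (Finset.mem_filter.1 hv).2
    have horb : Watanabe.orb M (P : Subgroup G) e v = {v} := by
      refine Finset.eq_singleton_iff_unique_mem.2 ⟨Watanabe.self_mem_orb v, fun w hw => ?_⟩
      obtain ⟨t, ht, hwt⟩ := Watanabe.mem_orb.1 hw
      exact Subtype.ext (hwt.trans (E.norm_fix hv (hstab ▸ ht)))
    rw [Watanabe.wt, horb, Watanabe.rank_eq_of_fixed hM hmax E.comm v.2
      (fun t ht => E.norm_fix hv (hstab ▸ ht)), hl]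
    simp
  have hout : ∀ v ∈ Finset.univ.filter (fun v : (P : Subgroup G) => ¬ (v : G) ∈ E.fixed),
      Watanabe.wt M (P : Subgroup G) e v *
        (LocalRank.lrank 2 M (P : Subgroup G) e (zpowers (v : G)) : ℂ) = (q : ℂ)⁻¹ := by
    intro v hv
    have hv := (Finset.mem_filter.1 hv).2
    have hdvd : ∀ i, n ^ i * (v : G) * (n ^ i)⁻¹ = v → q ∣ i := fun i h =>
      by_contra fun hd => hv (E.fix_of_pow_fix v.2 hd h)
    rw [Watanabe.wt, orb_card P hstab E.mem_norm E.gen hdvd, lrank_regular hM P E.comm ?_,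
      Nat.cast_one, mul_one]
    intro g hg hgv
    obtain ⟨i, hi, hic⟩ := E.gen g hg
    have h1 := (mem_centralizer_iff.1 hic (v : G) v.2).symm
    have hi0 : i = 0 := by
      refine Nat.eq_zero_of_dvd_of_lt (hdvd i ?_) hi
      calc n ^ i * (v : G) * (n ^ i)⁻¹
          = n ^ i * ((n ^ i)⁻¹ * g * v * ((n ^ i)⁻¹ * g)⁻¹) * (n ^ i)⁻¹ := by
            rw [h1, mul_inv_cancel_right]
        _ = g * v * g⁻¹ := by group
        _ = v := hgv
    subst hi0
    simpa using hic
  rw [← Finset.sum_filter_add_sum_filter_not Finset.univ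
    (fun v : (P : Subgroup G) => (v : G) ∈ E.fixed), Finset.sum_congr rfl hin,
    Finset.sum_congr rfl hout, Finset.sum_const, Finset.sum_const, nsmul_eq_mul, nsmul_eq_mul] at hsum
  have hsplit := Finset.card_filter_add_card_filter_not (s := (Finset.univ : Finset (P : Subgroup G)))
    (fun v : (P : Subgroup G) => (v : G) ∈ E.fixed)
  rw [Finset.card_univ, ← Nat.card_eq_fintype_card, hF] at hsplit
  rw [hF] at hsum
  rw [hQ, mul_add, mul_one] at hcard
  have hrest : (Finset.univ.filter fun v : (P : Subgroup G) => ¬ (v : G) ∈ E.fixed).card =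
      Nat.card E.fixed * (q * R.card) := by
    have : Nat.card P = Nat.card (P : Subgroup G) := rfl
    omega
  rw [hrest, Nat.cast_mul, Nat.cast_mul,
    show (Nat.card E.fixed : ℂ) * ((q : ℂ) * R.card) * (q : ℂ)⁻¹ = Nat.card E.fixed * R.card by
      field_simp [(Nat.cast_ne_zero.2 E.prime.ne_zero : (q : ℂ) ≠ 0)]] at hsum
  apply Nat.cast_injective (R := ℂ)
  rw [hsum]
  push_cast
  ring

/-- `l = q`, and `k = |P|` outside solvable groups. -/
theorem main (E : Cover P n q) {M : Ideal AlgInt} (hM : IsPModular 2 M) :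
    blockRank 2 (principalBlock M G) = q ∧
      (¬ Group.IsSolvable G → Nat.card (principalBlock M G) = Nat.card P) := by
  obtain ⟨hl, c, s, -, -, hP, hk, hs⟩ := E.invariants hM
  refine ⟨hl, fun hG => ?_⟩
  rw [hk, hP, hs hG, mul_one]

end Cover

end Cfsg.Agent.PrimeInertial
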