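import Cfsg.Agent.Lib.PrimeInertial.Setting
import Cfsg.Agent.Lib.OddOrderTheorem.Basic

/-!
# Normal subgroups meeting `Q`

* `normal_sylow_solvable`: `X` is solvable when `Q` is normal;
* `le_of_normal`: with `O(X) = 1` and `X` nonsolvable, a normal subgroup meeting `Q` contains it.
-/

set_option autoImplicit false

namespace Cfsg.Agent.PrimeInertial

open Subgroup

variable {X : Type*} [Group X] [Finite X]

/-- A group with an abelian normal Sylow 2-subgroup is solvable. -/
theorem normal_sylow_solvable (Q : Sylow 2 X) [hn : (Q : Subgroup X).Normal]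
    (hc : ∀ x ∈ (Q : Subgroup X), ∀ y ∈ (Q : Subgroup X), x * y = y * x) : Group.IsSolvable X := by
  haveI : Fact (Nat.Prime 2) := ⟨Nat.prime_two⟩
  haveI : IsMulCommutative (Q : Subgroup X) := ⟨⟨fun a b => Subtype.ext (hc a a.2 b b.2)⟩⟩
  have h1 : Group.IsSolvable (Q : Subgroup X) :=
    Group.isSolvable_of_comm fun a b => Subtype.ext (hc a a.2 b b.2)
  have hidx : Odd (Nat.card (X ⧸ (Q : Subgroup X))) := by
    rw [← Subgroup.index_eq_card, Nat.odd_iff, ← Nat.two_dvd_ne_zero]
    exact Q.not_dvd_index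
  have h2 : Group.IsSolvable (X ⧸ (Q : Subgroup X)) := OddOrderTheorem.solvable hidx
  exact Group.isSolvable_of_ker_le_range (Q : Subgroup X).subtype (QuotientGroup.mk' (Q : Subgroup X))
    (by rw [QuotientGroup.ker_mk', range_subtype])

namespace Setting

variable {Q : Sylow 2 X} {n : X} {q : ℕ}

/-- A normal subgroup meeting `Q` nontrivially contains `Q`. -/
theorem le_of_normal (S : Setting Q n q) (hO : Cfsg.pPrimeCore 2 X = ⊥)
    (hns : ¬ Group.IsSolvable X) (K : Subgroup X) [hK : K.Normal]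
    (hmeet : K ⊓ (Q : Subgroup X) ≠ ⊥) : (Q : Subgroup X) ≤ K := by
  haveI : Fact (Nat.Prime 2) := ⟨Nat.prime_two⟩
  set R := K ⊓ (Q : Subgroup X) with hR
  set C := centralizer (R : Set X) with hC
  have hQC : (Q : Subgroup X) ≤ C := fun x hx => mem_centralizer_iff.2 fun r hr =>
    S.comm r hr.2 x hx
  obtain ⟨r, hrR, hr1⟩ := (Subgroup.bot_or_exists_ne_one R).resolve_left hmeet
  have hCr : C ≤ centralizer ({r} : Set X) := fun x hx =>
    mem_centralizer_singleton_iff.2 ((mem_centralizer_iff.1 hx r hrR).symm)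
  have hCcore : ∀ s : X, s ∈ C → ¬ 2 ∣ orderOf s → s ∈ Cfsg.centralizerPPrimeCore 2 r := fun s hs ho =>
    (S.mem_core hrR.2 hr1).2 ⟨mem_centralizer_singleton_iff.1 (hCr hs), ho⟩
  -- `R` is a Sylow subgroup of `K`
  have hRp : IsPGroup 2 (R.subgroupOf K) :=
    (Q.isPGroup'.to_le inf_le_right).comap_of_injective K.subtype K.subtype_injective
  obtain ⟨P, hP⟩ := hRp.exists_le_sylow
  have hPR : (P : Subgroup K) = R.subgroupOf K := by
    refine (Subgroup.eq_of_le_of_card_ge hP ?_).symm
    obtain ⟨P', hP'⟩ := (P.isPGroup'.map K.subtype).exists_le_sylow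
    obtain ⟨g, hg⟩ := MulAction.exists_smul_eq X P' Q
    rw [Cores.card_subgroupOf (inf_le_left : R ≤ K)]
    let e : ↥(P : Subgroup K) → ↥R := fun x => ⟨g * ((x : K) : X) * g⁻¹,
      hK.conj_mem _ (x : K).2 g, hg ▸ Subgroup.mem_map_of_mem _ (hP' ⟨x, x.2, rfl⟩)⟩
    refine Nat.card_le_card_of_injective e fun x y h => Subtype.ext (Subtype.ext ?_)
    exact mul_left_cancel (mul_right_cancel (congrArg (fun z : R => (z : X)) h))
  by_cases hN : ∀ g ∈ K, g ∈ normalizer (R : Set X) → g ∈ C
  · -- `K` has a normal 2-complement, so `K = R` and `Q` is normal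
    exfalso
    have hcompl : Cfsg.HasNormalPComplement 2 K := by
      refine Transfer.hasNormalPComplement_of_normalizer_le_centralizer P fun g hg => ?_
      have hgR : (g : X) ∈ normalizer (R : Set X) := by
        refine mem_normalizer_iff.2 fun z => ⟨fun hz => ?_, fun hz => ?_⟩
        · have := (mem_normalizer_iff.1 hg ⟨z, hz.1⟩).1 (hPR ▸ hz)
          rw [hPR] at this
          exact this
        · have hzK : z ∈ K := by
            have h := hK.conj_mem _ hz.1 (g : X)⁻¹
            simpa [mul_assoc] using h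
          have := (mem_normalizer_iff.1 hg ⟨z, hzK⟩).2 (hPR ▸ hz)
          rw [hPR] at this
          exact this
      have hgC := hN g g.2 hgR
      refine mem_centralizer_iff.2 fun z hz => Subtype.ext ?_
      rw [hPR] at hz
      exact mem_centralizer_iff.1 hgC (z : X) hz
    have hKeq : K ≤ R := by
      have hker : Cfsg.pPrimeCore 2 K = ⊥ := by
        refine (Subgroup.map_eq_bot_iff_of_injective _ K.subtype_injective).1 (eq_bot_iff.2 ?_)
        rw [← hO]
        refine Cores.le_pPrimeCore (Cores.map_subtype_normal_of_characteristic K _) ?_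
        rw [Cores.card_map_subtype]
        exact (Nat.prime_two.coprime_iff_not_dvd.2 Cores.not_dvd_card_pPrimeCore).symm
      intro x hx
      have h := card_of_complement hcompl P
      rw [hker, Subgroup.card_bot, one_mul] at h
      have htop : (P : Subgroup K) = ⊤ := Subgroup.eq_top_of_card_eq _ h.symm
      have : (⟨x, hx⟩ : K) ∈ R.subgroupOf K := by rw [← hPR, htop]; exact mem_top _
      exact this
    have hRn : R.Normal := (le_antisymm inf_le_left hKeq : R = K) ▸ hK
    haveI hCn : C.Normal := by rw [hC]; infer_instance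
    have hCcomp : Cfsg.HasNormalPComplement 2 C :=
      Transfer.hasNormalPComplement_of_injective (S.complement hrR.2 hr1) (inclusion hCr)
        (inclusion_injective hCr)
    have hCQ : C = (Q : Subgroup X) := by
      refine (Subgroup.eq_of_le_of_card_ge hQC ?_).symm
      have hker : Cfsg.pPrimeCore 2 C = ⊥ := by
        refine (Subgroup.map_eq_bot_iff_of_injective _ C.subtype_injective).1 (eq_bot_iff.2 ?_)
        rw [← hO]
        refine Cores.le_pPrimeCore (Cores.map_subtype_normal_of_characteristic C _) ?_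
        rw [Cores.card_map_subtype]
        exact (Nat.prime_two.coprime_iff_not_dvd.2 Cores.not_dvd_card_pPrimeCore).symm
      rw [card_of_complement hCcomp (Q.subtype hQC), hker, Subgroup.card_bot, one_mul,
        Sylow.coe_subtype, Cores.card_subgroupOf hQC]
    haveI : (Q : Subgroup X).Normal := hCQ ▸ hCn
    exact hns (normal_sylow_solvable Q S.comm)
  · push Not at hN
    obtain ⟨g, hgK, hgN, hgC⟩ := hN
    -- a conjugate of `Q` in `C` is moved back by `C`
    have hgC' : ∀ z ∈ C, g * z * g⁻¹ ∈ C := fun z hz => mem_centralizer_iff.2 fun r hr => by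
      have hr' : g⁻¹ * r * g ∈ R := (mem_normalizer_iff''.1 hgN r).1 hr
      have h := mem_centralizer_iff.1 hz _ hr'
      calc r * (g * z * g⁻¹) = g * (g⁻¹ * r * g * z) * g⁻¹ := by group
        _ = g * (z * (g⁻¹ * r * g)) * g⁻¹ := by rw [h]
        _ = g * z * g⁻¹ * r := by group
    have hQgC : ((g • Q : Sylow 2 X) : Subgroup X) ≤ C := by
      rintro _ ⟨z, hz, rfl⟩
      exact hgC' z (hQC hz)
    obtain ⟨c, hc⟩ := MulAction.exists_smul_eq C ((g • Q).subtype hQgC) (Q.subtype hQC)
    have hm : (c : X) * g ∈ normalizer ((Q : Subgroup X) : Set X) := by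
      refine Sylow.smul_eq_iff_mem_normalizer.1 ?_
      rw [mul_smul]
      have h := hc
      rw [Sylow.smul_subtype] at h
      exact Sylow.subtype_injective h
    obtain ⟨i, hi, hic⟩ := S.gen _ hm
    have hi0 : i ≠ 0 := by
      rintro rfl
      rw [pow_zero, inv_one, one_mul] at hic
      have h1 : (c : X) * g ∈ C := centralizer_le (inf_le_right : R ≤ (Q : Subgroup X)) hic
      exact hgC ((mul_mem_cancel_left c.2).1 h1)
    -- the commutators with `n ^ i` lie in `R`
    have hcomm : ∀ x ∈ (Q : Subgroup X), n ^ i * x * (n ^ i)⁻¹ * x⁻¹ ∈ K := by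
      intro x hx
      have e1 : n ^ i * x * (n ^ i)⁻¹ = (c : X) * g * x * ((c : X) * g)⁻¹ := by
        have h := (mem_centralizer_iff.1 hic x hx).symm
        calc n ^ i * x * (n ^ i)⁻¹
            = n ^ i * (((n ^ i)⁻¹ * ((c : X) * g)) * x * ((n ^ i)⁻¹ * ((c : X) * g))⁻¹) *
                (n ^ i)⁻¹ := by rw [h, mul_inv_cancel_right]
          _ = _ := by group
      set w := n ^ i * x * (n ^ i)⁻¹ * x⁻¹ with hw
      have hwQ : w ∈ (Q : Subgroup X) := mul_mem (S.conj_mem i hx) (inv_mem hx)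
      have e2 : w = (c : X) * (g * x * g⁻¹ * x⁻¹) * (c : X)⁻¹ *
          ((c : X) * x * (c : X)⁻¹ * x⁻¹) := by rw [hw, e1]; group
      have h1 : (c : X) * (g * x * g⁻¹ * x⁻¹) * (c : X)⁻¹ ∈ K := by
        refine hK.conj_mem _ ?_ _
        rw [show g * x * g⁻¹ * x⁻¹ = g * (x * g⁻¹ * x⁻¹) by group]
        exact mul_mem hgK (hK.conj_mem _ (inv_mem hgK) x)
      -- the second commutator has odd order
      have h2 : ¬ 2 ∣ orderOf ((c : X) * x * (c : X)⁻¹ * x⁻¹) := by
        have hCcomp : Cfsg.HasNormalPComplement 2 C :=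
          Transfer.hasNormalPComplement_of_injective (S.complement hrR.2 hr1) (inclusion hCr)
            (inclusion_injective hCr)
        obtain ⟨P₀, N₀, hN₀, hcompl₀⟩ := hCcomp
        have hQP : ∀ a b : C ⧸ N₀, a * b = b * a := by
          have hsurj : ∀ a : C ⧸ N₀, ∃ z : Q.subtype hQC, QuotientGroup.mk (z : C) = a := by
            intro a
            obtain ⟨v, hv⟩ := QuotientGroup.mk_surjective a
            obtain ⟨y, hy⟩ := MulAction.exists_smul_eq C P₀ (Q.subtype hQC)
            obtain ⟨⟨s, z⟩, hsz⟩ := hcompl₀.2 (y⁻¹ * v * y)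
            refine ⟨⟨y * (z : C) * y⁻¹, hy ▸ Subgroup.mem_map_of_mem _ z.2⟩, ?_⟩
            have hsz' : (s : C) * (z : C) = y⁻¹ * v * y := hsz
            rw [← hv, show v = y * ((s : C) * (z : C)) * y⁻¹ by rw [hsz']; group]
            simp only [QuotientGroup.mk_mul, QuotientGroup.mk_inv,
              (QuotientGroup.eq_one_iff (s : C)).2 s.2, one_mul]
          intro a b
          obtain ⟨za, rfl⟩ := hsurj a
          obtain ⟨zb, rfl⟩ := hsurj b
          rw [← QuotientGroup.mk_mul, ← QuotientGroup.mk_mul]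
          exact congrArg _ (Subtype.ext (S.comm _ za.2 _ zb.2))
        have hmem : c * ⟨x, hQC hx⟩ * c⁻¹ * (⟨x, hQC hx⟩ : C)⁻¹ ∈ N₀ := by
          rw [← QuotientGroup.eq_one_iff]
          simp only [QuotientGroup.mk_mul, QuotientGroup.mk_inv, hQP (c : C ⧸ N₀),
            mul_inv_cancel_right, mul_inv_cancel]
        have hodd : ¬ 2 ∣ Nat.card N₀ := hcompl₀.index_eq_card ▸ P₀.not_dvd_index
        intro hdvd
        have := Subgroup.orderOf_dvd_natCard N₀ hmem
        rw [← Subgroup.orderOf_coe] at this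
        exact hodd (hdvd.trans this)
      rw [← QuotientGroup.eq_one_iff, ← orderOf_eq_one_iff]
      obtain ⟨a, ha⟩ := IsPGroup.iff_orderOf.1 Q.isPGroup' ⟨w, hwQ⟩
      rw [Subgroup.orderOf_mk] at ha
      refine Nat.eq_one_of_dvd_coprimes (a := 2 ^ a)
        (b := orderOf ((c : X) * x * (c : X)⁻¹ * x⁻¹)) ?_ (ha ▸ orderOf_map_dvd (QuotientGroup.mk' K) w) ?_
      · exact (Nat.prime_two.coprime_iff_not_dvd.2 h2).pow_left a
      · rw [e2, QuotientGroup.mk_mul, (QuotientGroup.eq_one_iff _).2 h1, one_mul]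
        exact orderOf_map_dvd (QuotientGroup.mk' K) _
    intro y hy
    let d : ↥(Q : Subgroup X) → ↥(Q : Subgroup X) := fun x =>
      ⟨n ^ i * x * (n ^ i)⁻¹ * (x : X)⁻¹, mul_mem (S.conj_mem i x.2) (inv_mem x.2)⟩
    have hdinj : Function.Injective d := by
      intro x z h
      have h' : n ^ i * x * (n ^ i)⁻¹ * (x : X)⁻¹ = n ^ i * z * (n ^ i)⁻¹ * (z : X)⁻¹ :=
        congrArg Subtype.val h
      by_contra hne
      have hfix : n ^ i * ((z : X)⁻¹ * x) * (n ^ i)⁻¹ = (z : X)⁻¹ * x := by
        calc n ^ i * ((z : X)⁻¹ * x) * (n ^ i)⁻¹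
            = (n ^ i * z * (n ^ i)⁻¹)⁻¹ * (n ^ i * x * (n ^ i)⁻¹ * (x : X)⁻¹ * x) := by group
          _ = (n ^ i * z * (n ^ i)⁻¹)⁻¹ * (n ^ i * z * (n ^ i)⁻¹ * (z : X)⁻¹ * x) := by rw [h']
          _ = _ := by group
      have hne1 : (z : X)⁻¹ * x ≠ 1 := fun e => hne (Subtype.ext (inv_mul_eq_one.1 e).symm)
      exact hi0 (Nat.eq_zero_of_dvd_of_lt (S.free (mul_mem (inv_mem z.2) x.2) hne1 hfix) hi)
    obtain ⟨x, hx⟩ := Finite.injective_iff_surjective.1 hdinj ⟨y, hy⟩
    have := hcomm x x.2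
    rwa [show n ^ i * x * (n ^ i)⁻¹ * (x : X)⁻¹ = y from congrArg Subtype.val hx] at this

end Setting

end Cfsg.Agent.PrimeInertial
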