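import Mathlib
import Cfsg.Agent.EqLemmas

/-!
# Integer rows with Gram matrix `1 + e J`

`rows_structure`: with at least three columns, rows orthogonal to a positive vector are constant
except one for each column, and these are `c 1 - ε δ j` with the same `c`, `ε` and degree.
-/

set_option autoImplicit false

open scoped Classical

namespace Cfsg.Agent.PrimeInertial.Rows

variable {ι J : Type*} [Fintype ι] [Fintype J]

/-- The spread of a row: the sum of the squares of the differences, halved. -/
theorem spread_eq (x : J → ℤ) :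
    ∑ a, ∑ b, (x a - x b) ^ 2 =
      2 * ((Fintype.card J : ℤ) * ∑ j, x j ^ 2 - (∑ j, x j) ^ 2) := by
  simp only [sub_sq, Finset.sum_add_distrib, Finset.sum_sub_distrib, Finset.sum_const,
    Finset.card_univ, nsmul_eq_mul, ← Finset.mul_sum, ← Finset.sum_mul, mul_assoc]
  ring

variable {n : ι → J → ℤ} {d : ι → ℤ} {e : ℤ}

/-- Every row has spread less than the number of columns. -/
theorem spread_lt (hd : ∀ i, 0 < d i)
    (hgram : ∀ j k, ∑ i, n i j * n i k = e + if j = k then 1 else 0)
    (horth : ∀ j, ∑ i, d i * n i j = 0) [Nonempty J] (i : ι) :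
    (Fintype.card J : ℤ) * ∑ j, n i j ^ 2 - (∑ j, n i j) ^ 2 < Fintype.card J := by
  set f := (Fintype.card J : ℤ)
  have hf : 0 < f := Int.natCast_pos.2 Fintype.card_pos
  set w : J → ℤ := fun j => f * n i j - ∑ k, n i k
  set Z : ι → ℤ := fun l => ∑ j, w j * n l j
  set T := f * ∑ j, n i j ^ 2 - (∑ j, n i j) ^ 2 with hT
  have hw : ∑ j, w j = 0 := by
    simp only [w, Finset.sum_sub_distrib, ← Finset.mul_sum, Finset.sum_const, Finset.card_univ,
      nsmul_eq_mul]
    ring
  have hZi : Z i = T := by
    show ∑ j, w j * n i j = _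
    simp only [w, sub_mul, Finset.sum_sub_distrib, mul_assoc, ← Finset.mul_sum, hT, sq]
  have hw2 : ∑ j, w j ^ 2 = f * T := by
    have h1 : ∑ j, w j ^ 2 = f * ∑ j, w j * n i j - (∑ k, n i k) * ∑ j, w j := by
      rw [Finset.mul_sum, Finset.mul_sum, ← Finset.sum_sub_distrib]
      exact Finset.sum_congr rfl fun j _ => by simp only [w]; ring
    rw [h1, hw, mul_zero, sub_zero, ← hZi]
  have hsq : ∑ l, Z l ^ 2 = f * T := by
    calc ∑ l, Z l ^ 2 = ∑ j, ∑ k, w j * w k * ∑ l, n l j * n l k := by
          simp only [Z, sq, Finset.sum_mul_sum]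
          rw [Finset.sum_comm]
          refine Finset.sum_congr rfl fun j _ => ?_
          rw [Finset.sum_comm]
          refine Finset.sum_congr rfl fun k _ => ?_
          rw [Finset.mul_sum]
          exact Finset.sum_congr rfl fun l _ => by ring
      _ = e * (∑ j, w j) ^ 2 + ∑ j, w j ^ 2 := by
          simp only [hgram, mul_add, Finset.sum_add_distrib, mul_ite, mul_one, mul_zero,
            Finset.sum_ite_eq, Finset.mem_univ, if_true, ← sq]
          rw [sq (∑ j, w j), Finset.sum_mul_sum, Finset.mul_sum]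
          congr 1
          refine Finset.sum_congr rfl fun j _ => ?_
          rw [Finset.mul_sum]
          exact Finset.sum_congr rfl fun k _ => by ring
      _ = f * T := by rw [hw, hw2]; ring
  by_contra hlt
  push Not at hlt
  have hTf : f ≤ T := hlt
  have h1 : Z i ^ 2 + ∑ l ∈ Finset.univ.erase i, Z l ^ 2 = f * T :=
    (Finset.add_sum_erase Finset.univ (fun l => Z l ^ 2) (Finset.mem_univ i)).trans hsq
  have h2 : ∑ l ∈ Finset.univ.erase i, Z l ^ 2 = 0 := by
    have := Finset.sum_nonneg (s := Finset.univ.erase i) fun l _ => sq_nonneg (Z l)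
    rw [hZi] at h1
    nlinarith
  have h3 := (Finset.sum_eq_zero_iff_of_nonneg fun l _ => sq_nonneg (Z l)).1 h2
  have h4 : ∑ l, d l * Z l = 0 := by
    simp only [Z, Finset.mul_sum]
    rw [Finset.sum_comm]
    refine Finset.sum_eq_zero fun j _ => ?_
    rw [← mul_zero (w j), ← horth j, Finset.mul_sum]
    exact Finset.sum_congr rfl fun l _ => by ring
  rw [Finset.sum_eq_single i (fun l _ hl => by
    rw [pow_eq_zero_iff two_ne_zero |>.1 (h3 l (Finset.mem_erase.2 ⟨hl, Finset.mem_univ l⟩)),
      mul_zero]) (fun h => absurd (Finset.mem_univ i) h), hZi] at h4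
  rcases mul_eq_zero.1 h4 with h | h
  · exact (hd i).ne' h
  · omega

/-- A row of spread less than the number of columns differs from a constant in one place by one. -/
theorem row_shape [Nonempty J] (x : J → ℤ)
    (hlt : (Fintype.card J : ℤ) * ∑ j, x j ^ 2 - (∑ j, x j) ^ 2 < Fintype.card J)
    (hnc : ∃ a b, x a ≠ x b) :
    ∃ (c ε : ℤ) (b : J), (ε = 1 ∨ ε = -1) ∧ ∀ j, x j = c - if j = b then ε else 0 := by
  obtain ⟨a, ha⟩ : ∃ a, ∑ b, (x a - x b) ^ 2 ≤ 1 := by
    by_contra hcon
    push Not at hcon
    have h1 : ∑ _a : J, (2 : ℤ) ≤ ∑ a, ∑ b, (x a - x b) ^ 2 :=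
      Finset.sum_le_sum fun a _ => hcon a
    rw [spread_eq, Finset.sum_const, Finset.card_univ, nsmul_eq_mul] at h1
    linarith
  obtain ⟨b, hb⟩ : ∃ b, x a ≠ x b := by
    by_contra hcon
    push Not at hcon
    obtain ⟨u, v, huv⟩ := hnc
    exact huv ((hcon u).symm.trans (hcon v))
  have hsplit := Finset.add_sum_erase Finset.univ (fun j => (x a - x j) ^ 2) (Finset.mem_univ b)
  have hnn := Finset.sum_nonneg (s := Finset.univ.erase b) fun j _ => sq_nonneg (x a - x j)
  have h1 : 1 ≤ (x a - x b) ^ 2 := Int.add_one_le_of_lt (sq_pos_of_ne_zero (sub_ne_zero.2 hb))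
  have hb1 : (x a - x b) ^ 2 = 1 := by linarith
  have hrest : ∑ j ∈ Finset.univ.erase b, (x a - x j) ^ 2 = 0 := by linarith
  have h3 := (Finset.sum_eq_zero_iff_of_nonneg fun j _ => sq_nonneg (x a - x j)).1 hrest
  refine ⟨x a, x a - x b, b, sq_eq_one_iff.1 hb1, fun j => ?_⟩
  by_cases hj : j = b
  · rw [if_pos hj, hj]; ring
  · rw [if_neg hj, sub_zero]
    have := pow_eq_zero_iff two_ne_zero |>.1 (h3 j (Finset.mem_erase.2 ⟨hj, Finset.mem_univ j⟩))
    omega

/-- The structure of the rows. -/
theorem rows_structure (h3 : 3 ≤ Fintype.card J) (hd : ∀ i, 0 < d i)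
    (hgram : ∀ j k, ∑ i, n i j * n i k = e + if j = k then 1 else 0)
    (horth : ∀ j, ∑ i, d i * n i j = 0) :
    ∃ (x : J → ι) (c ε D : ℤ), Function.Injective x ∧ (ε = 1 ∨ ε = -1) ∧
      (∀ j, d (x j) = D) ∧ (∀ j k, n (x j) k = c - if k = j then ε else 0) ∧
      ∀ i, i ∉ Set.range x → ∀ j k, n i j = n i k := by
  haveI : Nonempty J := Fintype.card_pos_iff.1 (by omega)
  let NC : Finset ι := Finset.univ.filter fun i => ∃ a b, n i a ≠ n i b
  have hsh : ∀ i ∈ NC, ∃ (c ε : ℤ) (b : J), (ε = 1 ∨ ε = -1) ∧
      ∀ j, n i j = c - if j = b then ε else 0 := fun i hi =>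
    row_shape _ (spread_lt hd hgram horth i) (Finset.mem_filter.1 hi).2
  choose! cc ee bb hee hshape using hsh
  have hconst : ∀ i, i ∉ NC → ∀ j k, n i j = n i k := fun i hi j k => by
    by_contra h
    exact hi (Finset.mem_filter.2 ⟨Finset.mem_univ i, j, k, h⟩)
  let S : J → Finset ι := fun j => NC.filter fun i => bb i = j
  -- two rows separate each pair of columns
  have hpair : ∀ j k, j ≠ k → ∑ i, (n i j - n i k) ^ 2 = 2 := by
    intro j k hjk
    have e1 : ∀ i, (n i j - n i k) ^ 2 = n i j * n i j - 2 * (n i j * n i k) + n i k * n i k :=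
      fun i => by ring
    simp only [e1, Finset.sum_add_distrib, Finset.sum_sub_distrib, ← Finset.mul_sum, hgram,
      if_true, if_neg hjk]
    ring
  have hterm : ∀ j k, j ≠ k → ∀ i, n i j - n i k =
      (if i ∈ S k then ee i else 0) - (if i ∈ S j then ee i else 0) := by
    intro j k hjk i
    by_cases hi : i ∈ NC
    · simp only [hshape i hi, S, Finset.mem_filter, hi, true_and]
      by_cases h1 : bb i = j
      · rw [if_pos h1.symm, if_pos h1, if_neg (fun h => hjk (h1.symm.trans h.symm).symm.symm),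
          if_neg (fun h => hjk (h1.symm.trans h))]
        ring
      · rw [if_neg (fun h => h1 h.symm), if_neg h1]
        by_cases h2 : bb i = k
        · rw [if_pos h2.symm, if_pos h2]; ring
        · rw [if_neg (fun h => h2 h.symm), if_neg h2]; ring
    · simp only [hconst i hi j k, sub_self, S, Finset.mem_filter, hi, false_and, if_false]
  have hcardsum : ∀ j k, j ≠ k → ((S j).card : ℤ) + (S k).card = 2 := by
    intro j k hjk
    rw [← hpair j k hjk]
    have e1 : ∀ i, (n i j - n i k) ^ 2 =
        (if i ∈ S k then (1 : ℤ) else 0) + (if i ∈ S j then (1 : ℤ) else 0) := by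
      intro i
      rw [hterm j k hjk i]
      by_cases h1 : i ∈ S k
      · have h2 : i ∉ S j := fun h =>
          hjk ((Finset.mem_filter.1 h).2.symm.trans (Finset.mem_filter.1 h1).2)
        rcases hee i (Finset.mem_filter.1 h1).1 with h | h <;> simp [h1, h2, h]
      · by_cases h2 : i ∈ S j
        · rcases hee i (Finset.mem_filter.1 h2).1 with h | h <;> simp [h1, h2, h]
        · simp [h1, h2]
    simp only [e1, Finset.sum_add_distrib, Finset.sum_boole, Finset.filter_univ_mem]
    push_cast
    ring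
  have hone : ∀ j, (S j).card = 1 := by
    intro j
    obtain ⟨k, hk⟩ := Fintype.exists_ne_of_one_lt_card (by omega) j
    obtain ⟨l, -, hlj, hlk⟩ : ∃ l ∈ (Finset.univ : Finset J), l ≠ j ∧ l ≠ k := by
      by_contra hcon
      push Not at hcon
      have : Finset.univ ⊆ ({j, k} : Finset J) := fun l hl => by
        by_cases h : l = j
        · simp [h]
        · simp [hcon l hl h]
      have := Finset.card_le_card this
      rw [Finset.card_univ] at this
      have := Finset.card_le_two (a := j) (b := k)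
      omega
    have h1 := hcardsum j k hk.symm
    have h2 := hcardsum j l hlj.symm
    have h3 := hcardsum k l hlk.symm
    omega
  choose x hx using fun j => Finset.card_eq_one.1 (hone j)
  have hxS : ∀ j, x j ∈ NC ∧ bb (x j) = j := fun j =>
    Finset.mem_filter.1 (show x j ∈ NC.filter (fun i => bb i = j) by
      rw [show NC.filter (fun i => bb i = j) = S j from rfl, hx j]; exact Finset.mem_singleton_self _)
  have hxuniq : ∀ i ∈ NC, i = x (bb i) := fun i hi => by
    have : i ∈ S (bb i) := Finset.mem_filter.2 ⟨hi, rfl⟩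
    rwa [hx, Finset.mem_singleton] at this
  have hinj : Function.Injective x := fun j k h => by rw [← (hxS j).2, h, (hxS k).2]
  have hrange : ∀ i, i ∉ Set.range x → i ∉ NC := fun i hi h => hi ⟨_, (hxuniq i h).symm⟩
  -- the same sign and degree
  have hde : ∀ j k, d (x j) * ee (x j) = d (x k) * ee (x k) := by
    intro j k
    rcases eq_or_ne j k with rfl | hjk
    · rfl
    have h0 : ∑ i, d i * (n i j - n i k) = 0 := by
      simp only [mul_sub, Finset.sum_sub_distrib, horth, sub_self]
    simp only [hterm j k hjk, mul_sub, Finset.sum_sub_distrib, mul_ite, mul_zero,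
      Finset.sum_ite_mem, Finset.univ_inter, hx, Finset.sum_singleton] at h0
    linarith
  obtain ⟨j0⟩ := (inferInstance : Nonempty J)
  set ε := ee (x j0) with hε
  have hε1 : ε = 1 ∨ ε = -1 := hee _ (hxS j0).1
  have hsame : ∀ j, ee (x j) = ε ∧ d (x j) = d (x j0) := by
    intro j
    have h := hde j j0
    have h1 := hd (x j)
    have h2 := hd (x j0)
    rcases hee _ (hxS j).1 with ha | ha <;> rcases hε1 with hb | hb <;>
      rw [ha, ← hε, hb] at h <;> constructor <;> omega
  -- the same constant
  have hc : ∀ j, cc (x j) = cc (x j0) := by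
    intro j
    rcases eq_or_ne j j0 with rfl | hj
    · rfl
    have hsq : ∀ m, ∑ i, n i m ^ 2 = e + 1 := fun m => by simp only [sq, hgram, if_true]
    have h0 : ∑ i, (n i j ^ 2 - n i j0 ^ 2) = 0 := by
      rw [Finset.sum_sub_distrib, hsq, hsq, sub_self]
    have hne : x j ≠ x j0 := fun h => hj (hinj h)
    rw [Finset.sum_eq_add_of_mem (x j) (x j0) (Finset.mem_univ _) (Finset.mem_univ _) hne
      fun i _ hi => by
        by_cases hiN : i ∈ NC
        · have hb1 : bb i ≠ j := fun h => hi.1 (by rw [hxuniq i hiN, h])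
          have hb2 : bb i ≠ j0 := fun h => hi.2 (by rw [hxuniq i hiN, h])
          simp [hshape i hiN, if_neg (Ne.symm hb1), if_neg (Ne.symm hb2)]
        · simp [hconst i hiN j j0]] at h0
    simp only [hshape _ (hxS _).1, (hxS _).2, (hsame _).1, if_true, if_neg hj, if_neg hj.symm,
      sub_zero, ← hε] at h0
    rcases hε1 with h | h <;> rw [h] at h0 <;> linarith
  refine ⟨x, cc (x j0), ε, d (x j0), hinj, hε1, fun j => (hsame j).2, fun j k => ?_,
    fun i hi => hconst i (hrange i hi)⟩
  rw [hshape _ (hxS j).1, (hxS j).2, (hsame j).1, hc j]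

end Cfsg.Agent.PrimeInertial.Rows
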