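import Cfsg.Agent.Lib.PrimeInertial.Dual
import Cfsg.Agent.Lib.PrimeInertial.Rows
import Cfsg.Agent.Lib.Char.ClassMult
import Cfsg.Agent.Lib.Involution.Basic

/-!
# One class of involutions, and exponent two

For a group in which only the trivial irreducible character is trivial on `Q`:

* `one_class`: the involutions of `Q` are conjugate;
* `sq_eq_one`: `Q` is elementary abelian, with the help of `ker_false`.
-/

set_option autoImplicit false
set_option maxHeartbeats 800000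

open scoped Classical ComplexConjugate

namespace Cfsg.Agent.PrimeInertial

open Subgroup Cfsg Cfsg.Agent

universe u

variable {X : Type u} [Group X] [Finite X] [Fintype X] [Fintype (IrrCharacter X)]
  {Q : Sylow 2 X} {n : X} {q : ℕ} [Fintype ((Q : Subgroup X) →* ℂˣ)]

/-- The principal characters. -/
noncomputable def B0 (M : Ideal AlgInt) : Finset (IrrCharacter X) :=
  Finset.univ.filter fun χ : IrrCharacter X => χ ∈ principalBlock M X

theorem mem_B0 {M : Ideal AlgInt} {χ : IrrCharacter X} : χ ∈ B0 M ↔ χ ∈ principalBlock M X := by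
  simp [B0]

/-- The shape of the coefficient rows of the principal block. -/
structure RowData (S : Setting Q n q) (M : Ideal AlgInt)
    (R : Finset ((Q : Subgroup X) →* ℂˣ)) where
  row : ((Q : Subgroup X) →* ℂˣ) → IrrCharacter X
  c : ℤ
  ε : ℤ
  D : ℤ
  row_mem : ∀ μ ∈ R, row μ ∈ B0 M
  row_inj : ∀ μ ∈ R, ∀ ν ∈ R, row μ = row ν → μ = ν
  sign : ε = 1 ∨ ε = -1
  deg : ∀ μ ∈ R, (charDegree (row μ : X → ℂ) : ℤ) = D
  coef_row : ∀ μ ∈ R, ∀ ν ∈ R, S.coef (row μ) ν = c - if ν = μ then ε else 0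
  coef_const : ∀ χ ∈ B0 M, χ ∉ R.image row → ∀ μ ∈ R, ∀ ν ∈ R, S.coef χ μ = S.coef χ ν

variable {S : Setting Q n q} {M : Ideal AlgInt} {R : Finset ((Q : Subgroup X) →* ℂˣ)}

theorem exists_rowData (hM : IsPModular 2 M) (hR : S.Reps R) (h3 : 3 ≤ R.card) :
    Nonempty (RowData S M R) := by
  haveI : Nonempty (IrrCharacter X) := ⟨BrauerPairs.oneIrr X⟩
  obtain ⟨x, c, ε, D, hinj, hε, hdeg, hshape, hconst⟩ := Rows.rows_structure
    (ι := ↥(B0 (X := X) M)) (J := ↥R) (n := fun i j => S.coef (i : IrrCharacter X) j)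
    (d := fun i => (charDegree ((i : IrrCharacter X) : X → ℂ) : ℤ)) (e := (q : ℤ))
    (by rwa [Fintype.card_coe])
    (fun i => Int.natCast_pos.2 (Blocks.charDegree_pos _))
    (fun j k => by
      rw [Finset.sum_coe_sort (B0 (X := X) M) (fun χ => S.coef χ (j : (Q : Subgroup X) →* ℂˣ) *
        S.coef χ (k : (Q : Subgroup X) →* ℂˣ)), B0, S.gram hM hR j.2 k.2]
      simp only [Subtype.ext_iff])
    (fun j => by
      rw [Finset.sum_coe_sort (B0 (X := X) M) (fun χ => (charDegree (χ : X → ℂ) : ℤ) *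
        S.coef χ (j : (Q : Subgroup X) →* ℂˣ))]
      exact S.coef_degree hM j)
  refine ⟨
    { row := fun μ => if h : μ ∈ R then (x ⟨μ, h⟩ : IrrCharacter X) else BrauerPairs.oneIrr X
      c := c, ε := ε, D := D, sign := hε
      row_mem := fun μ hμ => by simp only [hμ, dif_pos]; exact (x ⟨μ, hμ⟩).2
      row_inj := fun μ hμ ν hν h => by
        simp only [hμ, hν, dif_pos] at h
        exact congrArg Subtype.val (hinj (Subtype.ext h))
      deg := fun μ hμ => by simp only [hμ, dif_pos]; exact hdeg ⟨μ, hμ⟩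
      coef_row := fun μ hμ ν hν => by
        simp only [hμ, dif_pos]
        rw [hshape ⟨μ, hμ⟩ ⟨ν, hν⟩]
        simp only [Subtype.mk.injEq]
      coef_const := fun χ hχ hni μ hμ ν hν => hconst ⟨χ, hχ⟩ (fun ⟨j, hj⟩ => hni (Finset.mem_image.2
        ⟨j, j.2, by simp only [j.2, dif_pos, Subtype.coe_eta]; rw [hj]⟩)) ⟨μ, hμ⟩ ⟨ν, hν⟩ }⟩

namespace RowData

/-- The constant rows. -/
noncomputable def const (D : RowData S M R) : Finset (IrrCharacter X) := B0 M \ R.image D.row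

theorem image_subset (D : RowData S M R) : R.image D.row ⊆ B0 M := fun _ h => by
  obtain ⟨μ, hμ, rfl⟩ := Finset.mem_image.1 h
  exact D.row_mem μ hμ

theorem sum_B0 (D : RowData S M R) {A : Type*} [AddCommMonoid A] (F : IrrCharacter X → A) :
    ∑ χ ∈ B0 M, F χ = ∑ χ ∈ D.const, F χ + ∑ μ ∈ R, F (D.row μ) := by
  rw [const, ← Finset.sum_image fun μ hμ ν hν h => D.row_inj μ hμ ν hν h,
    Finset.sum_sdiff D.image_subset]

theorem value_row (D : RowData S M R) (hR : S.Reps R) {μ : (Q : Subgroup X) →* ℂˣ} (hμ : μ ∈ R)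
    {x : (Q : Subgroup X)} (hx : x ≠ 1) :
    (D.row μ : X → ℂ) x = (D.c : ℂ) + (D.ε : ℂ) * S.theta μ x := by
  rw [S.apply_eq_neg_sum hR _ hx, Finset.sum_congr rfl fun ν hν => by rw [D.coef_row μ hμ ν hν]]
  simp only [Int.cast_sub, sub_mul, Finset.sum_sub_distrib, ← Finset.mul_sum, S.theta_sum hR hx,
    apply_ite (Int.cast : ℤ → ℂ), Int.cast_zero, ite_mul, zero_mul, Finset.sum_ite_eq', hμ, if_true]
  ring

theorem value_const (D : RowData S M R) (hR : S.Reps R) {χ : IrrCharacter X} (hχ : χ ∈ D.const)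
    {μ : (Q : Subgroup X) →* ℂˣ} (hμ : μ ∈ R) {x : (Q : Subgroup X)} (hx : x ≠ 1) :
    (χ : X → ℂ) x = (S.coef χ μ : ℂ) := by
  obtain ⟨hB, hni⟩ := Finset.mem_sdiff.1 hχ
  rw [S.apply_eq_neg_sum hR _ hx,
    Finset.sum_congr rfl fun ν hν => by rw [D.coef_const χ hB hni ν hν μ hμ],
    ← Finset.mul_sum, S.theta_sum hR hx]
  ring

theorem sum_coef_row (D : RowData S M R) {μ : (Q : Subgroup X) →* ℂˣ} (hμ : μ ∈ R) :
    ∑ ν ∈ R, S.coef (D.row μ) ν = (R.card : ℤ) * D.c - D.ε := by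
  rw [Finset.sum_congr rfl fun ν hν => D.coef_row μ hμ ν hν, Finset.sum_sub_distrib,
    Finset.sum_const, Finset.sum_ite_eq', if_pos hμ, nsmul_eq_mul]

theorem sum_coef_const (D : RowData S M R) {χ : IrrCharacter X} (hχ : χ ∈ D.const)
    {μ : (Q : Subgroup X) →* ℂˣ} (hμ : μ ∈ R) :
    ∑ ν ∈ R, S.coef χ ν = (R.card : ℤ) * S.coef χ μ := by
  obtain ⟨hB, hni⟩ := Finset.mem_sdiff.1 hχ
  rw [Finset.sum_congr rfl fun ν hν => D.coef_const χ hB hni ν hν μ hμ, Finset.sum_const,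
    nsmul_eq_mul]

/-- The squares of the constant rows. -/
theorem sum_sq (D : RowData S M R) (hM : IsPModular 2 M) (hR : S.Reps R)
    {μ : (Q : Subgroup X) →* ℂˣ} (hμ : μ ∈ R) :
    ∑ χ ∈ D.const, S.coef χ μ ^ 2 + (R.card : ℤ) * D.c ^ 2 - 2 * D.ε * D.c = q := by
  have h := S.gram hM hR hμ hμ
  rw [show Finset.univ.filter (fun χ : IrrCharacter X => χ ∈ principalBlock M X) = B0 M from rfl,
    D.sum_B0, if_pos rfl, Finset.sum_congr rfl (g := fun ν => D.c ^ 2 +
      if ν = μ then D.ε * D.ε - 2 * D.ε * D.c else 0) (s₁ := R) (fun ν hν => by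
        rw [D.coef_row ν hν μ hμ]
        by_cases e : ν = μ
        · rw [if_pos e, if_pos e.symm]; ring
        · rw [if_neg e, if_neg (Ne.symm e)]; ring),
    Finset.sum_add_distrib, Finset.sum_const, Finset.sum_ite_eq', if_pos hμ, nsmul_eq_mul] at h
  have hε : D.ε * D.ε = 1 := by rcases D.sign with h | h <;> rw [h] <;> norm_num
  simp only [sq] at h ⊢
  linarith

theorem one_mem_const (D : RowData S M R) (hM : IsPModular 2 M) (hR : S.Reps R) (h2 : 2 ≤ R.card) :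
    BrauerPairs.oneIrr X ∈ D.const := by
  refine Finset.mem_sdiff.2 ⟨mem_B0.2 (BrauerPairs.oneIrr_mem_principal hM), fun h => ?_⟩
  obtain ⟨μ, hμ, hμe⟩ := Finset.mem_image.1 h
  obtain ⟨ν, hν, hne⟩ := Finset.exists_mem_ne (Finset.one_lt_card_iff_nontrivial.1 h2 |>
    Finset.one_lt_card_iff_nontrivial.2) μ
  have h1 := D.coef_row μ hμ ν hν
  have h2 := D.coef_row μ hμ μ hμ
  rw [hμe, S.coef_one (fun _ => rfl) (hR.ne_one _ hν), if_neg hne] at h1
  rw [hμe, S.coef_one (fun _ => rfl) (hR.ne_one _ hμ), if_pos rfl] at h2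
  rcases D.sign with h | h <;> omega

/-- The exceptional degree is at least `q`. -/
theorem q_le_D (D : RowData S M R) (hR : S.Reps R) (h2 : 2 ≤ R.card)
    {μ : (Q : Subgroup X) →* ℂˣ} (hμ : μ ∈ R) : (q : ℤ) ≤ D.D := by
  have h := S.degree_eq hR (D.row μ)
  rw [D.deg μ hμ, S.card_eq_reps hR] at h
  have e : (D.D : ℤ) = S.mult (D.row μ) 1 + (q : ℤ) * ∑ ν ∈ R, (S.mult (D.row μ) ν : ℤ) := by
    rw [h]
    simp only [Setting.coef, Finset.sum_sub_distrib, Finset.sum_const, nsmul_eq_mul]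
    push_cast
    ring
  obtain ⟨ν, hν, hne⟩ := Finset.exists_mem_ne h2 μ
  have hsum : 1 ≤ ∑ ν ∈ R, (S.mult (D.row μ) ν : ℤ) := by
    by_contra hlt
    have hz : ∀ ν ∈ R, (S.mult (D.row μ) ν : ℤ) = 0 := fun ν hν =>
      (Finset.sum_eq_zero_iff_of_nonneg fun i _ => Int.natCast_nonneg _).1
        (le_antisymm (by omega) (Finset.sum_nonneg fun i _ => Int.natCast_nonneg _)) ν hν
    have h1 := D.coef_row μ hμ ν hν
    have h2 := D.coef_row μ hμ μ hμ
    simp only [Setting.coef, hz ν hν, hz μ hμ, if_neg hne, if_pos] at h1 h2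
    rcases D.sign with h | h <;> omega
  have := Int.natCast_nonneg (S.mult (D.row μ) 1)
  nlinarith [Int.natCast_nonneg q]

end RowData

theorem sum_theta_nontrivial (hR : S.Reps R) {μ : (Q : Subgroup X) →* ℂˣ} (hμ : μ ∈ R) :
    ∑ x ∈ Finset.univ.filter (fun x : (Q : Subgroup X) => x ≠ 1), S.theta μ x = -(q : ℂ) := by
  letI := S.commQ
  have h : ∀ i, ∑ x : (Q : Subgroup X), (μ (S.act i x) : ℂ) = 0 := fun i => by
    rw [Fintype.sum_bijective _ (S.act_bijective i) (fun x => (μ (S.act i x) : ℂ))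
      (fun x => (μ x : ℂ)) (fun _ => rfl), FreeInertial.sum_group, if_neg (hR.ne_one _ hμ)]
  simp only [Setting.theta]
  rw [Finset.sum_comm]
  simp only [Finset.filter_ne', Finset.sum_erase_eq_sub (Finset.mem_univ _), h, map_one,
    Units.val_one, zero_sub, Finset.sum_const, Finset.card_range, nsmul_eq_mul]
  ring

/-- The sum over the singular elements through the coefficients. -/
theorem sum_singular_coef (hM : IsPModular 2 M) (hR : S.Reps R) (χ : IrrCharacter X) :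
    ∑ g ∈ Finset.univ.filter (fun g : X => 2 ∣ orderOf g), (χ : X → ℂ) g =
      if χ ∈ B0 M then (Nat.card X : ℂ) * ((∑ μ ∈ R, S.coef χ μ : ℤ) : ℂ) /
        Nat.card (Q : Subgroup X) else 0 := by
  rw [S.sum_singular_apply hM]
  simp only [mem_B0]
  split_ifs with h
  · rw [Finset.sum_congr rfl fun x hx => S.apply_eq_neg_sum hR χ (Finset.mem_filter.1 hx).2,
      Finset.sum_neg_distrib, Finset.sum_comm]
    simp only [← Finset.mul_sum]
    rw [Finset.sum_congr rfl fun μ hμ => by rw [sum_theta_nontrivial hR hμ], ← Finset.sum_mul]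
    have : (q : ℂ) ≠ 0 := Nat.cast_ne_zero.2 S.pos.ne'
    push_cast
    field_simp
  · rfl

/-- At an involution the orbit sums are rational integers. -/
theorem theta_involution (μ : (Q : Subgroup X) →* ℂˣ) {t : (Q : Subgroup X)} (ht : t * t = 1) :
    ∃ z : ℤ, S.theta μ t = (z : ℂ) := by
  have h : ∀ i, ∃ z : ℤ, ((μ (S.act i t) : ℂˣ) : ℂ) = (z : ℂ) := by
    intro i
    have h1 : ((μ (S.act i t) : ℂˣ) : ℂ) * ((μ (S.act i t) : ℂˣ) : ℂ) = 1 := by
      rw [← Units.val_mul, ← map_mul, ← map_mul, ht, map_one, map_one, Units.val_one]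
    rcases mul_self_eq_one_iff.1 h1 with h | h
    · exact ⟨1, by simpa using h⟩
    · exact ⟨-1, by simpa using h⟩
  choose z hz using h
  exact ⟨∑ i ∈ Finset.range q, z i, by rw [Setting.theta, Finset.sum_congr rfl fun i _ => hz i]; simp⟩

/-- A constant row is smaller than the degree unless the character is trivial on `Q`. -/
theorem RowData.const_lt (D : RowData S M R) (hR : S.Reps R)
    (hperf : ∀ χ : IrrCharacter X, (∀ x ∈ (Q : Subgroup X), (χ : X → ℂ) x = (χ : X → ℂ) 1) →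
      χ = BrauerPairs.oneIrr X)
    {χ : IrrCharacter X} (hχ : χ ∈ D.const) (hne : χ ≠ BrauerPairs.oneIrr X)
    {μ : (Q : Subgroup X) →* ℂˣ} (hμ : μ ∈ R) :
    S.coef χ μ < charDegree (χ : X → ℂ) ∧
      -(S.coef χ μ) * ((Nat.card (Q : Subgroup X) : ℤ) - 1) ≤ charDegree (χ : X → ℂ) := by
  have h := S.degree_eq hR χ
  rw [D.sum_coef_const hχ hμ, S.card_eq_reps hR] at h
  rw [S.card_eq_reps hR]
  push_cast at h ⊢
  have h1 := Int.natCast_nonneg (S.mult χ 1)
  have h2 := Int.natCast_nonneg (S.mult χ μ)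
  have hf : (1 : ℤ) ≤ R.card := Int.ofNat_le.2 (Finset.card_pos.2 ⟨μ, hμ⟩)
  have hq := Int.ofNat_le.2 S.one_lt.le
  simp only [Setting.coef] at h ⊢
  constructor
  · by_contra hle
    push Not at hle
    have hmu : (S.mult χ μ : ℤ) = 0 := by
      have : (q : ℤ) * R.card * S.mult χ μ ≤ -(S.mult χ μ : ℤ) := by nlinarith
      nlinarith [mul_nonneg (mul_nonneg (Int.natCast_nonneg q) (le_trans zero_le_one hf)) h2]
    apply hne
    apply hperf
    intro x hx
    rcases eq_or_ne (⟨x, hx⟩ : (Q : Subgroup X)) 1 with h0 | h0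
    · rw [show x = 1 from congrArg Subtype.val h0]
    · rw [show (χ : X → ℂ) x = _ from D.value_const hR hχ hμ h0, ← Blocks.charDegree_cast]
      norm_cast
      simp only [Setting.coef]
      linear_combination (-1 : ℤ) * h - (1 + (q : ℤ) * R.card) * hmu
  · nlinarith [mul_nonneg h1 (le_trans zero_le_one hf)]

/-- The inequality behind `one_class`. -/
theorem exceptional_bound {f qq u DD : ℝ} (hq : 0 < qq) (hf : 3 ≤ f)
    (hu : 1 ≤ u ^ 2) (hu2 : u ^ 2 ≤ f * qq + 1) (hD : qq ≤ DD) :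
    u * (u ^ 2 - (f * qq + 1)) / (f * DD) ≤ u ^ 2 ∧
      (u ≠ -1 → u * (u ^ 2 - (f * qq + 1)) / (f * DD) < u ^ 2) := by
  have hfD : 0 < f * DD := by nlinarith
  rcases le_total 0 u with hu0 | hu0
  · have h : u * (u ^ 2 - (f * qq + 1)) / (f * DD) ≤ 0 :=
      div_nonpos_of_nonpos_of_nonneg (mul_nonpos_of_nonneg_of_nonpos hu0 (by linarith)) hfD.le
    exact ⟨by linarith, fun _ => by linarith⟩
  · have hu1 : u ≤ -1 := by nlinarith
    have key : u * (u ^ 2 - (f * qq + 1)) / (f * DD) ≤ -u := by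
      rw [div_le_iff₀ hfD]
      nlinarith [mul_nonneg (show (0:ℝ) ≤ -u by linarith) (show 0 ≤ u ^ 2 - 1 by linarith),
        mul_nonneg (show (0:ℝ) ≤ -u by linarith) (show 0 ≤ f * (DD - qq) by nlinarith)]
    refine ⟨key.trans (by nlinarith), fun h => lt_of_le_of_lt key ?_⟩
    have : u < -1 := lt_of_le_of_ne hu1 h
    nlinarith

/-- Conjugate involutions. -/
theorem one_class (S : Setting Q n q) (hM : IsPModular 2 M)
    (hperf : ∀ χ : IrrCharacter X, (∀ x ∈ (Q : Subgroup X), (χ : X → ℂ) x = (χ : X → ℂ) 1) →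
      χ = BrauerPairs.oneIrr X)
    {t₁ t₂ : (Q : Subgroup X)} (h₁ : orderOf (t₁ : X) = 2) (h₂ : orderOf (t₂ : X) = 2) :
    IsConj (t₁ : X) (t₂ : X) := by
  by_contra hnc
  obtain ⟨R, hR⟩ := S.exists_reps
  have hne₁ : t₁ ≠ 1 := fun h => by rw [h] at h₁; simp at h₁
  have hne₂ : t₂ ≠ 1 := fun h => by rw [h] at h₂; simp at h₂
  have hsq : ∀ t : (Q : Subgroup X), orderOf (t : X) = 2 → t * t = 1 := fun t ht =>
    Subtype.ext (by
      have h := pow_orderOf_eq_one (t : X)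
      rw [ht, sq] at h
      exact h)
  have hcard := S.card_eq_reps hR
  -- at least three orbits
  have hR3 : 3 ≤ R.card := by
    have hodd : ¬ 2 ∣ q * R.card := by
      intro h
      obtain ⟨k, hk⟩ := IsPGroup.iff_card.1 Q.isPGroup'
      have hk0 : k ≠ 0 := fun h0 => S.ne_bot (Subgroup.card_eq_one.1 (by rw [hk, h0, pow_zero]))
      have h2 : 2 ∣ Nat.card (Q : Subgroup X) := hk ▸ dvd_pow_self 2 hk0
      omega
    have h1 : R.card ≠ 1 := by
      intro h
      refine hnc ?_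
      have hs : (Finset.univ.filter fun x : (Q : Subgroup X) => IsConj (t₁ : X) (x : X)) =
          Finset.univ.erase 1 := by
        refine Finset.eq_of_subset_of_card_le (fun x hx => Finset.mem_erase.2 ⟨fun e => ?_,
          Finset.mem_univ _⟩) ?_
        · have := (Finset.mem_filter.1 hx).2
          rw [e, Subgroup.coe_one, isConj_one_left] at this
          exact hne₁ (Subtype.ext this)
        · rw [Finset.card_erase_of_mem (Finset.mem_univ _), Finset.card_univ,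
            ← Nat.card_eq_fintype_card, hcard, h, mul_one, Nat.add_sub_cancel, ← Fintype.card_subtype,
            ← Nat.card_eq_fintype_card, S.card_orbit t₁.2 (fun e => hne₁ (Subtype.ext e))]
      have : t₂ ∈ (Finset.univ.filter fun x : (Q : Subgroup X) => IsConj (t₁ : X) (x : X)) := by
        rw [hs]; exact Finset.mem_erase.2 ⟨hne₂, Finset.mem_univ _⟩
      exact (Finset.mem_filter.1 this).2
    have h0 : R.card ≠ 0 := fun h => hodd (by rw [h, mul_zero]; exact dvd_zero 2)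
    have h2 : R.card ≠ 2 := fun h => hodd (by rw [h]; exact dvd_mul_left 2 q)
    omega
  obtain ⟨D⟩ := exists_rowData hM hR hR3
  obtain ⟨μ₀, hμ₀⟩ : R.Nonempty := Finset.card_pos.1 (by omega)
  choose z₁ hz₁ using fun μ => theta_involution (S := S) μ (hsq t₁ h₁)
  choose z₂ hz₂ using fun μ => theta_involution (S := S) μ (hsq t₂ h₂)
  -- all pairs from the two classes have singular products
  set K₁ := (Nat.card {x : X // IsConj (t₁ : X) x} : ℂ)
  set K₂ := (Nat.card {x : X // IsConj (t₂ : X) x} : ℂ)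
  have hpairs : ∑ g ∈ Finset.univ.filter (fun g : X => 2 ∣ orderOf g),
      (Nat.card {p : X × X // IsConj (t₁ : X) p.1 ∧ IsConj (t₂ : X) p.2 ∧ p.1 * p.2 = g} : ℂ) =
      K₁ * K₂ := by
    simp only [K₁, K₂]
    rw [← Nat.cast_mul, ← Nat.cast_sum, Nat.cast_inj, ← Nat.card_prod]
    simp only [Nat.card_eq_fintype_card, Fintype.card_subtype]
    rw [Fintype.card_prod, Fintype.card_subtype, Fintype.card_subtype, ← Finset.card_product]
    rw [Finset.card_eq_sum_card_fiberwise (f := fun p : X × X => p.1 * p.2)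
      (s := Finset.univ.filter (fun x : X => IsConj (t₁ : X) x) ×ˢ
        Finset.univ.filter (fun x : X => IsConj (t₂ : X) x))
      (t := Finset.univ.filter (fun g : X => 2 ∣ orderOf g))]
    · refine Finset.sum_congr rfl fun g _ => congrArg Finset.card ?_
      ext p
      simp only [Finset.mem_filter, Finset.mem_univ, true_and, Finset.mem_product]
      tauto
    · intro p hp
      simp only [Finset.mem_coe, Finset.mem_product, Finset.mem_filter, Finset.mem_univ,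
        true_and] at hp ⊢
      obtain ⟨a, ha⟩ := isConj_iff.1 hp.1
      obtain ⟨b, hb⟩ := isConj_iff.1 hp.2
      have hp1 : orderOf p.1 = 2 := by rw [← ha, Involution.orderOf_conj, h₁]
      have hp2 : orderOf p.2 = 2 := by rw [← hb, Involution.orderOf_conj, h₂]
      exact even_iff_two_dvd.1 (Involution.even_of_not_isConj hp1 hp2
        (fun h => hnc (hp.1.trans (h.trans hp.2.symm))))
  have hX : (Nat.card X : ℂ) ≠ 0 := Nat.cast_ne_zero.2 Nat.card_pos.ne'
  have hQ : (Nat.card (Q : Subgroup X) : ℂ) ≠ 0 := Nat.cast_ne_zero.2 Nat.card_pos.ne'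
  haveI : Nonempty {x : X // IsConj (t₁ : X) x} := ⟨⟨_, IsConj.refl _⟩⟩
  haveI : Nonempty {x : X // IsConj (t₂ : X) x} := ⟨⟨_, IsConj.refl _⟩⟩
  have hK₁ : K₁ ≠ 0 := Nat.cast_ne_zero.2 Nat.card_pos.ne'
  have hK₂ : K₂ ≠ 0 := Nat.cast_ne_zero.2 Nat.card_pos.ne'
  -- the class multiplication formula
  have hsum : ∑ χ ∈ B0 M, ((∑ μ ∈ R, S.coef χ μ : ℤ) : ℂ) *
      ((χ : X → ℂ) t₁ * (χ : X → ℂ) t₂) / (χ : X → ℂ) 1 = Nat.card (Q : Subgroup X) := by
    have h := hpairs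
    rw [Finset.sum_congr rfl fun g _ => Char.class_mult_formula (t₁ : X) (t₂ : X) g,
      ← Finset.mul_sum, Finset.sum_comm] at h
    have e : ∀ χ : IrrCharacter X,
        ∑ g ∈ Finset.univ.filter (fun g : X => 2 ∣ orderOf g),
          (χ : X → ℂ) t₁ * (χ : X → ℂ) t₂ * conj ((χ : X → ℂ) g) / (χ : X → ℂ) 1 =
        if χ ∈ B0 M then (Nat.card X : ℂ) / Nat.card (Q : Subgroup X) *
          (((∑ μ ∈ R, S.coef χ μ : ℤ) : ℂ) * ((χ : X → ℂ) t₁ * (χ : X → ℂ) t₂) / (χ : X → ℂ) 1)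
        else 0 := by
      intro χ
      rw [← Finset.sum_div, ← Finset.mul_sum, ← map_sum, sum_singular_coef hM hR]
      split_ifs with hχ
      · rw [map_div₀, map_mul, Complex.conj_natCast, Complex.conj_natCast, map_intCast]
        field_simp
      · simp
    rw [Finset.sum_congr rfl fun χ _ => e χ, ← Finset.sum_filter,
      show Finset.univ.filter (fun χ : IrrCharacter X => χ ∈ B0 M) = B0 M by ext; simp,
      ← Finset.mul_sum] at h
    change K₁ * K₂ / _ * _ = _ at h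
    field_simp at h
    rw [← h]
    exact Finset.sum_congr rfl fun χ _ => by ring
  have hval : ∀ μ ∈ R, (D.row μ : X → ℂ) t₁ = ((D.c + D.ε * z₁ μ : ℤ) : ℂ) ∧
      (D.row μ : X → ℂ) t₂ = ((D.c + D.ε * z₂ μ : ℤ) : ℂ) := fun μ hμ =>
    ⟨by rw [D.value_row hR hμ hne₁, hz₁]; push_cast; rfl,
      by rw [D.value_row hR hμ hne₂, hz₂]; push_cast; rfl⟩
  have hsum' : ∑ χ ∈ D.const, (R.card : ℝ) * (S.coef χ μ₀ : ℝ) ^ 3 / (charDegree (χ : X → ℂ) : ℝ) +
      ((R.card : ℝ) * D.c - D.ε) * (∑ μ ∈ R, ((D.c + D.ε * z₁ μ : ℤ) : ℝ) *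
        ((D.c + D.ε * z₂ μ : ℤ) : ℝ)) / (D.D : ℝ) = Nat.card (Q : Subgroup X) := by
    apply Complex.ofReal_injective
    push_cast
    rw [← hsum, D.sum_B0, Finset.mul_sum, Finset.sum_div]
    congr 1
    · refine Finset.sum_congr rfl fun χ hχ => ?_
      rw [D.value_const hR hχ hμ₀ hne₁, D.value_const hR hχ hμ₀ hne₂,
        D.sum_coef_const hχ hμ₀, Blocks.charDegree_cast]
      push_cast
      ring
    · refine Finset.sum_congr rfl fun μ hμ => ?_
      rw [(hval μ hμ).1, (hval μ hμ).2, D.sum_coef_row hμ, ← Blocks.charDegree_cast]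
      rw [show ((charDegree (D.row μ : X → ℂ) : ℕ) : ℂ) = (D.D : ℂ) by exact_mod_cast D.deg μ hμ]
      push_cast
      ring
  have hzs : ∑ μ ∈ R, z₁ μ = -1 ∧ ∑ μ ∈ R, z₂ μ = -1 ∧ ∑ μ ∈ R, z₁ μ * z₂ μ = -(q : ℤ) := by
    refine ⟨Int.cast_injective (α := ℂ) ?_, Int.cast_injective (α := ℂ) ?_,
      Int.cast_injective (α := ℂ) ?_⟩ <;> push_cast
    · simp only [← hz₁]; exact S.theta_sum hR hne₁
    · simp only [← hz₂]; exact S.theta_sum hR hne₂
    · simp only [← hz₁, ← hz₂]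
      refine S.theta_mul_sum hR fun i h => hnc ?_
      have h' : t₁ = S.act i t₂ := by
        rw [mul_eq_one_iff_eq_inv.1 h]
        refine inv_eq_of_mul_eq_one_right ?_
        rw [← map_mul, hsq t₂ h₂, map_one]
      exact (isConj_iff.2 ⟨n ^ i, by rw [h']; rfl⟩ : IsConj (t₂ : X) (t₁ : X)).symm
  set f : ℝ := (R.card : ℝ) with hf
  have hf3 : (3 : ℝ) ≤ f := by rw [hf]; exact_mod_cast hR3
  set u : ℝ := f * D.c - D.ε with hu
  have hε2 : (D.ε : ℝ) ^ 2 = 1 := by rcases D.sign with h | h <;> rw [h] <;> norm_num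
  have hexc : ∑ μ ∈ R, ((D.c + D.ε * z₁ μ : ℤ) : ℝ) * ((D.c + D.ε * z₂ μ : ℤ) : ℝ) =
      f * (D.c : ℝ) ^ 2 - 2 * D.ε * D.c - q := by
    have e1 : ((∑ μ ∈ R, z₁ μ : ℤ) : ℝ) = -1 := by rw [hzs.1]; norm_num
    have e2 : ((∑ μ ∈ R, z₂ μ : ℤ) : ℝ) = -1 := by rw [hzs.2.1]; norm_num
    have e3 : ((∑ μ ∈ R, z₁ μ * z₂ μ : ℤ) : ℝ) = -(q : ℝ) := by rw [hzs.2.2]; norm_num
    push_cast at e1 e2 e3 ⊢
    simp only [mul_add, add_mul, Finset.sum_add_distrib, Finset.sum_const, nsmul_eq_mul]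
    simp only [mul_assoc, mul_left_comm ((z₁ _ : ℤ) : ℝ) (D.ε : ℝ)]
    simp only [← Finset.mul_sum, ← Finset.sum_mul, e1, e2, e3]
    linear_combination (-(q : ℝ)) * hε2
  have hC : ∑ χ ∈ D.const, (S.coef χ μ₀ : ℝ) ^ 2 + f * (D.c : ℝ) ^ 2 - 2 * D.ε * D.c = q := by
    have := D.sum_sq hM hR hμ₀
    rw [hf]
    exact_mod_cast congrArg (Int.cast : ℤ → ℝ) this
  have hu1 : 1 ≤ u ^ 2 := by
    have hz : (R.card : ℤ) * D.c - D.ε ≠ 0 := by
      intro h
      have h1 : (R.card : ℤ) * D.c = D.ε := by omega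
      have h2 := congrArg Int.natAbs h1
      rw [Int.natAbs_mul, Int.natAbs_natCast,
        show D.ε.natAbs = 1 by rcases D.sign with he | he <;> rw [he] <;> rfl] at h2
      have := Nat.eq_one_of_mul_eq_one_right h2
      omega
    have h1 : (1 : ℤ) ≤ ((R.card : ℤ) * D.c - D.ε) ^ 2 := Int.add_one_le_of_lt (sq_pos_of_ne_zero hz)
    rw [hu, hf]
    exact_mod_cast h1
  have hnorm : f * ∑ χ ∈ D.const, (S.coef χ μ₀ : ℝ) ^ 2 + u ^ 2 = f * q + 1 := by
    rw [hu]; linear_combination f * hC + hε2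
  have hu2 : u ^ 2 ≤ f * q + 1 := by
    nlinarith [Finset.sum_nonneg (s := D.const) fun χ _ => sq_nonneg (S.coef χ μ₀ : ℝ)]
  have hDq : (q : ℝ) ≤ (D.D : ℝ) := by exact_mod_cast D.q_le_D hR (by omega) hμ₀
  have hq0 : (0 : ℝ) < q := Nat.cast_pos.2 S.pos
  obtain ⟨hb1, hb2⟩ := exceptional_bound hq0 hf3 hu1 hu2 hDq
  have hone := D.one_mem_const hM hR (by omega)
  have hterm : ∀ χ ∈ D.const, f * (S.coef χ μ₀ : ℝ) ^ 3 / (charDegree (χ : X → ℂ) : ℝ) ≤
      f * (S.coef χ μ₀ : ℝ) ^ 2 ∧ (χ ≠ BrauerPairs.oneIrr X → S.coef χ μ₀ ≠ 0 →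
        f * (S.coef χ μ₀ : ℝ) ^ 3 / (charDegree (χ : X → ℂ) : ℝ) < f * (S.coef χ μ₀ : ℝ) ^ 2) := by
    intro χ hχ
    have hd : (0 : ℝ) < (charDegree (χ : X → ℂ) : ℝ) := Nat.cast_pos.2 (Blocks.charDegree_pos _)
    rcases eq_or_ne χ (BrauerPairs.oneIrr X) with rfl | hne
    · refine ⟨?_, fun h => absurd rfl h⟩
      rw [S.coef_one (fun _ => rfl) (hR.ne_one _ hμ₀)]
      rw [div_le_iff₀ hd]
      have : (1 : ℝ) ≤ (charDegree ((BrauerPairs.oneIrr X : IrrCharacter X) : X → ℂ) : ℝ) :=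
        Nat.one_le_cast.2 (Blocks.charDegree_pos _)
      push_cast
      nlinarith
    · have hlt : (S.coef χ μ₀ : ℝ) < (charDegree (χ : X → ℂ) : ℝ) := by
        exact_mod_cast (D.const_lt hR hperf hχ hne hμ₀).1
      refine ⟨?_, fun _ h0 => ?_⟩
      · rw [div_le_iff₀ hd]
        nlinarith [mul_nonneg (mul_nonneg (by linarith : (0:ℝ) ≤ f) (sq_nonneg (S.coef χ μ₀ : ℝ)))
          (sub_nonneg.2 hlt.le)]
      · rw [div_lt_iff₀ hd]
        have h2 : (0 : ℝ) < (S.coef χ μ₀ : ℝ) ^ 2 := sq_pos_of_ne_zero (by exact_mod_cast h0)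
        nlinarith [mul_pos (mul_pos (by linarith : (0:ℝ) < f) h2) (sub_pos.2 hlt)]
  have hlhs : ∑ χ ∈ D.const, f * (S.coef χ μ₀ : ℝ) ^ 3 / (charDegree (χ : X → ℂ) : ℝ) +
      u * (u ^ 2 - (f * q + 1)) / (f * D.D) = f * q + 1 := by
    have e : (Nat.card (Q : Subgroup X) : ℝ) = f * q + 1 := by rw [hcard, hf]; push_cast; ring
    have h := hsum'
    rw [hexc, e] at h
    refine Eq.trans ?_ h
    congr 1
    rw [show u ^ 2 - (f * q + 1) = f * (f * (D.c : ℝ) ^ 2 - 2 * D.ε * D.c - q) by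
      rw [hu]; linear_combination hε2]
    rw [mul_left_comm u f, mul_div_mul_left _ _ (by linarith : f ≠ 0)]
  rw [Finset.mul_sum] at hnorm
  by_cases hex : ∃ χ ∈ D.const, χ ≠ BrauerPairs.oneIrr X ∧ S.coef χ μ₀ ≠ 0
  · obtain ⟨χ, hχ, hne, h0⟩ := hex
    have := Finset.sum_lt_sum (fun ψ hψ => (hterm ψ hψ).1) ⟨χ, hχ, (hterm χ hχ).2 hne h0⟩
    linarith
  · push Not at hex
    have hone2 : ∑ χ ∈ D.const, f * (S.coef χ μ₀ : ℝ) ^ 2 = f := by
      rw [Finset.sum_eq_single _ (fun χ hχ hne => by rw [hex χ hχ hne]; simp) (fun h => absurd hone h),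
        S.coef_one (fun _ => rfl) (hR.ne_one _ hμ₀)]
      simp
    have hu9 : u ≠ -1 := by
      intro h
      rw [hone2, h] at hnorm
      have : (2 : ℝ) < q := by exact_mod_cast S.two_lt
      nlinarith
    have := Finset.sum_le_sum (fun ψ hψ => (hterm ψ hψ).1)
    linarith [hb2 hu9]

end Cfsg.Agent.PrimeInertial
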