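import Cfsg.Agent.Lib.PrimeInertial.Elementary
import Cfsg.Agent.Lib.Blocks.FreeInertial.Main
import Cfsg.Agent.Lib.BrauerPairs.Integral
import Cfsg.Agent.Lib.BrauerPairs.PrincipalFusion
import Cfsg.Agent.Lib.SylowLift.Solvable
import Cfsg.Agent.Lib.BlocksNormal.Deflate
import Cfsg.Agent.Lib.SecondMain.Principal

/-!
# The group with `O(X) = 1` and fixed-point-free inertial quotient

* `Setting.rank_ge_of_solvable`: `q` linear characters in the principal block;
* `Setting.reduced`: the block invariants.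
-/

set_option autoImplicit false

open scoped Classical

namespace Cfsg.Agent.PrimeInertial

open Subgroup Cfsg Cfsg.Agent

universe u

variable {X : Type u} [Group X] [Finite X] {Q : Sylow 2 X} {n : X} {q : ℕ}

/-- The inertial index. -/
theorem Setting.relIndex_eq (S : Setting Q n q) :
    (centralizer ((Q : Subgroup X) : Set X)).relIndex (normalizer ((Q : Subgroup X) : Set X)) = q := by
  set C := centralizer ((Q : Subgroup X) : Set X)
  set N := normalizer ((Q : Subgroup X) : Set X)
  let f : Fin q → N ⧸ C.subgroupOf N := fun i =>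
    QuotientGroup.mk ⟨n ^ (i : ℕ), _root_.pow_mem S.mem_norm i⟩
  have hf : Function.Bijective f := by
    obtain ⟨a, ha, ha1⟩ : ∃ a ∈ (Q : Subgroup X), a ≠ 1 := by
      obtain ⟨a, ha, ha1⟩ := (Subgroup.bot_or_exists_ne_one _).resolve_left S.ne_bot
      exact ⟨a, ha, ha1⟩
    refine ⟨fun i j h => Fin.ext (S.conj_inj ha ha1 i.2 j.2 ?_), fun y => ?_⟩
    · have h' := QuotientGroup.eq.1 h
      have h'' : (n ^ (i : ℕ))⁻¹ * n ^ (j : ℕ) ∈ C := h'
      have hc := (mem_centralizer_iff.1 h'' a ha).symm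
      calc n ^ (i : ℕ) * a * (n ^ (i : ℕ))⁻¹
          = n ^ (i : ℕ) * ((n ^ (i : ℕ))⁻¹ * n ^ (j : ℕ) * a *
              ((n ^ (i : ℕ))⁻¹ * n ^ (j : ℕ))⁻¹) * (n ^ (i : ℕ))⁻¹ := by
            rw [hc, mul_inv_cancel_right]
        _ = n ^ (j : ℕ) * a * (n ^ (j : ℕ))⁻¹ := by group
    · obtain ⟨g, rfl⟩ := QuotientGroup.mk_surjective y
      obtain ⟨i, hi, hic⟩ := S.gen g g.2
      exact ⟨⟨i, hi⟩, QuotientGroup.eq.2 hic⟩
  rw [Subgroup.relIndex, Subgroup.index_eq_card, ← Nat.card_congr (Equiv.ofBijective f hf),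
    Nat.card_fin]

/-- In the solvable case the linear characters give `q` independent ones. -/
theorem Setting.rank_ge_of_solvable (S : Setting Q n q) {M : Ideal AlgInt} (hM : IsPModular 2 M)
    (hO : Cfsg.pPrimeCore 2 X = ⊥) (hsol : Group.IsSolvable X) :
    q ≤ blockRank 2 (principalBlock M X) := by
  haveI : Fact (Nat.Prime 2) := ⟨Nat.prime_two⟩
  haveI := hsol
  haveI := Fintype.ofFinite X
  have hle : Cfsg.pCore 2 X ≤ (Q : Subgroup X) := by
    refine Cfsg.Agent.Cores.pCore_le_sylow Q
  have hC := SylowLift.centralizer_pCore_le_of_solvable hO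
  have heq : (Q : Subgroup X) = Cfsg.pCore 2 X := le_antisymm (fun x hx =>
    hC (mem_centralizer_iff.2 fun y hy => S.comm y (hle hy) x hx)) hle
  haveI hn : (Q : Subgroup X).Normal := heq ▸ Cores.pCore_normal 2 X
  have hCQ : centralizer ((Q : Subgroup X) : Set X) ≤ (Q : Subgroup X) := by rw [heq]; exact hC
  set π := QuotientGroup.mk' (Q : Subgroup X)
  have hcard : Nat.card (X ⧸ (Q : Subgroup X)) = q := by
    rw [← Subgroup.index_eq_card, ← S.relIndex_eq,
      Subgroup.normalizer_eq_top_iff.2 hn, Subgroup.relIndex_top_right,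
      le_antisymm hCQ (fun x hx => mem_centralizer_iff.2 fun y hy => S.comm y hy x hx)]
  haveI : IsCyclic (X ⧸ (Q : Subgroup X)) := by
    refine ⟨⟨π n, fun y => ?_⟩⟩
    obtain ⟨g, rfl⟩ := QuotientGroup.mk_surjective y
    obtain ⟨i, -, hic⟩ := S.gen g (by rw [Subgroup.normalizer_eq_top_iff.2 hn]; exact mem_top g)
    refine ⟨(i : ℤ), ?_⟩
    show π n ^ (i : ℤ) = π g
    rw [zpow_natCast, ← map_pow]
    exact QuotientGroup.eq.2 (hCQ hic)
  letI : CommGroup (X ⧸ (Q : Subgroup X)) := IsCyclic.commGroup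
  haveI : NeZero (Monoid.exponent (X ⧸ (Q : Subgroup X))) :=
    ⟨Monoid.exponent_ne_zero_of_finite⟩
  have hdual : Nat.card ((X ⧸ (Q : Subgroup X)) →* ℂˣ) = q := by
    obtain ⟨e⟩ := CommGroup.monoidHom_mulEquiv_of_hasEnoughRootsOfUnity (X ⧸ (Q : Subgroup X)) ℂ
    rw [Nat.card_congr e.toEquiv, hcard]
  let lin : ((X ⧸ (Q : Subgroup X)) →* ℂˣ) → IrrCharacter X := fun ν =>
    ⟨fun g => (ν (π g) : ℂ), Char.isIrrCharacter_of_hom ((Units.coeHom ℂ).comp (ν.comp π))⟩
  -- they lie in the principal block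
  have hmem : ∀ ν, lin ν ∈ principalBlock M X := by
    intro ν g
    simp only [centralChar, lin, map_one, Units.val_one, div_one, mul_one]
    by_cases hg : g ∈ (Q : Subgroup X)
    · rw [show π g = 1 from (QuotientGroup.eq_one_iff g).2 hg, map_one, Units.val_one, mul_one,
        sub_self]
      exact Blocks.memI_zero hM
    have heven : 2 ∣ (centralizer ({g} : Set X)).index := by
      have hodd : ¬ 2 ∣ Nat.card (centralizer ({g} : Set X)) := by
        intro h
        obtain ⟨⟨t, ht⟩, htt⟩ :=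
          exists_prime_orderOf_dvd_card' (G := centralizer ({g} : Set X)) 2 h
        rw [Subgroup.orderOf_mk] at htt
        obtain ⟨y, hy⟩ := FrobSection.exists_rep Q t
        rw [FrobSection.pp_eq_self ⟨1, by rw [htt]; rfl⟩] at hy
        obtain ⟨c, hc⟩ := isConj_iff.1 hy.symm
        have htQ : t ∈ (Q : Subgroup X) := hc ▸ hn.conj_mem _ y.2 c
        have ht1 : t ≠ 1 := fun h => by rw [h, orderOf_one] at htt; omega
        obtain ⟨i, hi, hic⟩ := S.gen g (by rw [Subgroup.normalizer_eq_top_iff.2 hn]; exact mem_top g)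
        have hfix : n ^ i * t * (n ^ i)⁻¹ = t := by
          have h1 := (mem_centralizer_iff.1 hic t htQ).symm
          have h2 : g * t * g⁻¹ = t :=
            mul_inv_eq_iff_eq_mul.2 (mem_centralizer_singleton_iff.1 ht).symm
          calc n ^ i * t * (n ^ i)⁻¹
              = n ^ i * ((n ^ i)⁻¹ * g * t * ((n ^ i)⁻¹ * g)⁻¹) * (n ^ i)⁻¹ := by
                rw [h1, mul_inv_cancel_right]
            _ = g * t * g⁻¹ := by group
            _ = t := h2
        have := Nat.eq_zero_of_dvd_of_lt (S.free htQ ht1 hfix) hi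
        subst this
        rw [pow_zero, inv_one, one_mul] at hic
        exact hg (hCQ hic)
      have h2X : 2 ∣ Nat.card X := by
        obtain ⟨k, hk⟩ := IsPGroup.iff_card.1 Q.isPGroup'
        have hk0 : k ≠ 0 := fun h0 => S.ne_bot (Subgroup.card_eq_one.1 (by rw [hk, h0, pow_zero]))
        exact (hk ▸ dvd_pow_self 2 hk0).trans (Subgroup.card_subgroup_dvd_card _)
      rw [← Subgroup.card_mul_index (centralizer ({g} : Set X))] at h2X
      exact (Nat.prime_two.dvd_mul.1 h2X).resolve_left hodd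
    rw [show ((centralizer ({g} : Set X)).index : ℂ) -
        ((centralizer ({g} : Set X)).index : ℂ) * (ν (π g) : ℂ) =
      ((centralizer ({g} : Set X)).index : ℂ) * (1 - (ν (π g) : ℂ)) by ring]
    exact Blocks.memI_mul_right hM ((Blocks.memI_natCast hM).2 heven) (Blocks.memR_sub hM
      (Blocks.memR_one hM) (Blocks.memR_of_isIntegral hM
        (Char.IsCharacter.isIntegral (Char.IsIrrCharacter.isCharacter (lin ν).2) g)))
  -- independence on the regular elements
  haveI := Fintype.ofFinite ((X ⧸ (Q : Subgroup X)) →* ℂˣ)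
  have hli : LinearIndependent ℂ fun ν : (X ⧸ (Q : Subgroup X)) →* ℂˣ =>
      pRegularPart 2 (lin ν : X → ℂ) := by
    refine Fintype.linearIndependent_iff.2 fun c hc => ?_
    have h0 : ∑ ν, c ν • (fun y => ((ν y : ℂˣ) : ℂ)) = 0 := by
      funext y
      obtain ⟨g, rfl⟩ := QuotientGroup.mk_surjective y
      obtain ⟨z, he, -, ⟨k, hk⟩, hz⟩ := FrobSection.isPPart_pp (p := 2) g
      have hu : π (FrobSection.pp 2 g) = 1 := by
        rw [← orderOf_eq_one_iff]
        refine Nat.eq_one_of_dvd_coprimes (a := 2 ^ k) (b := q) ?_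
          (hk ▸ orderOf_map_dvd π _) (hcard ▸ _root_.orderOf_dvd_natCard _)
        exact (Nat.coprime_two_left.2 S.odd).pow_left k
      have hgz : ((g : X) : X ⧸ (Q : Subgroup X)) = π z := by
        show π g = π z
        rw [← he, map_mul, hu, one_mul]
      have h := congrFun hc z
      simp only [Finset.sum_apply, Pi.smul_apply, smul_eq_mul, Pi.zero_apply,
        SecondMain.pRegularPart_of_regular hz] at h ⊢
      rw [← h, hgz]
    have hinj : Function.Injective fun ν : (X ⧸ (Q : Subgroup X)) →* ℂˣ =>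
        (Units.coeHom ℂ).comp ν := fun a b h =>
      MonoidHom.ext fun y => Units.ext (DFunLike.congr_fun h y)
    exact Fintype.linearIndependent_iff.1
      ((linearIndependent_monoidHom (X ⧸ (Q : Subgroup X)) ℂ).comp _ hinj) c h0
  have hle' : Submodule.span ℂ (Set.range fun ν : (X ⧸ (Q : Subgroup X)) →* ℂˣ =>
      pRegularPart 2 (lin ν : X → ℂ)) ≤
      Submodule.span ℂ ((fun χ : IrrCharacter X => pRegularPart 2 (χ : X → ℂ)) '' principalBlock M X) :=
    Submodule.span_mono (Set.range_subset_iff.2 fun ν => ⟨lin ν, hmem ν, rfl⟩)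
  have h := (finrank_span_eq_card hli).symm.trans_le (Submodule.finrank_mono hle')
  rw [← Nat.card_eq_fintype_card, hdual] at h
  exact h

/-- The block invariants of `X`. -/
theorem Setting.reduced (S : Setting Q n q) {M : Ideal AlgInt} (hM : IsPModular 2 M)
    (hO : Cfsg.pPrimeCore 2 X = ⊥)
    (hcase : q.Prime ∨ ((∀ x ∈ (Q : Subgroup X), x * x = 1) ∧ Nat.card (Q : Subgroup X) = q + 1)) :
    blockRank 2 (principalBlock M X) = q := by
  haveI : Fact (Nat.Prime 2) := ⟨Nat.prime_two⟩
  haveI := Fintype.ofFinite X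
  haveI := Fintype.ofFinite (IrrCharacter X)
  haveI : Finite ((Q : Subgroup X) →* ℂˣ) := by letI := S.commQ; infer_instance
  haveI := Fintype.ofFinite ((Q : Subgroup X) →* ℂˣ)
  have hint := BrauerPairs.integralPrincipal hM
  have hmax := BrauerPairs.isMaximalBrauerPair_principal hM hint Q
  have hstab : BrauerPairs.pairStab M (Q : Subgroup X)
      (principalBlock M (centralizer ((Q : Subgroup X) : Set X))) =
      normalizer ((Q : Subgroup X) : Set X) := by
    ext y
    rw [BrauerPairs.mem_pairStab_iff hM hmax.1.1.2]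
    exact ⟨fun h => h.1, fun h => ⟨h, BrauerPairs.stabilizes_principal _
      (BrauerPairs.mem_normalizer_centralizer h)⟩⟩
  have hfree : FreeInertial.Free M (Q : Subgroup X)
      (principalBlock M (centralizer ((Q : Subgroup X) : Set X))) := by
    intro t ht x hx hx1 htx
    rw [hstab] at ht
    obtain ⟨i, hi, hic⟩ := S.gen t ht
    have h1 := (mem_centralizer_iff.1 hic x hx).symm
    have hfix : n ^ i * x * (n ^ i)⁻¹ = x := by
      calc n ^ i * x * (n ^ i)⁻¹
          = n ^ i * ((n ^ i)⁻¹ * t * x * ((n ^ i)⁻¹ * t)⁻¹) * (n ^ i)⁻¹ := by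
            rw [h1, mul_inv_cancel_right]
        _ = t * x * t⁻¹ := by group
        _ = x := htx
    have := Nat.eq_zero_of_dvd_of_lt (S.free hx hx1 hfix) hi
    subst this
    simpa using hic
  obtain ⟨⟨hk, hl, hiff⟩, hsmall⟩ := FreeInertial.counts hM hmax
    S.comm hfree S.ne_bot (e := q) (by rw [hstab]; exact S.relIndex_eq)
  obtain ⟨k, hk2⟩ := IsPGroup.iff_card.1 Q.isPGroup'
  rcases le_or_gt q 3 with hq3 | hq3
  · have hl' : blockRank 2 (principalBlock M X) = q := by
      refine (hsmall hq3).resolve_right fun h => ?_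
      have h2 : ¬ 2 ∣ 2 ^ k := by
        rcases h with h | h <;> rw [← hk2, h] <;> norm_num
      exact h2 (dvd_pow_self 2 fun h0 => by rcases h with h | h <;> rw [hk2, h0] at h <;> norm_num at h)
    exact hl'
  by_cases hsol : Group.IsSolvable X
  · exact le_antisymm hl (S.rank_ge_of_solvable hM hO hsol)
  obtain ⟨hsq, hcard⟩ : (∀ x ∈ (Q : Subgroup X), x * x = 1) ∧ Nat.card (Q : Subgroup X) = q + 1 :=
    hcase.elim (fun hp => (S.elementary hp hM hO hsol).2) id
  have h8 : 8 ≤ Nat.card (Q : Subgroup X) := by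
    have hk3 : 3 ≤ k := by
      by_contra hlt
      have : 2 ^ k ≤ 2 ^ 2 := Nat.pow_le_pow_right two_pos (by omega)
      omega
    rw [hk2]; exact le_trans (by norm_num) (Nat.pow_le_pow_right two_pos hk3)
  have E : Elem Q n q := ⟨S, hsq, hcard, h8, hO, hsol⟩
  have hlow := E.succ_le_card hM
  have hB : Nat.card (principalBlock M X) = (B0 (X := X) M).card := by
    rw [B0, Nat.card_eq_fintype_card, Fintype.card_subtype]
  have hkeq : Nat.card (principalBlock M X) = q + (Nat.card (Q : Subgroup X) - 1) / q := by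
    refine le_antisymm hk ?_
    rw [hB, hcard, Nat.add_sub_cancel, Nat.div_self S.pos]
    exact hlow
  exact hiff.1 hkeq

end Cfsg.Agent.PrimeInertial
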