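import Cfsg.Agent.Lib.PrimeInertial.Main

/-!
# An involution with nilpotent centraliser block

* `reg_of_complement`: `N(P) ∩ C(x) = C(P)` when `C(x)` has a normal 2-complement;
* `card_of_trivial`: `k = |P|` for `N(P) = C(P)`;
* `exists_generator_fifteen`, `card_of_regular`: a regular inertial quotient of order fifteen.
-/

set_option autoImplicit false

open scoped Classical

namespace Cfsg.Agent.PrimeInertial

open Subgroup Cfsg Cfsg.Agent

universe u

variable {G : Type u} [Group G] [Finite G] {P : Sylow 2 G}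

theorem reg_of_complement (hcomm : ∀ x ∈ (P : Subgroup G), ∀ y ∈ (P : Subgroup G), x * y = y * x)
    {x : G} (hx : x ∈ (P : Subgroup G))
    (hcomp : HasNormalPComplement 2 (centralizer ({x} : Set G)))
    {g : G} (hg : g ∈ normalizer ((P : Subgroup G) : Set G)) (hgx : g * x * g⁻¹ = x) :
    g ∈ centralizer ((P : Subgroup G) : Set G) := by
  haveI : Fact (Nat.Prime 2) := ⟨Nat.prime_two⟩
  set C := centralizer ({x} : Set G)
  have hPC : (P : Subgroup G) ≤ C := fun a ha =>
    mem_centralizer_singleton_iff.2 (hcomm a ha x hx)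
  set O := pPrimeCore 2 C
  haveI : O.Normal := Cores.pPrimeCore_normal 2 C
  set P' := (P.subtype hPC : Sylow 2 C)
  have hcop : (Nat.card O).Coprime (Nat.card (P' : Subgroup C)) := by
    obtain ⟨k, hk⟩ := IsPGroup.iff_card.1 P'.isPGroup'
    rw [hk]
    exact ((Nat.prime_two.coprime_iff_not_dvd).2 Cores.not_dvd_card_pPrimeCore).symm.pow_right k
  have hPn : (P' : Subgroup C) ≤ normalizer (O : Set C) := fun a _ => by
    rw [normalizer_eq_top_iff.2 (inferInstance : O.Normal)]; exact mem_top a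
  have htop : O ⊔ (P' : Subgroup C) = ⊤ := Subgroup.eq_top_of_card_eq _ (by
    rw [Coprime.card_sup_of_coprime hPn hcop, card_of_complement hcomp P'])
  refine mem_centralizer_iff.2 fun a ha => ?_
  set g' : C := ⟨g, mem_centralizer_singleton_iff.2 (mul_inv_eq_iff_eq_mul.1 hgx)⟩
  set a' : C := ⟨a, hPC ha⟩
  have hca : g' * a' * g'⁻¹ * a'⁻¹ ∈ O := by
    obtain ⟨o, ho, b, hb, hbo⟩ := (Coprime.mem_sup_iff hPn).1 (htop ▸ mem_top g' : g' ∈ O ⊔ (P' : Subgroup C))
    have hba : b * a' = a' * b := Subtype.ext (hcomm _ hb _ ha)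
    rw [← hbo, show o * b * a' * (o * b)⁻¹ * a'⁻¹ = o * (b * a' * b⁻¹) * o⁻¹ * a'⁻¹ by group,
      hba, mul_inv_cancel_right, show o * a' * o⁻¹ * a'⁻¹ = o * (a' * o⁻¹ * a'⁻¹) by group]
    exact mul_mem ho ((inferInstance : O.Normal).conj_mem _ (inv_mem ho) _)
  have hcP : g' * a' * g'⁻¹ * a'⁻¹ ∈ (P' : Subgroup C) :=
    mul_mem ((mem_normalizer_iff.1 hg a).1 ha : g * a * g⁻¹ ∈ (P : Subgroup G))
      ((P' : Subgroup C).inv_mem (show a' ∈ (P' : Subgroup C) from ha))
  have h1 := congrArg Subtype.val (Coprime.eq_one_of_mem_of_mem hcop hca hcP)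
  exact (mul_inv_eq_iff_eq_mul.1 (mul_inv_eq_one.1 h1)).symm

/-- `C(P)` is normal in `N(P)`. -/
theorem centralizer_subgroupOf_normal (P : Sylow 2 G) :
    ((centralizer ((P : Subgroup G) : Set G)).subgroupOf
      (normalizer ((P : Subgroup G) : Set G))).Normal := by
  refine ⟨fun c hc g => mem_centralizer_iff.2 fun x hx => ?_⟩
  have hx' : (g : G)⁻¹ * x * g ∈ (P : Subgroup G) := (mem_normalizer_iff''.1 g.2 x).1 hx
  have h := mem_centralizer_iff.1 (show (c : G) ∈ centralizer ((P : Subgroup G) : Set G) from hc) _ hx'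
  show x * ((g : G) * c * (g : G)⁻¹) = (g : G) * c * (g : G)⁻¹ * x
  calc x * ((g : G) * c * (g : G)⁻¹) = g * ((g : G)⁻¹ * x * g * c) * (g : G)⁻¹ := by group
    _ = g * (c * ((g : G)⁻¹ * x * g)) * (g : G)⁻¹ := by rw [h]
    _ = _ := by group

/-- Nilpotent principal block. -/
theorem card_of_trivial {M : Ideal AlgInt} (hM : IsPModular 2 M)
    (hcomm : ∀ x ∈ (P : Subgroup G), ∀ y ∈ (P : Subgroup G), x * y = y * x)
    (hNC : normalizer ((P : Subgroup G) : Set G) ≤ centralizer ((P : Subgroup G) : Set G)) :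
    Nat.card (principalBlock M G) = Nat.card P := by
  haveI : Fact (Nat.Prime 2) := ⟨Nat.prime_two⟩
  haveI := Fintype.ofFinite G
  haveI := Fintype.ofFinite (P : Subgroup G)
  have hmax := BrauerPairs.isMaximalBrauerPair_principal hM (BrauerPairs.integralPrincipal hM) P
  have hstab := pairStab_eq hM P
  set e := principalBlock M (centralizer ((P : Subgroup G) : Set G))
  have hsum := Watanabe.card_eq_sum hM hmax hcomm
  have hterm : ∀ v ∈ (Finset.univ : Finset (P : Subgroup G)),
      Watanabe.wt M (P : Subgroup G) e v *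
        (LocalRank.lrank 2 M (P : Subgroup G) e (zpowers (v : G)) : ℂ) = 1 := by
    intro v _
    have hfix : ∀ t ∈ normalizer ((P : Subgroup G) : Set G), t * (v : G) * t⁻¹ = v := fun t ht =>
      mul_inv_eq_iff_eq_mul.2 (mem_centralizer_iff.1 (hNC ht) (v : G) v.2).symm
    have horb : Watanabe.orb M (P : Subgroup G) e v = {v} := by
      refine Finset.eq_singleton_iff_unique_mem.2 ⟨Watanabe.self_mem_orb v, fun w hw => ?_⟩
      obtain ⟨t, ht, hwt⟩ := Watanabe.mem_orb.1 hw
      exact Subtype.ext (hwt.trans (hfix t (hstab ▸ ht)))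
    rw [Watanabe.wt, horb, lrank_regular hM P hcomm fun g hg _ => hNC hg]
    simp
  rw [Finset.sum_congr rfl hterm, Finset.sum_const, Finset.card_univ, nsmul_eq_mul, mul_one,
    ← Nat.card_eq_fintype_card] at hsum
  exact Nat.cast_injective hsum

/-- A group of order fifteen is cyclic. -/
theorem exists_generator_fifteen {E : Type*} [Group E] [Finite E] (h : Nat.card E = 15) :
    ∃ a : E, orderOf a = 15 := by
  haveI : Fact (Nat.Prime 3) := ⟨by norm_num⟩
  haveI : Fact (Nat.Prime 5) := ⟨by norm_num⟩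
  obtain ⟨a, ha⟩ := exists_prime_orderOf_dvd_card' (G := E) 3 (by rw [h]; norm_num)
  obtain ⟨b, hb⟩ := exists_prime_orderOf_dvd_card' (G := E) 5 (by rw [h]; norm_num)
  have hidx : (zpowers b).index = 3 := by
    have := Subgroup.card_mul_index (zpowers b)
    rw [Nat.card_zpowers, hb, h] at this
    omega
  haveI hn : (zpowers b).Normal :=
    Subgroup.normal_of_index_eq_minFac_card (by rw [hidx, h]; norm_num)
  obtain ⟨i, hi⟩ := (isOfFinOrder_of_finite b).mem_powers_iff_mem_zpowers.2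
    (hn.conj_mem b (mem_zpowers b) a)
  have hmod : a * b * a⁻¹ = b ^ (i % 5) := by
    rw [← hb, pow_mod_orderOf]; exact hi.symm
  set j := i % 5
  have hj : j < 5 := Nat.mod_lt _ (by norm_num)
  have hiter : ∀ k : ℕ, a ^ k * b * (a ^ k)⁻¹ = b ^ j ^ k := by
    intro k
    induction k with
    | zero => simp
    | succ k ih =>
      calc a ^ (k + 1) * b * (a ^ (k + 1))⁻¹ = a * (a ^ k * b * (a ^ k)⁻¹) * a⁻¹ := by
            rw [pow_succ']; group
        _ = (a * b * a⁻¹) ^ j ^ k := by rw [ih, conj_pow]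
        _ = _ := by rw [hmod, ← pow_mul, ← pow_succ']
  have h3 := hiter 3
  rw [← ha, pow_orderOf_eq_one, one_mul, inv_one, mul_one, ha] at h3
  have hj3 : j ^ 3 % 5 = 1 := by
    have h5 : b ^ 1 = b ^ (j ^ 3) := by rwa [pow_one]
    rw [pow_eq_pow_iff_modEq, hb] at h5
    exact h5.symm
  have hj1 : j = 1 := by
    clear_value j
    interval_cases j <;> first | rfl | norm_num at hj3
  rw [hj1, pow_one] at hmod
  exact ⟨a * b, by
    rw [Commute.orderOf_mul_eq_mul_orderOf_of_coprime (mul_inv_eq_iff_eq_mul.1 hmod)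
      (by rw [ha, hb]; norm_num), ha, hb]⟩

/-- A regular inertial quotient of order fifteen. -/
theorem card_of_regular {M : Ideal AlgInt} (hM : IsPModular 2 M)
    (hcomm : ∀ x ∈ (P : Subgroup G), ∀ y ∈ (P : Subgroup G), x * y = y * x)
    (hsq : ∀ x ∈ (P : Subgroup G), x * x = 1) (hcard : Nat.card P = 16) {n : G}
    (S : Setting P n 15) : Nat.card (principalBlock M G) = 16 := by
  haveI : Fact (Nat.Prime 2) := ⟨Nat.prime_two⟩
  set O := pPrimeCore 2 G
  haveI : O.Normal := Cores.pPrimeCore_normal 2 G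
  set π := QuotientGroup.mk' O
  have hπ : Function.Surjective π := QuotientGroup.mk'_surjective O
  set Q : Sylow 2 (G ⧸ O) := P.mapSurjective hπ
  have hQ : (Q : Subgroup (G ⧸ O)) = (P : Subgroup G).map π := rfl
  have hinj : ∀ x ∈ (P : Subgroup G), π x = 1 → x = 1 := by
    intro x hx h
    obtain ⟨k, hk⟩ := IsPGroup.iff_card.1 P.isPGroup'
    refine Coprime.eq_one_of_mem_of_mem ?_ hx ((QuotientGroup.eq_one_iff x).1 h)
    rw [hk]
    exact Nat.Coprime.pow_left _ (Nat.prime_two.coprime_iff_not_dvd.2 Cores.not_dvd_card_pPrimeCore)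
  have hCmap : ∀ c ∈ centralizer ((P : Subgroup G) : Set G),
      π c ∈ centralizer ((Q : Subgroup (G ⧸ O)) : Set (G ⧸ O)) := by
    intro c hc
    refine mem_centralizer_iff.2 ?_
    rintro _ ⟨x, hx, rfl⟩
    rw [← map_mul, ← map_mul, mem_centralizer_iff.1 hc x hx]
  have S' : Setting Q (π n) 15 := by
    refine ⟨S.one_lt, S.odd, fun h => S.ne_bot ?_, ?_, ?_, ?_, fun y hy => ?_, ?_⟩
    · exact (Subgroup.eq_bot_iff_forall _).2 fun x hx =>
        hinj x hx ((Subgroup.eq_bot_iff_forall _).1 h (π x) ⟨x, hx, rfl⟩)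
    · rintro _ ⟨x, hx, rfl⟩ _ ⟨y, hy, rfl⟩
      rw [← map_mul, ← map_mul, hcomm x hx y hy]
    · refine Coprime.mem_normalizer_of_forall ?_
      rintro _ ⟨x, hx, rfl⟩
      rw [← map_inv, ← map_mul, ← map_mul]
      exact Subgroup.mem_map_of_mem _ ((mem_normalizer_iff.1 S.mem_norm x).1 hx)
    · rw [← map_pow]; exact hCmap _ S.pow_mem
    · obtain ⟨g, hg, rfl⟩ := exists_norm_lift hπ P (y := y) hy
      obtain ⟨i, hi, hic⟩ := S.gen _ hg
      refine ⟨i, hi, ?_⟩
      rw [← map_pow, ← map_inv, ← map_mul]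
      exact hCmap _ hic
    · rintro _ ⟨x, hx, rfl⟩ hx1 i h
      refine S.free hx (fun e => hx1 (by rw [e, map_one])) (i := i) ?_
      have hmem : n ^ i * x * (n ^ i)⁻¹ * x⁻¹ ∈ (P : Subgroup G) :=
        mul_mem (S.conj_mem i hx) (inv_mem hx)
      refine mul_inv_eq_one.1 (hinj _ hmem ?_)
      rw [map_mul, map_mul, map_mul, map_inv, map_inv, map_pow, h, mul_inv_cancel]
  have hcardQ : Nat.card (Q : Subgroup (G ⧸ O)) = 15 + 1 := by
    refine Eq.trans ?_ hcard
    rw [hQ]
    refine (Nat.card_congr (Equiv.ofBijective (fun x : (P : Subgroup G) =>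
      (⟨π x, Subgroup.mem_map_of_mem _ x.2⟩ : (P : Subgroup G).map π)) ⟨?_, ?_⟩)).symm
    · intro a b h
      have h' : π (a : G) = π (b : G) := congrArg Subtype.val h
      exact Subtype.ext (inv_mul_eq_one.1 (hinj _ (mul_mem (inv_mem a.2) b.2)
        (by rw [map_mul, map_inv, h', inv_mul_cancel])))
    · rintro ⟨_, x, hx, rfl⟩
      exact ⟨⟨x, hx⟩, rfl⟩
  have hl : blockRank 2 (principalBlock M G) = 15 := by
    rw [blockRank_mod_core hM]
    refine S'.reduced hM (Cores.pPrimeCore_quotient_self 2) (Or.inr ⟨?_, hcardQ⟩)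
    rintro _ ⟨x, hx, rfl⟩
    rw [← map_mul, hsq x hx, map_one]
  haveI := Fintype.ofFinite G
  haveI := Fintype.ofFinite (P : Subgroup G)
  have hmax := BrauerPairs.isMaximalBrauerPair_principal hM (BrauerPairs.integralPrincipal hM) P
  have hstab := pairStab_eq hM P
  set e := principalBlock M (centralizer ((P : Subgroup G) : Set G))
  have hsum := Watanabe.card_eq_sum hM hmax hcomm
  rw [← Finset.add_sum_erase _ _ (Finset.mem_univ (1 : (P : Subgroup G)))] at hsum
  have h1 : Watanabe.wt M (P : Subgroup G) e 1 *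
      (LocalRank.lrank 2 M (P : Subgroup G) e (zpowers ((1 : (P : Subgroup G)) : G)) : ℂ) = 15 := by
    rw [Watanabe.wt_one, Subgroup.coe_one, Watanabe.rank_eq_of_fixed hM hmax hcomm (one_mem _)
      (fun t _ => by simp), hl]
    norm_num
  have hout : ∀ v ∈ Finset.univ.erase (1 : (P : Subgroup G)),
      Watanabe.wt M (P : Subgroup G) e v *
        (LocalRank.lrank 2 M (P : Subgroup G) e (zpowers (v : G)) : ℂ) = (15 : ℂ)⁻¹ := by
    intro v hv
    have hv1 : (v : G) ≠ 1 := fun h => (Finset.mem_erase.1 hv).1 (Subtype.ext h)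
    rw [Watanabe.wt, orb_card P hstab S.mem_norm S.gen (fun i h => S.free v.2 hv1 h),
      lrank_regular hM P hcomm ?_, Nat.cast_one, mul_one, Nat.cast_ofNat]
    intro g hg hgv
    obtain ⟨i, hi, hic⟩ := S.gen g hg
    have h1 := (mem_centralizer_iff.1 hic (v : G) v.2).symm
    have hi0 : i = 0 := by
      refine Nat.eq_zero_of_dvd_of_lt (S.free v.2 hv1 (i := i) ?_) hi
      calc n ^ i * (v : G) * (n ^ i)⁻¹
          = n ^ i * ((n ^ i)⁻¹ * g * v * ((n ^ i)⁻¹ * g)⁻¹) * (n ^ i)⁻¹ := by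
            rw [h1, mul_inv_cancel_right]
        _ = g * v * g⁻¹ := by group
        _ = v := hgv
    subst hi0
    simpa using hic
  rw [h1, Finset.sum_congr rfl hout, Finset.sum_const, Finset.card_erase_of_mem (Finset.mem_univ _),
    Finset.card_univ, ← Nat.card_eq_fintype_card,
    show Nat.card (P : Subgroup G) = 16 from hcard] at hsum
  norm_num at hsum
  exact_mod_cast hsum

end Cfsg.Agent.PrimeInertial
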