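import Cfsg.Agent.Lib.PrimeInertial.ExpTwo
import Cfsg.Agent.Lib.PrimeInertial.Normal

/-!
# Reduction to the normal closure of `Q`

`elementary`: with `O(X) = 1` and `X` nonsolvable, the involutions of `Q` are conjugate and `Q` is
elementary abelian of order `q + 1`.
-/

set_option autoImplicit false

open scoped Classical ComplexConjugate

namespace Cfsg.Agent.PrimeInertial

open Subgroup Cfsg Cfsg.Agent

universe u

variable {X : Type u} [Group X] [Finite X] {Q : Sylow 2 X} {n : X} {q : ℕ}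

/-- The setting in the normal closure of `Q`. -/
theorem Setting.residual (S : Setting Q n q) (hp : q.Prime) (hO : Cfsg.pPrimeCore 2 X = ⊥)
    (hns : ¬ Group.IsSolvable X) :
    ∃ (K : Subgroup X) (hQK : (Q : Subgroup X) ≤ K) (n' : K),
      Setting (Q.subtype hQK) n' q ∧ Cfsg.pPrimeCore 2 K = ⊥ ∧ ¬ Group.IsSolvable K ∧
      ∀ L : Subgroup K, L.Normal → ((Q.subtype hQK : Sylow 2 K) : Subgroup K) ≤ L → L = ⊤ := by
  haveI : Fact (Nat.Prime 2) := ⟨Nat.prime_two⟩
  set K := Subgroup.normalClosure ((Q : Subgroup X) : Set X) with hK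
  haveI hKn : K.Normal := Subgroup.normalClosure_normal
  have hQK : (Q : Subgroup X) ≤ K := Subgroup.subset_normalClosure
  have hOK : Cfsg.pPrimeCore 2 K = ⊥ := by
    refine (Subgroup.map_eq_bot_iff_of_injective _ K.subtype_injective).1 (eq_bot_iff.2 ?_)
    rw [← hO]
    refine Cores.le_pPrimeCore (Cores.map_subtype_normal_of_characteristic K _) ?_
    rw [Cores.card_map_subtype]
    exact (Nat.prime_two.coprime_iff_not_dvd.2 Cores.not_dvd_card_pPrimeCore).symm
  have hnsK : ¬ Group.IsSolvable K := by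
    intro h
    have hodd : Odd (Nat.card (X ⧸ K)) := by
      rw [← Subgroup.index_eq_card, Nat.odd_iff, ← Nat.two_dvd_ne_zero]
      exact fun h2 => Q.not_dvd_index (h2.trans (Subgroup.index_dvd_of_le hQK))
    haveI := OddOrderTheorem.solvable hodd
    exact hns (Group.isSolvable_of_ker_le_range K.subtype (QuotientGroup.mk' K)
      (by rw [QuotientGroup.ker_mk', range_subtype]))
  -- an element of `K` acting nontrivially on `Q`
  obtain ⟨n', hn'N, hn'C⟩ : ∃ n' : K, (n' : X) ∈ normalizer ((Q : Subgroup X) : Set X) ∧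
      (n' : X) ∉ centralizer ((Q : Subgroup X) : Set X) := by
    by_contra hcon
    push Not at hcon
    have hcomp : Cfsg.HasNormalPComplement 2 K := by
      refine Transfer.hasNormalPComplement_of_normalizer_le_centralizer (Q.subtype hQK) fun g hg => ?_
      have hgN : (g : X) ∈ normalizer ((Q : Subgroup X) : Set X) := by
        refine mem_normalizer_iff.2 fun z => ⟨fun hz => ?_, fun hz => ?_⟩
        · exact (mem_normalizer_iff.1 hg ⟨z, hQK hz⟩).1 hz
        · have hzK : z ∈ K := by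
            have h := hKn.conj_mem _ (hQK hz) (g : X)⁻¹
            simpa [mul_assoc] using h
          exact (mem_normalizer_iff.1 hg ⟨z, hzK⟩).2 hz
      have hgC := hcon g hgN
      exact mem_centralizer_iff.2 fun z hz => Subtype.ext (mem_centralizer_iff.1 hgC (z : X) hz)
    have hcard := card_of_complement hcomp (Q.subtype hQK)
    rw [hOK, Subgroup.card_bot, one_mul, Sylow.coe_subtype, Cores.card_subgroupOf hQK] at hcard
    have hKQ : (Q : Subgroup X) = K := Subgroup.eq_of_le_of_card_ge hQK hcard.le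
    haveI : (Q : Subgroup X).Normal := hKQ ▸ hKn
    exact hns (normal_sylow_solvable Q S.comm)
  obtain ⟨a, haq, hac⟩ := S.gen _ hn'N
  have ha0 : ¬ q ∣ a := fun h => by
    rw [Nat.eq_zero_of_dvd_of_lt h haq, pow_zero, inv_one, one_mul] at hac
    exact hn'C hac
  -- `n'` acts as `n ^ a`
  have hact : ∀ x ∈ (Q : Subgroup X), (n' : X) * x * (n' : X)⁻¹ = n ^ a * x * (n ^ a)⁻¹ := by
    intro x hx
    have h := (mem_centralizer_iff.1 hac x hx).symm
    calc (n' : X) * x * (n' : X)⁻¹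
        = n ^ a * (((n ^ a)⁻¹ * (n' : X)) * x * ((n ^ a)⁻¹ * (n' : X))⁻¹) * (n ^ a)⁻¹ := by group
      _ = _ := by rw [h, mul_inv_cancel_right]
  have hactp : ∀ (j : ℕ), ∀ x ∈ (Q : Subgroup X),
      (n' : X) ^ j * x * ((n' : X) ^ j)⁻¹ = n ^ (a * j) * x * (n ^ (a * j))⁻¹ := by
    intro j
    induction j with
    | zero => intro x _; simp
    | succ j ih =>
      intro x hx
      calc (n' : X) ^ (j + 1) * x * ((n' : X) ^ (j + 1))⁻¹
          = (n' : X) * ((n' : X) ^ j * x * ((n' : X) ^ j)⁻¹) * (n' : X)⁻¹ := by rw [pow_succ']; group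
        _ = n ^ a * (n ^ (a * j) * x * (n ^ (a * j))⁻¹) * (n ^ a)⁻¹ := by
          rw [ih x hx, hact _ (S.conj_mem _ hx)]
        _ = _ := by rw [conj_pow_conj, show a + a * j = a * (j + 1) by ring]
  have hcent : ∀ g : K, (∀ x ∈ (Q : Subgroup X), (g : X) * x * (g : X)⁻¹ = x) →
      g ∈ centralizer (((Q.subtype hQK : Sylow 2 K) : Subgroup K) : Set K) := fun g hg =>
    mem_centralizer_iff.2 fun z hz => Subtype.ext (mul_inv_eq_iff_eq_mul.1 (hg (z : X) hz)).symm
  have hSK : Setting (Q.subtype hQK) n' q := by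
    refine Setting.of_prime hp (fun h => S.ne_bot ?_) (fun x hx y hy => Subtype.ext (S.comm _ hx _ hy))
      ?_ ?_ (fun g hg => ?_) (fun x hx h => Subtype.ext ?_)
    · refine (Subgroup.eq_bot_iff_forall _).2 fun x hx => ?_
      exact congrArg Subtype.val ((Subgroup.eq_bot_iff_forall _).1 h ⟨x, hQK hx⟩ hx)
    · refine mem_normalizer_iff.2 fun z => ?_
      exact mem_normalizer_iff.1 hn'N (z : X)
    · refine hcent _ fun x hx => ?_
      rw [SubgroupClass.coe_pow, hactp q x hx, mul_comm a q, S.conj_mul_q a hx]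
    · have hgN : (g : X) ∈ normalizer ((Q : Subgroup X) : Set X) := by
        refine mem_normalizer_iff.2 fun z => ⟨fun hz => ?_, fun hz => ?_⟩
        · exact (mem_normalizer_iff.1 hg ⟨z, hQK hz⟩).1 hz
        · have hzK : z ∈ K := by
            have h := hKn.conj_mem _ (hQK hz) (g : X)⁻¹
            simpa [mul_assoc] using h
          exact (mem_normalizer_iff.1 hg ⟨z, hzK⟩).2 hz
      obtain ⟨i, hi, hic⟩ := S.gen _ hgN
      obtain ⟨j, hjq, hj⟩ : ∃ j < q, a * j % q = i := by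
        haveI : Fact q.Prime := ⟨hp⟩
        refine ⟨((i : ZMod q) * (a : ZMod q)⁻¹).val, ZMod.val_lt _, ?_⟩
        have hne : (a : ZMod q) ≠ 0 := fun h => ha0 ((ZMod.natCast_eq_zero_iff _ _).1 h)
        rw [← ZMod.val_natCast, Nat.cast_mul, ZMod.natCast_val, ZMod.cast_id, mul_left_comm,
          mul_inv_cancel₀ hne, mul_one, ZMod.val_natCast, Nat.mod_eq_of_lt hi]
      refine ⟨j, hjq, hcent _ fun x hx => ?_⟩
      have h := (mem_centralizer_iff.1 hic x hx).symm
      have hgx : (g : X) * x * (g : X)⁻¹ = n ^ i * x * (n ^ i)⁻¹ := by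
        calc (g : X) * x * (g : X)⁻¹
            = n ^ i * (((n ^ i)⁻¹ * (g : X)) * x * ((n ^ i)⁻¹ * (g : X))⁻¹) * (n ^ i)⁻¹ := by group
          _ = _ := by rw [h, mul_inv_cancel_right]
      have hjx : (n' : X) ^ j * x * ((n' : X) ^ j)⁻¹ = n ^ i * x * (n ^ i)⁻¹ := by
        rw [hactp j x hx, S.conj_mod (a * j) hx, hj]
      push_cast
      calc ((n' : X) ^ j)⁻¹ * (g : X) * x * (((n' : X) ^ j)⁻¹ * (g : X))⁻¹
          = ((n' : X) ^ j)⁻¹ * ((g : X) * x * (g : X)⁻¹) * (n' : X) ^ j := by group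
        _ = x := by rw [hgx, ← hjx]; group
    · have h' : (n' : X) * x * (n' : X)⁻¹ = x := congrArg Subtype.val h
      rw [hact (x : X) hx] at h'
      by_contra hx1
      exact ha0 (S.free hx hx1 h')
  refine ⟨K, hQK, n', hSK, hOK, hnsK, fun L hL hQL => ?_⟩
  -- `K` is generated by the conjugates of `Q` in `K`
  rw [eq_top_iff]
  rintro ⟨k, hk⟩ -
  suffices h : K ≤ L.map K.subtype by
    obtain ⟨l, hl, hlk⟩ := h hk
    exact (Subtype.ext hlk : l = ⟨k, hk⟩) ▸ hl
  refine hK.le.trans ((Subgroup.closure_le _).2 ?_)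
  intro y hy
  obtain ⟨x, hx, hxy⟩ := Group.mem_conjugatesOfSet_iff.1 hy
  obtain ⟨g, rfl⟩ := isConj_iff.1 hxy
  obtain ⟨k, hk⟩ := MulAction.exists_smul_eq K (Q.subtype hQK) ((g • Q : Sylow 2 X).subtype (by
    rintro _ ⟨z, hz, rfl⟩
    exact hKn.conj_mem _ (hQK hz) g))
  have hmem : (⟨g * x * g⁻¹, hKn.conj_mem _ (hQK hx) g⟩ : K) ∈
      ((k • Q.subtype hQK : Sylow 2 K) : Subgroup K) := by
    rw [hk]
    show g * x * g⁻¹ ∈ ((g • Q : Sylow 2 X) : Subgroup X)
    exact ⟨x, hx, rfl⟩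
  obtain ⟨z, hz, hze⟩ := hmem
  refine ⟨k * z * k⁻¹, hL.conj_mem _ (hQL hz) k, ?_⟩
  exact congrArg Subtype.val hze

/-- With `O(X) = 1` and `X` nonsolvable, `Q` is elementary abelian of order `q + 1` and its
involutions are conjugate. -/
theorem Setting.elementary (S : Setting Q n q) (hp : q.Prime) {M : Ideal AlgInt} (hM : IsPModular 2 M)
    (hO : Cfsg.pPrimeCore 2 X = ⊥) (hns : ¬ Group.IsSolvable X) :
    (∀ a b : (Q : Subgroup X), orderOf (a : X) = 2 → orderOf (b : X) = 2 →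
      IsConj (a : X) (b : X)) ∧
    (∀ x ∈ (Q : Subgroup X), x * x = 1) ∧ Nat.card (Q : Subgroup X) = q + 1 := by
  obtain ⟨K, hQK, n', SK, hOK, hnsK, hgen⟩ := S.residual hp hO hns
  haveI := Fintype.ofFinite K
  haveI := Fintype.ofFinite (IrrCharacter K)
  haveI : Finite (((Q.subtype hQK : Sylow 2 K) : Subgroup K) →* ℂˣ) := by
    letI := SK.commQ; infer_instance
  haveI := Fintype.ofFinite (((Q.subtype hQK : Sylow 2 K) : Subgroup K) →* ℂˣ)
  have hperf : ∀ χ : IrrCharacter K,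
      (∀ x ∈ ((Q.subtype hQK : Sylow 2 K) : Subgroup K), (χ : K → ℂ) x = (χ : K → ℂ) 1) →
      χ = BrauerPairs.oneIrr K := by
    intro χ hχ
    have htop := hgen (Codegree.kerSub χ) inferInstance hχ
    have hval : ∀ g, (χ : K → ℂ) g = (χ : K → ℂ) 1 := fun g =>
      Codegree.mem_kerSub.1 (htop ▸ mem_top g)
    have h := TwoClassChar.row_orth χ χ
    rw [if_pos rfl, Finset.sum_congr rfl fun g _ => by rw [hval g, TwoClassChar.deg_eq χ.2,
      Complex.conj_natCast], Finset.sum_const, Finset.card_univ, nsmul_eq_mul,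
      Nat.card_eq_fintype_card] at h
    have hd : (charDegree (χ : K → ℂ) : ℂ) * (charDegree (χ : K → ℂ) : ℂ) = 1 := by
      refine mul_left_cancel₀ (Nat.cast_ne_zero.2 (Fintype.card_ne_zero (α := K))) ?_
      rw [mul_one]; exact h
    have hd1 : charDegree (χ : K → ℂ) = 1 :=
      (mul_eq_one.1 (by exact_mod_cast hd : charDegree (χ : K → ℂ) * charDegree (χ : K → ℂ) = 1)).1
    refine Subtype.ext (funext fun g => ?_)
    show (χ : K → ℂ) g = 1
    rw [hval g, TwoClassChar.deg_eq χ.2, hd1, Nat.cast_one]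
  have honeK : ∀ a b : ((Q.subtype hQK : Sylow 2 K) : Subgroup K), orderOf (a : K) = 2 →
      orderOf (b : K) = 2 → IsConj (a : K) (b : K) := fun a b ha hb => one_class SK hM hperf ha hb
  have hone : ∀ a b : (Q : Subgroup X), orderOf (a : X) = 2 → orderOf (b : X) = 2 →
      IsConj (a : X) (b : X) := fun a b ha hb => by
    refine K.subtype.map_isConj (honeK ⟨⟨a, hQK a.2⟩, a.2⟩ ⟨⟨b, hQK b.2⟩, b.2⟩ ?_ ?_)
    · rw [← Subgroup.orderOf_coe]; exact ha
    · rw [← Subgroup.orderOf_coe]; exact hb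
  have hsq : ∀ x ∈ (Q : Subgroup X), x * x = 1 := fun x hx =>
    congrArg Subtype.val (SK.sq_eq_one hM hperf
      (fun L hL hm => by haveI := hL; exact SK.le_of_normal hOK hnsK L hm) honeK ⟨x, hQK hx⟩ hx)
  haveI := Fintype.ofFinite X
  haveI := Fintype.ofFinite (IrrCharacter X)
  haveI : Finite ((Q : Subgroup X) →* ℂˣ) := by
    letI := S.commQ; infer_instance
  haveI := Fintype.ofFinite ((Q : Subgroup X) →* ℂˣ)
  exact ⟨hone, hsq, S.card_eq hone hsq⟩

end Cfsg.Agent.PrimeInertial
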