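import Cfsg.Agent.EqLemmas
import Cfsg.Agent.Lib.FrobSection.Sections
import Cfsg.Agent.Lib.Signalizer.Core
import Cfsg.Agent.Lib.Cores.Basic

/-!
# An abelian Sylow 2-subgroup with semiregular cyclic inertial quotient

`Setting Q n q`: `n` normalises the abelian Sylow 2-subgroup `Q`, fixes no non-identity element,
and generates `N(Q)` over `C(Q)` with `n ^ q ∈ C(Q)`, `q` odd; `Setting.of_prime` for prime `q`.

* `free`, `fusion`, `not_real`, `q_ne_two`;
* `complement`, `mem_core`, `card_centralizer`;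
* `sum_singular`: the sum of a class function over the 2-singular elements.
-/

set_option autoImplicit false

namespace Cfsg.Agent.PrimeInertial

open Subgroup

variable {X : Type*} [Group X] [Finite X]

/-- An abelian Sylow 2-subgroup with a semiregular cyclic inertial quotient of odd order. -/
structure Setting (Q : Sylow 2 X) (n : X) (q : ℕ) : Prop where
  one_lt : 1 < q
  odd : Odd q
  ne_bot : (Q : Subgroup X) ≠ ⊥
  comm : ∀ x ∈ (Q : Subgroup X), ∀ y ∈ (Q : Subgroup X), x * y = y * x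
  mem_norm : n ∈ normalizer ((Q : Subgroup X) : Set X)
  pow_mem : n ^ q ∈ centralizer ((Q : Subgroup X) : Set X)
  gen : ∀ g ∈ normalizer ((Q : Subgroup X) : Set X),
    ∃ i < q, (n ^ i)⁻¹ * g ∈ centralizer ((Q : Subgroup X) : Set X)
  /-- A power of `n` fixing a non-identity element is a multiple of `n ^ q`. -/
  free : ∀ ⦃x : X⦄, x ∈ (Q : Subgroup X) → x ≠ 1 → ∀ ⦃i : ℕ⦄, n ^ i * x * (n ^ i)⁻¹ = x → q ∣ i

omit [Finite X] in
theorem conj_pow_conj (n : X) (i j : ℕ) (x : X) :
    n ^ i * (n ^ j * x * (n ^ j)⁻¹) * (n ^ i)⁻¹ = n ^ (i + j) * x * (n ^ (i + j))⁻¹ := by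
  rw [pow_add]; group

/-- Elements of odd order of a group with a normal 2-complement lie in its odd core. -/
theorem mem_core_of_complement {C : Type*} [Group C] [Finite C]
    (h : Cfsg.HasNormalPComplement 2 C) {s : C} (hs : ¬ 2 ∣ orderOf s) :
    s ∈ Cfsg.pPrimeCore 2 C := by
  haveI : Fact (Nat.Prime 2) := ⟨Nat.prime_two⟩
  obtain ⟨P, K, hK, hcomp⟩ := h
  have hcardK : Nat.card K = (P : Subgroup C).index := hcomp.index_eq_card.symm
  have hcop : (Nat.card K).Coprime 2 := by
    rw [hcardK]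
    exact ((Nat.prime_two.coprime_iff_not_dvd).2 P.not_dvd_index).symm
  have hsK : s ∈ K := by
    rw [← QuotientGroup.eq_one_iff, ← orderOf_eq_one_iff]
    refine Nat.eq_one_of_dvd_coprimes (a := orderOf s) (b := Nat.card (P : Subgroup C)) ?_
      (orderOf_map_dvd (QuotientGroup.mk' K) s) ?_
    · obtain ⟨k, hk⟩ := IsPGroup.iff_card.1 P.isPGroup'
      rw [hk]
      exact ((Nat.prime_two.coprime_iff_not_dvd).2 hs).symm.pow_right k
    · rw [← hcomp.symm.index_eq_card]
      exact _root_.orderOf_dvd_natCard _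
  exact le_sSup (show K ∈ {N : Subgroup C | N.Normal ∧ (Nat.card N).Coprime 2} from ⟨hK, hcop⟩) hsK

/-- The odd core and a Sylow 2-subgroup fill a group with a normal 2-complement. -/
theorem card_of_complement {C : Type*} [Group C] [Finite C]
    (h : Cfsg.HasNormalPComplement 2 C) (S : Sylow 2 C) :
    Nat.card C = Nat.card (Cfsg.pPrimeCore 2 C) * Nat.card (S : Subgroup C) := by
  haveI : Fact (Nat.Prime 2) := ⟨Nat.prime_two⟩
  have hcore := fun s hs => mem_core_of_complement h (s := s) hs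
  obtain ⟨P, K, hK, hcomp⟩ := h
  have hKc : K = Cfsg.pPrimeCore 2 C := by
    have hcop : (Nat.card K).Coprime 2 := by
      rw [← hcomp.index_eq_card]
      exact ((Nat.prime_two.coprime_iff_not_dvd).2 P.not_dvd_index).symm
    refine le_antisymm (le_sSup (show K ∈ {N : Subgroup C | N.Normal ∧ (Nat.card N).Coprime 2} from
      ⟨hK, hcop⟩)) fun s hs => ?_
    have hodd : ¬ 2 ∣ orderOf s := fun h2 => Cores.not_dvd_card_pPrimeCore (p := 2) (G := C)
      (h2.trans (Subgroup.orderOf_dvd_natCard _ hs))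
    rw [← QuotientGroup.eq_one_iff, ← orderOf_eq_one_iff]
    obtain ⟨k, hk⟩ := IsPGroup.iff_card.1 P.isPGroup'
    refine Nat.eq_one_of_dvd_coprimes (a := orderOf s) (b := Nat.card (P : Subgroup C)) ?_
      (orderOf_map_dvd (QuotientGroup.mk' K) s) ?_
    · rw [hk]
      exact ((Nat.prime_two.coprime_iff_not_dvd).2 hodd).symm.pow_right k
    · rw [← hcomp.symm.index_eq_card]
      exact _root_.orderOf_dvd_natCard _
  rw [← hKc, ← hcomp.card_mul]
  congr 1
  exact Nat.card_congr (P.equiv S).toEquiv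

namespace Setting

variable {Q : Sylow 2 X} {n : X} {q : ℕ}

theorem conj_mem (S : Setting Q n q) (i : ℕ) {x : X} (hx : x ∈ (Q : Subgroup X)) :
    n ^ i * x * (n ^ i)⁻¹ ∈ (Q : Subgroup X) :=
  (mem_normalizer_iff.1 (_root_.pow_mem S.mem_norm i) x).1 hx

theorem commute (S : Setting Q n q) {x y : X} (hx : x ∈ (Q : Subgroup X))
    (hy : y ∈ (Q : Subgroup X)) : Commute x y :=
  S.comm x hx y hy

theorem le_centralizer_singleton (S : Setting Q n q) {u : X} (hu : u ∈ (Q : Subgroup X)) :
    (Q : Subgroup X) ≤ centralizer ({u} : Set X) := fun x hx =>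
  mem_centralizer_singleton_iff.2 (S.comm x hx u hu)

/-- For prime `q` it is enough that `n` is fixed-point-free. -/
theorem of_prime (hq : q.Prime) (hbot : (Q : Subgroup X) ≠ ⊥)
    (hcomm : ∀ x ∈ (Q : Subgroup X), ∀ y ∈ (Q : Subgroup X), x * y = y * x)
    (hn : n ∈ normalizer ((Q : Subgroup X) : Set X))
    (hpow : n ^ q ∈ centralizer ((Q : Subgroup X) : Set X))
    (hgen : ∀ g ∈ normalizer ((Q : Subgroup X) : Set X),
      ∃ i < q, (n ^ i)⁻¹ * g ∈ centralizer ((Q : Subgroup X) : Set X))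
    (hfpf : ∀ x ∈ (Q : Subgroup X), n * x * n⁻¹ = x → x = 1) : Setting Q n q := by
  refine ⟨hq.one_lt, hq.odd_of_ne_two ?_, hbot, hcomm, hn, hpow, hgen, fun x hx hx1 i h => ?_⟩
  swap
  · by_contra hni
    have h1 : n ^ i ∈ centralizer ({x} : Set X) :=
      mem_centralizer_singleton_iff.2 (mul_inv_eq_iff_eq_mul.1 h)
    have h2 : n ^ q ∈ centralizer ({x} : Set X) :=
      mem_centralizer_singleton_iff.2 (mem_centralizer_iff.1 hpow x hx).symm
    have h3 := Transfer.mem_of_pow_mem_of_coprime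
      ((hq.coprime_iff_not_dvd.2 hni).symm) h1 h2
    exact hx1 (hfpf x hx (mul_inv_eq_iff_eq_mul.2 (mem_centralizer_singleton_iff.1 h3)))
  · rintro rfl
    haveI : Fact (Nat.Prime 2) := ⟨Nat.prime_two⟩
    let σ : Equiv.Perm (Q : Subgroup X) :=
      { toFun := fun x => ⟨n * x * n⁻¹, (mem_normalizer_iff.1 hn x).1 x.2⟩
        invFun := fun x => ⟨n⁻¹ * x * n, by
          simpa using (mem_normalizer_iff.1 (inv_mem hn) x).1 x.2⟩
        left_inv := fun x => Subtype.ext (by simp [mul_assoc])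
        right_inv := fun x => Subtype.ext (by simp [mul_assoc]) }
    have := Fintype.ofFinite (Q : Subgroup X)
    have hσ : σ ^ (2 ^ 1) = 1 := by
      ext x
      show n * (n * (x : X) * n⁻¹) * n⁻¹ = x
      have := mul_inv_eq_iff_eq_mul.2 (mem_centralizer_iff.1 hpow (x : X) x.2).symm
      rw [pow_two] at this
      conv_rhs => rw [← this]
      group
    obtain ⟨k, hk⟩ := IsPGroup.iff_card.1 Q.isPGroup'
    have hk0 : k ≠ 0 := fun h => hbot (Subgroup.card_eq_one.1 (by rw [hk, h, pow_zero]))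
    have heven : 2 ∣ Fintype.card (Q : Subgroup X) := by
      rw [← Nat.card_eq_fintype_card, hk]; exact dvd_pow_self 2 hk0
    obtain ⟨b, hb, hb1⟩ := Equiv.Perm.exists_fixed_point_of_prime' heven hσ (a := 1)
      (Subtype.ext (by show n * ((1 : (Q : Subgroup X)) : X) * n⁻¹ = 1; simp))
    exact hb1 (Subtype.ext (hfpf b b.2 (congrArg Subtype.val hb)))

theorem conj_mul_q (S : Setting Q n q) (k : ℕ) {x : X} (hx : x ∈ (Q : Subgroup X)) :
    n ^ (q * k) * x * (n ^ (q * k))⁻¹ = x := by
  rw [pow_mul, mul_inv_eq_iff_eq_mul]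
  exact (mem_centralizer_iff.1 (_root_.pow_mem S.pow_mem k) x hx).symm

theorem conj_mod (S : Setting Q n q) (i : ℕ) {x : X} (hx : x ∈ (Q : Subgroup X)) :
    n ^ i * x * (n ^ i)⁻¹ = n ^ (i % q) * x * (n ^ (i % q))⁻¹ := by
  conv_lhs => rw [← Nat.mod_add_div i q, ← conj_pow_conj, S.conj_mul_q _ hx]

theorem conj_inj (S : Setting Q n q) {x : X} (hx : x ∈ (Q : Subgroup X)) (hx1 : x ≠ 1) {i j : ℕ}
    (hi : i < q) (hj : j < q) (h : n ^ i * x * (n ^ i)⁻¹ = n ^ j * x * (n ^ j)⁻¹) : i = j := by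
  wlog hij : i ≤ j generalizing i j with H
  · exact (H hj hi h.symm (by omega)).symm
  have h1 : n ^ i * (n ^ (j - i) * x * (n ^ (j - i))⁻¹) * (n ^ i)⁻¹ = n ^ i * x * (n ^ i)⁻¹ := by
    rw [conj_pow_conj, Nat.add_sub_cancel' hij, h]
  have h2 := Nat.eq_zero_of_dvd_of_lt (S.free hx hx1 (mul_left_cancel (mul_right_cancel h1)))
    (by omega)
  omega

/-- Fusion in `Q` is realised by the powers of `n`. -/
theorem fusion (S : Setting Q n q) {x y : X} (hx : x ∈ (Q : Subgroup X))
    (hy : y ∈ (Q : Subgroup X)) (h : IsConj x y) : ∃ i < q, n ^ i * x * (n ^ i)⁻¹ = y := by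
  haveI : IsMulCommutative (Q : Subgroup X) := ⟨⟨fun a b => Subtype.ext (S.comm a a.2 b b.2)⟩⟩
  obtain ⟨g, hg⟩ := isConj_iff.1 h
  obtain ⟨m, hm, hme⟩ := Transfer.normalizer_control_of_comm Q x hx g (hg ▸ hy)
  obtain ⟨i, hi, hic⟩ := S.gen m hm
  refine ⟨i, hi, ?_⟩
  have h1 := (mem_centralizer_iff.1 hic x hx).symm
  calc n ^ i * x * (n ^ i)⁻¹ = n ^ i * (((n ^ i)⁻¹ * m) * x * ((n ^ i)⁻¹ * m)⁻¹) * (n ^ i)⁻¹ := by
        rw [h1, mul_inv_cancel_right]
    _ = m * x * m⁻¹ := by group
    _ = y := hme.trans hg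

theorem pos (S : Setting Q n q) : 0 < q := lt_trans Nat.zero_lt_one S.one_lt

theorem q_ne_two (S : Setting Q n q) : q ≠ 2 := fun h => by
  have := Nat.odd_iff.1 S.odd
  omega

theorem two_lt (S : Setting Q n q) : 2 < q :=
  lt_of_le_of_ne S.one_lt (Ne.symm S.q_ne_two)

/-- An element of `Q` inverted by an element of the group is an involution. -/
theorem not_real (S : Setting Q n q) {x : X} (hx : x ∈ (Q : Subgroup X)) (h : IsConj x x⁻¹) :
    x * x = 1 := by
  rcases eq_or_ne x 1 with rfl | hx1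
  · simp
  obtain ⟨i, hi, hie⟩ := S.fusion hx (inv_mem hx) h
  have h2 : n ^ (2 * i) * x * (n ^ (2 * i))⁻¹ = x := by
    rw [two_mul, ← conj_pow_conj, hie]
    calc n ^ i * x⁻¹ * (n ^ i)⁻¹ = (n ^ i * x * (n ^ i)⁻¹)⁻¹ := by group
      _ = x := by rw [hie, inv_inv]
  have h3 : q ∣ i := (Nat.coprime_two_right.2 S.odd).dvd_of_dvd_mul_left (S.free hx hx1 h2)
  obtain rfl := Nat.eq_zero_of_dvd_of_lt h3 hi
  rw [pow_zero, one_mul, inv_one, mul_one] at hie
  exact mul_eq_one_iff_eq_inv.2 hie

/-- Centralisers of non-identity elements of `Q` have normal 2-complements. -/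
theorem complement (S : Setting Q n q) {u : X} (hu : u ∈ (Q : Subgroup X)) (hu1 : u ≠ 1) :
    Cfsg.HasNormalPComplement 2 (centralizer ({u} : Set X)) := by
  haveI : Fact (Nat.Prime 2) := ⟨Nat.prime_two⟩
  refine Transfer.hasNormalPComplement_of_normalizer_le_centralizer
    (Q.subtype (S.le_centralizer_singleton hu)) fun g hg => ?_
  have hgQ : (g : X) ∈ normalizer ((Q : Subgroup X) : Set X) := by
    rw [mem_normalizer_iff] at hg ⊢
    intro z
    by_cases hz : z ∈ centralizer ({u} : Set X)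
    · exact hg ⟨z, hz⟩
    · refine ⟨fun h => (hz (S.le_centralizer_singleton hu h)).elim, fun h => ?_⟩
      have := mul_mem (mul_mem (inv_mem g.2) (S.le_centralizer_singleton hu h)) g.2
      rw [show (g : X)⁻¹ * ((g : X) * z * (g : X)⁻¹) * g = z by group] at this
      exact (hz this).elim
  obtain ⟨i, hi, hic⟩ := S.gen _ hgQ
  have h1 := (mem_centralizer_iff.1 hic u hu).symm
  have h2 : (g : X) * u * (g : X)⁻¹ = u :=
    mul_inv_eq_iff_eq_mul.2 (mem_centralizer_singleton_iff.1 g.2)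
  have h3 : n ^ i * u * (n ^ i)⁻¹ = u := by
    calc n ^ i * u * (n ^ i)⁻¹
        = n ^ i * (((n ^ i)⁻¹ * g) * u * ((n ^ i)⁻¹ * g)⁻¹) * (n ^ i)⁻¹ := by
          rw [h1, mul_inv_cancel_right]
      _ = (g : X) * u * (g : X)⁻¹ := by group
      _ = u := h2
  obtain rfl := Nat.eq_zero_of_dvd_of_lt (S.free hu hu1 h3) hi
  rw [pow_zero, inv_one, one_mul] at hic
  exact mem_centralizer_iff.2 fun z hz => Subtype.ext (mem_centralizer_iff.1 hic z hz)

theorem mem_core (S : Setting Q n q) {u : X} (hu : u ∈ (Q : Subgroup X)) (hu1 : u ≠ 1) {s : X} :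
    s ∈ Cfsg.centralizerPPrimeCore 2 u ↔ Commute s u ∧ ¬ 2 ∣ orderOf s := by
  haveI : Fact (Nat.Prime 2) := ⟨Nat.prime_two⟩
  constructor
  · intro hs
    exact ⟨mem_centralizer_singleton_iff.1 (Signalizer.core_le_centralizer u hs), fun h =>
      Signalizer.not_dvd_card_core (p := 2) u (h.trans (Subgroup.orderOf_dvd_natCard _ hs))⟩
  · rintro ⟨hc, hodd⟩
    exact ⟨⟨s, mem_centralizer_singleton_iff.2 hc⟩,
      mem_core_of_complement (S.complement hu hu1) (by rwa [Subgroup.orderOf_mk]), rfl⟩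

theorem card_centralizer (S : Setting Q n q) {u : X} (hu : u ∈ (Q : Subgroup X)) (hu1 : u ≠ 1) :
    Nat.card (centralizer ({u} : Set X)) =
      Nat.card (Cfsg.centralizerPPrimeCore 2 u) * Nat.card (Q : Subgroup X) := by
  rw [card_of_complement (S.complement hu hu1) (Q.subtype (S.le_centralizer_singleton hu)),
    Cfsg.centralizerPPrimeCore, Cores.card_map_subtype, Sylow.coe_subtype,
    Cores.card_subgroupOf (S.le_centralizer_singleton hu)]

/-- The elements of `Q` conjugate to a given one form an orbit of `q` elements. -/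
theorem card_orbit (S : Setting Q n q) {u : X} (hu : u ∈ (Q : Subgroup X)) (hu1 : u ≠ 1) :
    Nat.card {x : (Q : Subgroup X) // IsConj u (x : X)} = q := by
  let e : Fin q → {x : (Q : Subgroup X) // IsConj u (x : X)} := fun i =>
    ⟨⟨n ^ (i : ℕ) * u * (n ^ (i : ℕ))⁻¹, S.conj_mem i hu⟩, isConj_iff.2 ⟨_, rfl⟩⟩
  have he : Function.Bijective e := by
    refine ⟨fun i j h => Fin.ext (S.conj_inj hu hu1 i.2 j.2
      (congrArg (fun x : {x : (Q : Subgroup X) // IsConj u (x : X)} => ((x : (Q : Subgroup X)) : X)) h)),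
      fun ⟨x, hx⟩ => ?_⟩
    obtain ⟨i, hi, hie⟩ := S.fusion hu x.2 hx
    exact ⟨⟨i, hi⟩, Subtype.ext (Subtype.ext hie)⟩
  rw [← Nat.card_congr (Equiv.ofBijective e he), Nat.card_fin]

open scoped Classical in
/-- The sum of a class function over the 2-singular elements, through the sections of `Q`. -/
theorem sum_singular [Fintype X] (S : Setting Q n q) (F : X → ℂ)
    (hF : ∀ g h : X, F (h * g * h⁻¹) = F g) :
    ∑ g ∈ Finset.univ.filter (fun g : X => 2 ∣ orderOf g), F g =
      (Nat.card X : ℂ) / ((q : ℂ) * Nat.card (Q : Subgroup X)) *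
        ∑ u ∈ Finset.univ.filter (fun u : (Q : Subgroup X) => u ≠ 1),
          (Nat.card (Cfsg.centralizerPPrimeCore 2 (u : X)) : ℂ)⁻¹ *
            ∑ s ∈ Finset.univ.filter (fun s : X => s ∈ Cfsg.centralizerPPrimeCore 2 (u : X)),
              F ((u : X) * s) := by
  haveI : Fact (Nat.Prime 2) := ⟨Nat.prime_two⟩
  let G : X → ℂ := fun w => ∑ g ∈ Finset.univ.filter (fun g : X => FrobSection.pp 2 g = w), F g
  have hG : ∀ w h, G (h * w * h⁻¹) = G w := by
    intro w h
    refine (Finset.sum_nbij' (fun g => h * g * h⁻¹) (fun g => h⁻¹ * g * h) ?_ ?_ ?_ ?_ ?_).symm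
    · intro g hg
      simp only [Finset.mem_coe, Finset.mem_filter, Finset.mem_univ, true_and] at hg ⊢
      rw [FrobSection.pp_conj, hg]
    · intro g hg
      simp only [Finset.mem_coe, Finset.mem_filter, Finset.mem_univ, true_and] at hg ⊢
      have := FrobSection.pp_conj (p := 2) h⁻¹ g
      rw [inv_inv] at this
      rw [this, hg]; group
    · intro g _; group
    · intro g _; group
    · intro g _; exact (hF g h).symm
  have hGu : ∀ u : (Q : Subgroup X), u ≠ 1 → G u =
      ∑ s ∈ Finset.univ.filter (fun s : X => s ∈ Cfsg.centralizerPPrimeCore 2 (u : X)),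
        F ((u : X) * s) := by
    intro u hu
    have hu1 : (u : X) ≠ 1 := fun h => hu (Subtype.ext h)
    have hord : ∃ k, orderOf (u : X) = 2 ^ k := by
      obtain ⟨k, hk⟩ := IsPGroup.iff_orderOf.1 Q.isPGroup' u
      exact ⟨k, by rw [← hk, Subgroup.orderOf_coe]⟩
    refine Finset.sum_nbij' (fun g => (u : X)⁻¹ * g) (fun s => (u : X) * s) ?_ ?_ ?_ ?_ ?_
    · intro g hg
      simp only [Finset.mem_coe, Finset.mem_filter, Finset.mem_univ, true_and] at hg ⊢
      obtain ⟨y, he, hc, -, hy⟩ := FrobSection.isPPart_pp (p := 2) g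
      rw [hg] at he hc
      rw [← he, inv_mul_cancel_left, S.mem_core u.2 hu1]
      exact ⟨hc.symm, hy⟩
    · intro s hs
      simp only [Finset.mem_coe, Finset.mem_filter, Finset.mem_univ, true_and] at hs ⊢
      obtain ⟨hc, hodd⟩ := (S.mem_core u.2 hu1).1 hs
      exact FrobSection.pp_eq ⟨s, rfl, hc.symm, hord, hodd⟩
    · intro g _; simp
    · intro s _; simp
    · intro g _; simp
  -- collect the singular elements by their 2-parts
  set W := Finset.univ.filter (fun w : X => w ≠ 1 ∧ ∃ k, orderOf w = 2 ^ k)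
  have hsplit : ∑ g ∈ Finset.univ.filter (fun g : X => 2 ∣ orderOf g), F g = ∑ w ∈ W, G w := by
    rw [← Finset.sum_fiberwise_of_maps_to (g := FrobSection.pp 2) (t := W)]
    · refine Finset.sum_congr rfl fun w hw => Finset.sum_congr ?_ fun _ _ => rfl
      ext g
      simp only [Finset.mem_filter, Finset.mem_univ, true_and, and_iff_right_iff_imp]
      intro hgw
      by_contra h
      rw [← FrobSection.pp_eq_one_iff, hgw] at h
      exact (Finset.mem_filter.1 hw).2.1 h
    · intro g hg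
      simp only [W, Finset.mem_coe, Finset.mem_filter, Finset.mem_univ, true_and] at hg ⊢
      exact ⟨fun h => FrobSection.pp_eq_one_iff.1 h hg, FrobSection.exists_orderOf_pp g⟩
  -- double counting of the conjugates of the elements of `Q`
  set U := Finset.univ.filter (fun u : (Q : Subgroup X) => u ≠ 1)
  let G' : X → ℂ := fun w => G w / (Nat.card (centralizer ({w} : Set X)) : ℂ)
  have hG' : ∀ w h, G' (h * w * h⁻¹) = G' w := by
    intro w h
    show G _ / _ = G w / _
    rw [hG]
    have e : Nat.card (centralizer ({h * w * h⁻¹} : Set X)) = Nat.card (centralizer ({w} : Set X)) :=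
      Nat.card_congr
        { toFun := fun c => ⟨h⁻¹ * c * h, mem_centralizer_singleton_iff.2 (by
            have := mem_centralizer_singleton_iff.1 c.2
            calc h⁻¹ * (c : X) * h * w = h⁻¹ * ((c : X) * (h * w * h⁻¹)) * h := by group
              _ = h⁻¹ * ((h * w * h⁻¹) * c) * h := by rw [this]
              _ = w * (h⁻¹ * (c : X) * h) := by group)⟩
          invFun := fun c => ⟨h * c * h⁻¹, mem_centralizer_singleton_iff.2 (by
            have := mem_centralizer_singleton_iff.1 c.2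
            calc h * (c : X) * h⁻¹ * (h * w * h⁻¹) = h * ((c : X) * w) * h⁻¹ := by group
              _ = h * (w * c) * h⁻¹ := by rw [this]
              _ = h * w * h⁻¹ * (h * (c : X) * h⁻¹) := by group)⟩
          left_inv := fun c => Subtype.ext (by simp [mul_assoc])
          right_inv := fun c => Subtype.ext (by simp [mul_assoc]) }
    rw [e]
  have hfib : ∀ w ∈ W, ((U ×ˢ (Finset.univ : Finset X)).filter
      (fun p => p.2 * (p.1 : X) * p.2⁻¹ = w)).card = q * Nat.card (centralizer ({w} : Set X)) := by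
    intro w hw
    obtain ⟨hw1, k, hk⟩ := (Finset.mem_filter.1 hw).2
    obtain ⟨u₀, hu₀⟩ := FrobSection.exists_rep Q w
    rw [FrobSection.pp_eq_self ⟨k, hk⟩] at hu₀
    have hu₀1 : (u₀ : X) ≠ 1 := fun h => hw1 (isConj_one_right.1 ((h ▸ hu₀).symm))
    have hinner : ∀ u : (Q : Subgroup X), IsConj (u₀ : X) u →
        (Finset.univ.filter (fun x : X => x * (u : X) * x⁻¹ = w)).card =
          Nat.card (centralizer ({w} : Set X)) := by
      intro u hu
      obtain ⟨c, hc⟩ := isConj_iff.1 (hu.symm.trans hu₀.symm)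
      rw [Nat.card_eq_fintype_card, ← Fintype.card_subtype]
      refine (Fintype.card_congr
        { toFun := fun d => ⟨(d : X) * c, by
            calc (d : X) * c * u * ((d : X) * c)⁻¹ = (d : X) * (c * u * c⁻¹) * (d : X)⁻¹ := by group
              _ = w := by rw [hc, mul_inv_eq_iff_eq_mul]; exact mem_centralizer_singleton_iff.1 d.2⟩
          invFun := fun x => ⟨(x : X) * c⁻¹, mem_centralizer_singleton_iff.2 (by
            rw [← mul_inv_eq_iff_eq_mul]
            calc (x : X) * c⁻¹ * w * ((x : X) * c⁻¹)⁻¹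
                = (x : X) * c⁻¹ * (c * u * c⁻¹) * ((x : X) * c⁻¹)⁻¹ := by rw [hc]
              _ = (x : X) * u * (x : X)⁻¹ := by group
              _ = w := x.2)⟩
          left_inv := fun d => Subtype.ext (mul_inv_cancel_right _ _)
          right_inv := fun x => Subtype.ext (inv_mul_cancel_right _ _) }).symm
    rw [Finset.card_eq_sum_ones, Finset.sum_filter, Finset.sum_product]
    trans ∑ u ∈ U, if IsConj (u₀ : X) u then Nat.card (centralizer ({w} : Set X)) else 0
    · refine Finset.sum_congr rfl fun u _ => ?_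
      simp only [← Finset.sum_filter, ← Finset.card_eq_sum_ones]
      split_ifs with h
      · exact hinner u h
      · refine Finset.card_eq_zero.2 (Finset.filter_eq_empty_iff.2 fun x _ hx => h ?_)
        exact hu₀.symm.trans (isConj_iff.2 ⟨x, hx⟩).symm
    rw [← Finset.sum_filter, Finset.sum_const, smul_eq_mul]
    congr 1
    rw [← S.card_orbit u₀.2 hu₀1, Nat.card_eq_fintype_card, Fintype.card_subtype]
    congr 1
    ext u
    simp only [U, Finset.mem_filter, Finset.mem_univ, true_and, and_iff_right_iff_imp]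
    exact fun h hu => hu₀1 (isConj_one_left.1 ((show (u : X) = 1 by rw [hu]; rfl) ▸ h))
  have hdouble : (Nat.card X : ℂ) * ∑ u ∈ U, G' u = (q : ℂ) * ∑ w ∈ W, G w := by
    have e1 : ∑ p ∈ U ×ˢ (Finset.univ : Finset X), G' (p.2 * (p.1 : X) * p.2⁻¹) =
        (Nat.card X : ℂ) * ∑ u ∈ U, G' u := by
      rw [Finset.sum_product, Finset.mul_sum]
      refine Finset.sum_congr rfl fun u _ => ?_
      simp only [hG', Finset.sum_const, Finset.card_univ, Nat.card_eq_fintype_card, nsmul_eq_mul]
    rw [← e1, ← Finset.sum_fiberwise_of_maps_to (g := fun p => p.2 * (p.1 : X) * p.2⁻¹) (t := W),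
      Finset.mul_sum]
    · refine Finset.sum_congr rfl fun w hw => ?_
      rw [Finset.sum_congr rfl (g := fun _ => G' w) fun p hp => by rw [(Finset.mem_filter.1 hp).2],
        Finset.sum_const, hfib w hw, nsmul_eq_mul]
      push_cast
      have : (Nat.card (centralizer ({w} : Set X)) : ℂ) ≠ 0 := Nat.cast_ne_zero.2 Nat.card_pos.ne'
      show (q : ℂ) * _ * (G w / _) = _
      field_simp
    · intro p hp
      simp only [U, W, Finset.mem_coe, Finset.mem_product, Finset.mem_filter,
        Finset.mem_univ, true_and, and_true] at hp ⊢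
      refine ⟨fun h => hp (Subtype.ext (conj_eq_one_iff.1 h)), ?_⟩
      obtain ⟨k, hk⟩ := IsPGroup.iff_orderOf.1 Q.isPGroup' p.1
      exact ⟨k, by rw [SecondMain.orderOf_conj, Subgroup.orderOf_coe, hk]⟩
  have hq0 : (q : ℂ) ≠ 0 := Nat.cast_ne_zero.2 S.pos.ne'
  rw [hsplit, div_mul_eq_mul_div, eq_div_iff (mul_ne_zero hq0 (Nat.cast_ne_zero.2 Nat.card_pos.ne'))]
  have hQ : (Nat.card (Q : Subgroup X) : ℂ) ≠ 0 := Nat.cast_ne_zero.2 Nat.card_pos.ne'
  have e2 : (Nat.card (Q : Subgroup X) : ℂ) * ∑ u ∈ U, G' u = ∑ u ∈ U,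
      (Nat.card (Cfsg.centralizerPPrimeCore 2 (u : X)) : ℂ)⁻¹ *
        ∑ s ∈ Finset.univ.filter (fun s : X => s ∈ Cfsg.centralizerPPrimeCore 2 (u : X)),
          F ((u : X) * s) := by
    rw [Finset.mul_sum]
    refine Finset.sum_congr rfl fun u hu => ?_
    have hu1 : (u : X) ≠ 1 := fun h => (Finset.mem_filter.1 hu).2 (Subtype.ext h)
    rw [← hGu u (Finset.mem_filter.1 hu).2]
    show _ * (G u / _) = _
    rw [S.card_centralizer u.2 hu1]
    push_cast
    field_simp
  rw [← e2]
  calc (∑ w ∈ W, G w) * ((q : ℂ) * Nat.card (Q : Subgroup X))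
      = ((q : ℂ) * ∑ w ∈ W, G w) * Nat.card (Q : Subgroup X) := by ring
    _ = _ := by rw [← hdouble]; ring

end Setting

end Cfsg.Agent.PrimeInertial
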